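import Cfsg.Agent.InvChar.Iso3D4.Core

/-!
The generated group is covered by the twelve cells, so all its elements are harmless.
-/

set_option autoImplicit false
set_option linter.unusedSectionVars false

namespace Cfsg.Agent.InvChar.Iso3D4

variable {F : Type*} [Field F] [Finite F] [CharP F 2] {α : F} (hα : α ^ 3 = α + 1)

local notation "G8" => GL (Fin 8) F

/-- The generated group. -/
def GG (α : F) : Subgroup G8 := Subgroup.closure {g | ∃ i < 20, Is α g (genM i)}

/-- A generator by its number. -/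
def InCells (α : F) (g : G8) : Prop :=
  ∃ e < 12, ∃ n : G8, Is α n (wL.getD e 0) ∧ ∃ a ∈ S α 0, ∃ b ∈ S α 0, g = a * n * b

include hα

theorem weyl_unit : ∀ e < 12, ∃ n : G8, Is α n (wL.getD e 0) := by
  intro e he
  have h := chk1_eq
  simp only [chk1, Bool.and_eq_true, List.all_eq_true, List.mem_range] at h
  obtain ⟨hlt, hw⟩ := h.1.2 e he
  rw [← Nat.eq_of_beq_eq_true hw, nWord]
  have : ∀ (w : List ℕ), (∀ s ∈ w, Nat.blt s 2 = true) → ∀ (g : G8) (a : ℕ), Is α g a →
      ∃ n : G8, Is α n (w.foldl (fun a s => mul2 a (nsL.getD s 0)) a) := by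
    intro w
    induction w with
    | nil => exact fun _ g a hg => ⟨g, hg⟩
    | cons s w ih =>
      intro hw g a hg
      obtain ⟨m, hm⟩ := ns_unit hα s (blt_lt (hw s List.mem_cons_self))
      exact ih (fun t ht => hw t (List.mem_cons_of_mem _ ht)) (g * m) _ (hg.mul hα hm)
  exact this _ hlt 1 _ (is_one α)

theorem cells_of_eq {g : G8} {m : ℕ} (hg : Is α g m) {c₁ e c₂ : ℕ} (h₁ : c₁ < 28672) (he : e < 12)
    (h₂ : c₂ < 28672) (h : Nat.beq m (mul2 (mul2 (elM c₁) (wL.getD e 0)) (elM c₂)) = true) :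
    InCells α g := by
  obtain ⟨a, ha, ha'⟩ := el0_mem hα h₁
  obtain ⟨b, hb, hb'⟩ := el0_mem hα h₂
  obtain ⟨n, hn⟩ := weyl_unit hα e he
  exact ⟨e, he, n, hn, a, ha, b, hb, hg.uniq ((ha'.mul hα hn).mul hα hb') h⟩

theorem cells_left {a g : G8} (ha : a ∈ S α 0) (h : InCells α g) : InCells α (a * g) := by
  obtain ⟨e, he, n, hn, x, hx, y, hy, rfl⟩ := h
  exact ⟨e, he, n, hn, a * x, mul_mem ha hx, y, hy, by group⟩

theorem cells_right {a g : G8} (ha : a ∈ S α 0) (h : InCells α g) : InCells α (g * a) := by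
  obtain ⟨e, he, n, hn, x, hx, y, hy, rfl⟩ := h
  exact ⟨e, he, n, hn, x, hx, y * a, mul_mem hy ha, by group⟩

theorem cells_one : InCells α (1 : G8) := by
  have h := chk1_eq
  simp only [chk1, Bool.and_eq_true, List.all_eq_true, List.mem_range] at h
  refine ⟨0, by norm_num, 1, ?_, 1, one_mem _, 1, one_mem _, by simp⟩
  rw [Nat.eq_of_beq_eq_true h.2]
  exact is_one α

theorem reflect_left_of {s : ℕ} (hs : s < 2) {mv bru : List (ℕ × ℕ × ℕ)} (hchk : chk4 s mv bru = true)
    {m : G8} (hm : Is α m (nsL.getD s 0)) {g : G8} (h : InCells α g) : InCells α (m * g) := by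
  simp only [chk4, Bool.and_eq_true, List.all_eq_true, List.mem_range, force_eq] at hchk
  have hzb : ∀ v < sz (s + 1), Mem α (S (F := F) α 0 : Set G8) (zb (s + 1) v) := fun v hv => by
    obtain ⟨z, hz, hz'⟩ := blk_unit hα (j := s + 1) (by omega) hv
    exact ⟨z, S_anti (Nat.zero_le _) hz, hz'⟩
  -- every element of the Borel group is a product
  have dec : ∀ x ∈ S α 0, ∃ v < sz (s + 1), ∃ z p p' : G8,
      Is α z (zb (s + 1) v) ∧ p' ∈ S α 0 ∧ m * p = p' * m ∧ x = p * z := by
    intro x hx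
    refine closure_ind (P := fun x => ∃ v < sz (s + 1), ∃ z p p' : G8,
      Is α z (zb (s + 1) v) ∧ p' ∈ S α 0 ∧ m * p = p' * m ∧ x = p * z) ?_ ?_ hx
    · have h : ∀ j < 3, 0 < sz j ∧ zb j 0 = oneM := by decide +kernel
      exact ⟨0, (h _ (by omega)).1, 1, 1, 1, by rw [(h _ (by omega)).2]; exact is_one α, one_mem _, by simp, by simp⟩
    rintro u - y ⟨k, hk, -, hy⟩ ⟨v, hv, z, p, p', hz, hp', hmp, rfl⟩
    obtain ⟨⟨⟨⟨h1, h2⟩, h3⟩, e1⟩, e2⟩ := (hchk v hv).1 k hk
    obtain ⟨z', -, hz'⟩ := hzb _ (blt_lt h1)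
    obtain ⟨q, -, hq⟩ := el0_mem hα (blt_lt h2)
    obtain ⟨q', hq'S, hq'⟩ := el0_mem hα (blt_lt h3)
    have a1 : z * y = q * z' := (hz.mul hα hy).uniq (hq.mul hα hz') e1
    have a2 : m * q = q' * m := (hm.mul hα hq).uniq (hq'.mul hα hm) e2
    refine ⟨_, blt_lt h1, z', p * q, p' * q', hz', mul_mem hp' hq'S, ?_, ?_⟩
    · rw [← mul_assoc, hmp, mul_assoc, a2, ← mul_assoc]
    · rw [mul_assoc, a1, ← mul_assoc]
  obtain ⟨e, he, n, hn, x, hx, y, hy, rfl⟩ := h
  obtain ⟨v, hv, z, p, p', hz, hp', hmp, rfl⟩ := dec x hx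
  obtain ⟨⟨⟨h1, h2⟩, h3⟩, e1⟩ := (hchk v hv).2 e he
  have : InCells α (m * z * n) := cells_of_eq hα ((hm.mul hα hz).mul hα hn) (blt_lt h1) (blt_lt h2) (blt_lt h3) e1
  rw [show m * (p * z * n * y) = (m * p) * z * n * y by group, hmp,
    show p' * m * z * n * y = p' * (m * z * n * y) by group]
  exact cells_left hα hp' (cells_right hα hy this)

theorem reflect_left {s : ℕ} (hs : s < 2) {m : G8} (hm : Is α m (nsL.getD s 0)) {g : G8} (h : InCells α g) :
    InCells α (m * g) := by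
  rcases Nat.lt_succ_iff_lt_or_eq.1 hs with h0 | rfl
  · obtain rfl : s = 0 := by omega
    exact reflect_left_of hα hs chk4a_eq hm h
  · exact reflect_left_of hα hs chk4b_eq hm h

theorem gen_cells {i : ℕ} (hi : i < 20) {g : G8} (hg : Is α g (genM i)) : InCells α g := by
  have h := chk5_eq
  simp only [chk5, Bool.and_eq_true, List.all_eq_true, List.mem_range] at h
  obtain ⟨⟨⟨h1, h2⟩, h3⟩, e⟩ := h.1 i hi
  exact cells_of_eq hα hg (blt_lt h1) (blt_lt h2) (blt_lt h3) e

theorem weyl_left {e : ℕ} (he : e < 12) {n : G8} (hn : Is α n (wL.getD e 0)) {g : G8} (h : InCells α g) :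
    InCells α (n * g) := by
  have hc := chk1_eq
  simp only [chk1, Bool.and_eq_true, List.all_eq_true, List.mem_range] at hc
  obtain ⟨hlt, hw⟩ := hc.1.2 e he
  rw [← Nat.eq_of_beq_eq_true hw, nWord] at hn
  have : ∀ (w : List ℕ), (∀ s ∈ w, Nat.blt s 2 = true) → ∀ (u : G8) (a : ℕ), Is α u a →
      (∀ g, InCells α g → InCells α (u * g)) → ∀ v : G8,
        Is α v (w.foldl (fun a s => mul2 a (nsL.getD s 0)) a) → ∀ g, InCells α g → InCells α (v * g) := by
    intro w
    induction w with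
    | nil =>
      intro _ u a hu hP v hv g hg
      rw [show v = u from Units.ext (hv.trans hu.symm)]
      exact hP g hg
    | cons s w ih =>
      intro hw u a hu hP v hv
      obtain ⟨m, hm⟩ := ns_unit hα s (blt_lt (hw s List.mem_cons_self))
      refine ih (fun t ht => hw t (List.mem_cons_of_mem _ ht)) (u * m) _ (hu.mul hα hm) (fun g hg => ?_) v hv
      rw [mul_assoc]
      exact hP _ (reflect_left hα (blt_lt (hw s List.mem_cons_self)) hm hg)
  exact this _ hlt 1 _ (is_one α) (fun g hg => by rwa [one_mul]) n hn g h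

theorem gg_cells {g : G8} (hg : g ∈ GG α) : InCells α g := by
  have key : ∀ x : G8, x ∈ GG α → ∀ y, InCells α y → InCells α (x * y) := by
    intro x hx
    refine closure_ind (P := fun x => ∀ y, InCells α y → InCells α (x * y)) (fun y hy => by rwa [one_mul]) ?_ hx
    rintro u - v ⟨i, hi, hv⟩ ih y hy
    obtain ⟨e, he, n, hn, a, ha, b, hb, rfl⟩ := gen_cells hα hi hv
    rw [mul_assoc]
    refine ih _ ?_
    rw [show a * n * b * y = a * (n * (b * y)) by group]
    exact cells_left hα ha (weyl_left hα he hn (cells_left hα hb hy))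
  simpa using key g hg 1 (cells_one hα)

theorem gg_word {L : List ℕ} (hL : ∀ i ∈ L, Nat.blt i 20 = true) :
    Mem α (GG (F := F) α : Set G8) (L.foldl (fun a g => mul2 a (genM g)) oneM) := by
  have : ∀ (L : List ℕ), (∀ i ∈ L, Nat.blt i 20 = true) → ∀ a, Mem α (GG (F := F) α : Set G8) a →
      Mem α (GG (F := F) α : Set G8) (L.foldl (fun a g => mul2 a (genM g)) a) := by
    intro L
    induction L with
    | nil => exact fun _ a ha => ha
    | cons i L ih =>
      intro hL a ha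
      refine ih (fun t ht => hL t (List.mem_cons_of_mem _ ht)) _ (ha.mul hα ?_)
      obtain ⟨m, hm⟩ : ∃ m : G8, Is α m (genM i) := by
        have h := chk5_eq
        simp only [chk5, Bool.and_eq_true, List.all_eq_true, List.mem_range] at h
        have hi := blt_lt (hL i List.mem_cons_self)
        obtain ⟨⟨⟨h1, h2⟩, h3⟩, e⟩ := h.1 i hi
        obtain ⟨a, -, ha⟩ := el0_mem hα (blt_lt h1)
        obtain ⟨n, hn⟩ := weyl_unit hα _ (blt_lt h2)
        obtain ⟨b, -, hb⟩ := el0_mem hα (blt_lt h3)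
        exact ⟨a * n * b, by rw [Nat.eq_of_beq_eq_true e]; exact (ha.mul hα hn).mul hα hb⟩
      exact ⟨m, Subgroup.subset_closure ⟨i, blt_lt (hL i List.mem_cons_self), hm⟩, hm⟩
  exact this L hL oneM ⟨1, one_mem _, is_one α⟩

theorem letters_le : S (F := F) α 0 ≤ GG α ∧ ∀ s < 2, ∀ m : G8, Is α m (nsL.getD s 0) → m ∈ GG α := by
  have h := chk5_eq
  simp only [chk5, Bool.and_eq_true, List.all_eq_true, List.mem_range] at h
  constructor
  · rw [S, Subgroup.closure_le]
    rintro g ⟨k, hk, -, hg⟩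
    obtain ⟨h1, h2⟩ := h.2 k (by omega)
    obtain ⟨w, hw, hwm⟩ := gg_word hα (L := letW.getD k []) (by simpa using h1)
    have h2' : Nat.beq ((letW.getD k []).foldl (fun a g => mul2 a (genM g)) oneM) (glM k) = true := by
      revert h2
      interval_cases k <;> exact id
    rwa [hg.uniq hwm (by rw [Nat.eq_of_beq_eq_true h2']; exact Nat.beq_refl _)]
  · intro s hs m hm
    obtain ⟨h1, h2⟩ := h.2 (13 + s) (by omega)
    obtain ⟨w, hw, hwm⟩ := gg_word hα (L := letW.getD (13 + s) []) (by simpa using h1)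
    have h2' : Nat.beq ((letW.getD (13 + s) []).foldl (fun a g => mul2 a (genM g)) oneM) (nsL.getD s 0) = true := by
      revert h2
      interval_cases s <;> exact id
    rwa [hm.uniq hwm (by rw [Nat.eq_of_beq_eq_true h2']; exact Nat.beq_refl _)]

theorem cell_harmless {e : ℕ} (he : e < 12) {n : G8} (hn : Is α n (wL.getD e 0)) {s : G8} (hs : s ∈ S α 0) :
    GoodG (s * n) := by
  interval_cases e
  · exact cell_good hα cell0_eq hn s hs
  · exact cell_good hα cell1_eq hn s hs
  · exact cell_good hα cell2_eq hn s hs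
  · exact cell_good hα cell3_eq hn s hs
  · exact cell_good hα cell4_eq hn s hs
  · exact cell_good hα cell5_eq hn s hs
  · exact cell_good hα cell6_eq hn s hs
  · exact cell_good hα cell7_eq hn s hs
  · exact cell_good hα cell8_eq hn s hs
  · exact cell_good hα cell9_eq hn s hs
  · exact cell_good hα cell10_eq hn s hs
  · exact cell_good hα cell11_eq hn s hs

theorem harmless {g : G8} (hg : g ∈ GG α) : GoodG g := by
  obtain ⟨e, he, n, hn, a, ha, b, hb, rfl⟩ := gg_cells hα hg
  have h := good_conj b⁻¹ (cell_harmless hα he hn (mul_mem hb ha))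
  rwa [show b⁻¹ * (b * a * n) * b⁻¹⁻¹ = a * n * b by group] at h

theorem weyl_mem {e : ℕ} (he : e < 12) {n : G8} (hn : Is α n (wL.getD e 0)) : n ∈ GG α := by
  have hc := chk1_eq
  simp only [chk1, Bool.and_eq_true, List.all_eq_true, List.mem_range] at hc
  obtain ⟨hlt, hw⟩ := hc.1.2 e he
  rw [← Nat.eq_of_beq_eq_true hw, nWord] at hn
  have : ∀ (w : List ℕ), (∀ s ∈ w, Nat.blt s 2 = true) → ∀ a, Mem α (GG (F := F) α : Set G8) a →
      Mem α (GG (F := F) α : Set G8) (w.foldl (fun a s => mul2 a (nsL.getD s 0)) a) := by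
    intro w
    induction w with
    | nil => exact fun _ a ha => ha
    | cons s w ih =>
      intro hw a ha
      obtain ⟨m, hm⟩ := ns_unit hα s (blt_lt (hw s List.mem_cons_self))
      exact ih (fun t ht => hw t (List.mem_cons_of_mem _ ht)) _ (ha.mul hα
        ⟨m, (letters_le hα).2 s (blt_lt (hw s List.mem_cons_self)) m hm, hm⟩)
  obtain ⟨v, hv, hvm⟩ := this _ hlt oneM ⟨1, one_mem _, is_one α⟩
  rwa [show n = v from Units.ext (hn.trans hvm.symm)]

/-- Elements of the six maximal orders occur. -/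
theorem exists_order : ∀ o, inB o = true → ∃ g ∈ GG (F := F) α, orderOf g = o := by
  intro o ho
  have h := chk6_eq
  simp only [chk6, Bool.and_eq_true, beq_iff_eq, List.all_eq_true, force_eq] at h
  obtain ⟨hmap, hall⟩ := h
  have ho' : o ∈ [8, 12, 13, 18, 21, 28] := by simpa [inB] using ho
  have hlt : o < 32 := (by decide : ∀ x ∈ ([8, 12, 13, 18, 21, 28] : List ℕ), x < 32) o ho'
  rw [← hmap, List.mem_map] at ho'
  obtain ⟨d, hd, rfl⟩ := ho'
  obtain ⟨⟨h1, h2⟩, h3, h4⟩ := hall d hd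
  obtain ⟨a, ha, ham⟩ := el0_mem hα (blt_lt h1)
  obtain ⟨n, hn⟩ := weyl_unit hα _ (blt_lt h2)
  refine ⟨a * n, mul_mem ((letters_le hα).1 ha) (weyl_mem hα (blt_lt h2) hn), ?_⟩
  have hg := ham.mul hα hn
  obtain ⟨P, T, hP, -, hk⟩ := psK_spec (β := Bool) hα hg 5 d.1 hlt
  rw [hk] at h3
  have hpos : 0 < d.1 := by
    rcases Nat.eq_zero_or_pos d.1 with e | e
    · rw [e] at ho; exact absurd ho (by decide)
    · exact e
  refine (orderOf_eq_iff hpos).2 ⟨hP.uniq (is_one α) h3, fun i hi hi0 e => ?_⟩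
  simp only [List.mem_range, Bool.or_eq_true] at h4
  rcases h4 i hi with h5 | h5
  · exact absurd (Nat.eq_of_beq_eq_true h5) (by omega)
  obtain ⟨P', T', hP', -, hk'⟩ := psK_spec (β := Bool) hα hg 5 i (by norm_num; omega)
  rw [hk'] at h5
  rw [e] at hP'
  exact toM_ne_one hα h5 (hP'.symm.trans Units.val_one)

end Cfsg.Agent.InvChar.Iso3D4
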