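import Cfsg.Agent.InvChar.Iso3D4.Trees0

/-! The kernel runs the checks of cells. -/

set_option autoImplicit false

namespace Cfsg.Agent.InvChar.Iso3D4

theorem cell0_eq : cellOk 0 cert0 = true := by decide +kernel
theorem cell1_eq : cellOk 1 cert1 = true := by decide +kernel
theorem cell2_eq : cellOk 2 cert2 = true := by decide +kernel
theorem cell3_eq : cellOk 3 cert3 = true := by decide +kernel
theorem cell4_eq : cellOk 4 cert4 = true := by decide +kernel
theorem cell5_eq : cellOk 5 cert5 = true := by decide +kernel
theorem cell6_eq : cellOk 6 cert6 = true := by decide +kernel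
theorem cell7_eq : cellOk 7 cert7 = true := by decide +kernel
theorem cell8_eq : cellOk 8 cert8 = true := by decide +kernel

end Cfsg.Agent.InvChar.Iso3D4
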