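import Cfsg.Agent.InvChar.Iso3D4.Trees2

/-! The kernel runs the checks of cells. -/

set_option autoImplicit false

namespace Cfsg.Agent.InvChar.Iso3D4

theorem cell10_eq : cellOk 10 cert10 = true := by decide +kernel

end Cfsg.Agent.InvChar.Iso3D4
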