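import Cfsg.Agent.InvChar.Iso3D4.Packed
import Cfsg.Agent.InvChar.Iso3D4.Data

/-!
Checks of the certificate: Bruhat cells, twisted classes of the Borel group, and the orders.
-/

set_option autoImplicit false

namespace Cfsg.Agent.InvChar.Iso3D4

/-- A product with both factors evaluated. -/
def mul2 (a b : ℕ) : ℕ := force a fun a => force b fun b => force (mulM a b) fun c => c

theorem mul2_eq (a b : ℕ) : mul2 a b = mulM a b := by simp [mul2, force_eq]

/-- Levels of the unipotent letters. -/
def lvL : List ℕ := [1, 2, 2, 2, 3, 3, 3, 4, 4, 4, 5, 6]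

/-- The first letter of a level. -/
def st (j : ℕ) : ℕ := [0, 0, 1, 4, 7, 10, 11].getD j 12

/-- The sizes of the levels. -/
def sz (j : ℕ) : ℕ := [7, 2, 8, 8, 8, 2, 2].getD j 0

/-- The letters: the torus element, then the unipotent ones. -/
def glM (k : ℕ) : ℕ :=
  match k with
  | 0 => tpL.getD 1 0
  | l + 1 => zL.getD l 0

/-- Product of the selected letters. -/
def elGo : List ℕ → ℕ → ℕ → ℕ
  | [], _, acc => acc
  | z :: t, c, acc => bif Nat.beq (c % 2) 0 then elGo t (c / 2) acc
      else force (mulM acc z) fun a => elGo t (c / 2) a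

/-- The element with a code. -/
def elM (c : ℕ) : ℕ := force (elGo zL (c % 4096) (tpL.getD (c / 4096) 0)) fun a => a

/-- Codes of the elements of a level. -/
def isEl (j c : ℕ) : Bool :=
  Nat.blt c 28672 && (Nat.beq j 0 || (Nat.blt c 4096 && Nat.beq (c % 2 ^ st j) 0))

/-- The code of a digit. -/
def dcode (j v : ℕ) : ℕ :=
  match j with
  | 0 => v * 4096
  | j + 1 => v * 2 ^ st (j + 1)

/-- The element of a digit. -/
def zb (j v : ℕ) : ℕ := elM (dcode j v)

/-- Powers and sums of powers. -/
def psK {α : Type} (g : ℕ) : ℕ → ℕ → (ℕ → ℕ → α) → α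
  | 0, _, k => k oneM 0
  | f + 1, o, k => bif Nat.beq o 0 then k oneM 0 else
      psK g f (o / 2) fun P S => force (mulM P P) fun P₂ => force (Nat.xor S (mul2 P S)) fun S₂ =>
        bif Nat.beq (o % 2) 0 then k P₂ S₂
        else force (mulM P₂ g) fun P₃ => force (Nat.xor S₂ P₂) fun S₃ => k P₃ S₃

/-- Orders whose double is an element order. -/
def inA (o : ℕ) : Bool := [1, 2, 3, 4, 6, 7, 9, 14].contains o

/-- The maximal element orders. -/
def inB (o : ℕ) : Bool := [8, 12, 13, 18, 21, 28].contains o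

/-- An element is harmless. -/
def goodb (g o : ℕ) : Bool :=
  Nat.blt o 32 && psK g 5 o fun P S => Nat.beq P oneM && (inA o || (inB o && Nat.beq S 0))

/-- A certificate tree. -/
inductive Cert
  | lf (o : ℕ)
  | sh (p : ℕ)
  | nil
  | cons (hd tl : Cert)

/-- The child with an index is not a shift. -/
def keptAt : Cert → ℕ → Bool
  | .cons hd _, 0 => match hd with
    | .lf _ => true
    | .cons _ _ => true
    | _ => false
  | .cons _ tl, v + 1 => keptAt tl v
  | _, _ => false

/-- The check of a shift. -/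
def shiftOk (N j r rz p : ℕ) (S : Cert) : Bool :=
  let y := p / 35184372088832
  let yp := p / 1073741824 % 32768
  let v₀ := p / 32768 % 32768
  let tc := p % 32768
  Nat.blt v₀ (sz j) && keptAt S v₀ && Nat.blt y 28672 && Nat.blt yp 28672 && isEl (j + 1) tc &&
    force (elM y) fun ym => force (elM yp) fun ypm =>
      Nat.beq (mul2 N ym) (mul2 ypm N) &&
        Nat.beq (mul2 ym rz) (mul2 (mul2 (mul2 r (zb j v₀)) (elM tc)) ypm)

/-- The check of a tree for the cell of `N`. -/
def chk (N : ℕ) : Cert → ℕ → ℕ → ℕ → Cert → Bool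
  | .nil, j, v, _, _ => Nat.beq v (sz j)
  | .cons hd tl, j, v, r, S =>
    force (mul2 r (zb j v)) fun rz =>
      (match hd with
        | .lf o => Nat.beq j 6 && goodb (mul2 rz N) o
        | .sh p => shiftOk N j r rz p S
        | .cons a b => Nat.blt j 6 && chk N (.cons a b) (j + 1) 0 rz (.cons a b)
        | .nil => false) && chk N tl j (v + 1) r S
  | _, _, _, _, _ => false

/-- The check of the tree of one cell. -/
def cellOk (e : ℕ) (t : Cert) : Bool := chk (wL.getD e 0) t 0 0 oneM t

/-- The product of a word of reflections. -/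
def nWord (w : List ℕ) : ℕ := w.foldl (fun a s => mul2 a (nsL.getD s 0)) oneM

/-- Letters, their inverses, and the Weyl elements. -/
def chk1 : Bool :=
  Nat.beq (tpL.getD 0 0) oneM &&
  ((List.range 6).all fun k => Nat.beq (tpL.getD (k + 1) 0) (mul2 (tpL.getD k 0) (glM 0))) &&
  Nat.beq (mul2 (glM 0) (tpL.getD 6 0)) oneM && Nat.beq (mul2 (tpL.getD 6 0) (glM 0)) oneM &&
  ((List.range 12).all fun l => Nat.beq (mul2 (glM (l + 1)) (glM (l + 1))) oneM) &&
  ((List.range 2).all fun s => Nat.beq (mul2 (nsL.getD s 0) (nsL.getD s 0)) oneM) &&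
  ((List.range 12).all fun e => (ewL.getD e []).all (fun s => Nat.blt s 2) &&
    Nat.beq (nWord (ewL.getD e [])) (wL.getD e 0)) &&
  Nat.beq (wL.getD 0 0) oneM

/-- Conjugates of letters. -/
def chk2 : Bool :=
  (List.range 13).all fun a => (List.range 12).all fun l =>
    let c := conjT.getD (12 * a + l) 0
    isEl (lvL.getD l 0) c && Nat.beq (mul2 (glM a) (glM (l + 1))) (mul2 (elM c) (glM a))

/-- The position of a product in a block. -/
def blkPos (j v i : ℕ) : ℕ := [0, 7, 9, 33, 57, 81, 83].getD j 0 + v * [1, 1, 3, 3, 3, 1, 1].getD j 0 + i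

/-- Products inside a block. -/
def chk3 : Bool :=
  (List.range 7).all fun j => (List.range (sz j)).all fun v =>
    (List.range ([1, 1, 3, 3, 3, 1, 1].getD j 0)).all fun i =>
      let d := blkT.getD (blkPos j v i) (0, 0)
      let k := match j with
        | 0 => 0
        | j + 1 => st (j + 1) + i + 1
      Nat.blt d.1 (sz j) && isEl (j + 1) d.2 &&
        Nat.beq (mul2 (zb j v) (glM k)) (mul2 (zb j d.1) (elM d.2))

/-- A reflection against one root block and the cells. -/
def chk4 (s : ℕ) (mv bru : List (ℕ × ℕ × ℕ)) : Bool :=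
  (List.range (sz (s + 1))).all fun v =>
    force (zb (s + 1) v) fun zv =>
      ((List.range 13).all fun k =>
        let d := mv.getD (13 * v + k) (0, 0, 0)
        Nat.blt d.1 (sz (s + 1)) && Nat.blt d.2.1 28672 && Nat.blt d.2.2 28672 &&
          Nat.beq (mul2 zv (glM k)) (mul2 (elM d.2.1) (zb (s + 1) d.1)) &&
          Nat.beq (mul2 (nsL.getD s 0) (elM d.2.1)) (mul2 (elM d.2.2) (nsL.getD s 0))) &&
      ((List.range 12).all fun e =>
        let d := bru.getD (12 * v + e) (0, 0, 0)
        Nat.blt d.1 28672 && Nat.blt d.2.1 12 && Nat.blt d.2.2 28672 &&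
          Nat.beq (mul2 (mul2 (nsL.getD s 0) zv) (wL.getD e 0))
            (mul2 (mul2 (elM d.1) (wL.getD d.2.1 0)) (elM d.2.2)))

/-- A matrix of one root element, by the two positions of its entries. -/
def xrM (r c : ℕ) : ℕ :=
  let ab := [(4, 5), (4, 6), (4, 3), (4, 7), (4, 2), (4, 1), (5, 6), (5, 3), (5, 7), (5, 2), (6, 3), (6, 7),
    (2, 3), (2, 7), (1, 6), (1, 3), (1, 7), (1, 2), (0, 5), (0, 6), (0, 3), (0, 7), (0, 2), (0, 1)].getD r (0, 0)
  Nat.xor oneM (Nat.xor (Nat.shiftLeft c (32 * ab.2 + 4 * ((ab.1 + 4) % 8)))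
    (Nat.shiftLeft c (32 * ab.1 + 4 * ((ab.2 + 4) % 8))))

/-- The matrix of a generator. -/
def genM (g : ℕ) : ℕ := (genW.getD g []).foldl (fun a p => mul2 a (xrM p.1 p.2)) oneM

/-- Generators lie in cells, and letters are words in generators. -/
def chk5 : Bool :=
  ((List.range 20).all fun g =>
    let d := genX.getD g (0, 0, 0)
    Nat.blt d.1 28672 && Nat.blt d.2.1 12 && Nat.blt d.2.2 28672 &&
      Nat.beq (genM g) (mul2 (mul2 (elM d.1) (wL.getD d.2.1 0)) (elM d.2.2))) &&
  ((List.range 15).all fun k =>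
    (letW.getD k []).all (fun g => Nat.blt g 20) &&
    Nat.beq ((letW.getD k []).foldl (fun a g => mul2 a (genM g)) oneM)
      (match k with
        | 13 => nsL.getD 0 0
        | 14 => nsL.getD 1 0
        | _ => glM k))

/-- Witnesses of the maximal orders. -/
def chk6 : Bool :=
  (witL.map fun d => d.1) == [8, 12, 13, 18, 21, 28] &&
  witL.all fun d => Nat.blt d.2.1 28672 && Nat.blt d.2.2 12 &&
    force (mul2 (elM d.2.1) (wL.getD d.2.2 0)) fun g =>
      (psK g 5 d.1 fun P _ => Nat.beq P oneM) &&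
        (List.range d.1).all fun i => Nat.beq i 0 || psK g 5 i fun P _ => neOne P

end Cfsg.Agent.InvChar.Iso3D4
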