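import Cfsg.Agent.InvChar.Iso3D4.Cert

/-! The kernel runs the small checks. -/

set_option autoImplicit false

namespace Cfsg.Agent.InvChar.Iso3D4

theorem chk1_eq : chk1 = true := by decide +kernel
theorem chk2_eq : chk2 = true := by decide +kernel
theorem chk3_eq : chk3 = true := by decide +kernel
theorem chk4a_eq : chk4 0 mvT0 bruT0 = true := by decide +kernel
theorem chk4b_eq : chk4 1 mvT1 bruT1 = true := by decide +kernel
theorem chk5_eq : chk5 = true := by decide +kernel
theorem chk6_eq : chk6 = true := by decide +kernel

end Cfsg.Agent.InvChar.Iso3D4
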