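import Cfsg.Agent.InvChar.Iso3D4.Checks
import Cfsg.Agent.InvChar.Iso3D4.Cells0
import Cfsg.Agent.InvChar.Iso3D4.Cells1
import Cfsg.Agent.InvChar.Iso3D4.Cells2
import Cfsg.Agent.InvChar.Iso3D4.Cells3

/-!
Soundness of the certificate over a field of characteristic two.
-/

set_option autoImplicit false
set_option linter.unusedSectionVars false

namespace Cfsg.Agent.InvChar.Iso3D4

open Matrix

variable {F : Type*} [Field F] [Finite F] [CharP F 2] {α : F} (hα : α ^ 3 = α + 1)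

local notation "G8" => GL (Fin 8) F

/-- The element has a given packed matrix. -/
def Is (α : F) (g : G8) (m : ℕ) : Prop := (g : Matrix (Fin 8) (Fin 8) F) = toM α m

/-- Some element of the set has the packed matrix. -/
def Mem (α : F) (S : Set G8) (m : ℕ) : Prop := ∃ g ∈ S, Is α g m

variable (α) in
theorem is_one : Is α (1 : G8) oneM := (toM_oneM (α := α)).symm

include hα

theorem Is.mul {g h : G8} {a b : ℕ} (hg : Is α g a) (hh : Is α h b) : Is α (g * h) (mul2 a b) := by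
  rw [Is, Units.val_mul, hg, hh, mul2_eq, toM_mulM hα]

theorem Is.mulM' {g h : G8} {a b : ℕ} (hg : Is α g a) (hh : Is α h b) : Is α (g * h) (mulM a b) := by
  rw [← mul2_eq]; exact hg.mul hα hh

omit hα in
theorem Is.uniq {g h : G8} {a b : ℕ} (hg : Is α g a) (hh : Is α h b) (e : Nat.beq a b = true) : g = h := by
  apply Units.ext
  rw [hg, hh, Nat.eq_of_beq_eq_true e]

theorem Mem.mul {S : Subgroup G8} {a b : ℕ} (ha : Mem α (S : Set G8) a) (hb : Mem α (S : Set G8) b) :
    Mem α (S : Set G8) (mul2 a b) := by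
  obtain ⟨g, hg, hga⟩ := ha
  obtain ⟨h, hh, hhb⟩ := hb
  exact ⟨g * h, S.mul_mem hg hh, hga.mul hα hhb⟩

omit hα in
theorem blt_lt {a b : ℕ} (h : Nat.blt a b = true) : a < b := by
  simpa [Nat.blt] using h

/-- The level of a letter. -/
def lev : ℕ → ℕ
  | 0 => 0
  | l + 1 => lvL.getD l 0

theorem letter_unit : ∀ k < 13, ∃ g : G8, Is α g (glM k) := by
  intro k hk
  have h := chk1_eq
  simp only [chk1, Bool.and_eq_true, List.all_eq_true, List.mem_range] at h
  obtain ⟨⟨⟨⟨⟨⟨⟨-, -⟩, hT⟩, hT'⟩, hz⟩, -⟩, -⟩, -⟩ := h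
  have e : ∀ {a b : ℕ}, Nat.beq (mul2 a b) oneM = true → toM α a * toM α b = 1 := by
    intro a b h
    rw [← toM_mulM hα, ← mul2_eq, Nat.eq_of_beq_eq_true h, toM_oneM]
  rcases k with _ | l
  · exact ⟨⟨toM α (glM 0), toM α (tpL.getD 6 0), e hT, e hT'⟩, rfl⟩
  · exact ⟨⟨toM α (glM (l + 1)), toM α (glM (l + 1)), e (hz l (by omega)), e (hz l (by omega))⟩, rfl⟩

theorem ns_unit : ∀ s < 2, ∃ g : G8, Is α g (nsL.getD s 0) := by
  intro s hs
  have h := chk1_eq
  simp only [chk1, Bool.and_eq_true, List.all_eq_true, List.mem_range] at h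
  obtain ⟨⟨⟨-, hn⟩, -⟩, -⟩ := h
  have e : toM α (nsL.getD s 0) * toM α (nsL.getD s 0) = 1 := by
    rw [← toM_mulM hα, ← mul2_eq, Nat.eq_of_beq_eq_true (hn s hs), toM_oneM]
  exact ⟨⟨_, _, e, e⟩, rfl⟩

omit hα in
/-- The subgroup of a level. -/
def S (α : F) (j : ℕ) : Subgroup G8 :=
  Subgroup.closure {g | ∃ k < 13, j ≤ lev k ∧ Is α g (glM k)}

omit hα in
theorem S_anti {i j : ℕ} (h : i ≤ j) : S (F := F) α j ≤ S α i :=
  Subgroup.closure_mono fun _ ⟨k, hk, hl, hg⟩ => ⟨k, hk, h.trans hl, hg⟩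

omit hα in
theorem S_seven : S (F := F) α 7 = ⊥ := by
  have h : ∀ k < 13, lev k < 7 := by decide
  rw [S, Subgroup.closure_eq_bot_iff]
  rintro g ⟨k, hk, hl, -⟩
  exact absurd hl (by have := h k hk; omega)

theorem letter_mem {k j : ℕ} (hk : k < 13) (hj : j ≤ lev k) : Mem α (S (F := F) α j : Set G8) (glM k) := by
  obtain ⟨g, hg⟩ := letter_unit hα k hk
  exact ⟨g, Subgroup.subset_closure ⟨k, hk, hj, hg⟩, hg⟩

theorem elGo_mem (S : Subgroup G8) : ∀ (L : List ℕ) (c acc : ℕ), Mem α (S : Set G8) acc →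
    (∀ i < L.length, c.testBit i = true → Mem α (S : Set G8) (L.getD i 0)) →
    Mem α (S : Set G8) (elGo L c acc)
  | [], _, _, h, _ => h
  | z :: L, c, acc, h, hL => by
    have hrec : ∀ a, Mem α (S : Set G8) a → Mem α (S : Set G8) (elGo L (c / 2) a) := fun a ha =>
      elGo_mem S L (c / 2) a ha fun i hi hb => by
        have := hL (i + 1) (by simp; omega) (by rwa [Nat.testBit_succ])
        simpa using this
    rw [elGo]
    rcases Nat.mod_two_eq_zero_or_one c with e | e <;> rw [e]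
    · exact hrec _ h
    · simp only [Nat.beq, cond_false, force_eq]
      refine hrec _ ?_
      have hz := hL 0 (by simp) (by simp [Nat.testBit_zero, e])
      obtain ⟨g, hg, hga⟩ := h
      obtain ⟨g', hg', hgz⟩ := hz
      exact ⟨g * g', S.mul_mem hg hg', hga.mulM' hα hgz⟩

theorem tp_mem : ∀ k < 7, Mem α (S (F := F) α 0 : Set G8) (tpL.getD k 0) := by
  have h := chk1_eq
  simp only [chk1, Bool.and_eq_true, List.all_eq_true, List.mem_range] at h
  obtain ⟨⟨⟨⟨⟨⟨⟨h0, hs⟩, -⟩, -⟩, -⟩, -⟩, -⟩, -⟩ := h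
  intro k
  induction k with
  | zero => exact fun _ => ⟨1, one_mem _, by rw [Nat.eq_of_beq_eq_true h0]; exact is_one α⟩
  | succ k ih =>
    intro hk
    rw [Nat.eq_of_beq_eq_true (hs k (by omega))]
    exact (ih (by omega)).mul hα (letter_mem hα (by norm_num) (Nat.zero_le _))

theorem el_mem {j c : ℕ} (hj : j ≤ 7) (h : isEl j c = true) : Mem α (S (F := F) α j : Set G8) (elM c) := by
  simp only [isEl, Bool.and_eq_true, Bool.or_eq_true] at h
  obtain ⟨hc, hlev⟩ := h
  have hc' := blt_lt hc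
  have hzl : zL.length = 12 := rfl
  rw [elM, force_eq]
  rcases hlev with h0 | ⟨h1, h2⟩
  · rw [Nat.eq_of_beq_eq_true h0]
    refine elGo_mem hα _ _ _ _ (tp_mem hα _ (by omega)) fun i hi _ => ?_
    exact letter_mem hα (k := i + 1) (by omega) (Nat.zero_le _)
  · have h1' := blt_lt h1
    rw [Nat.mod_eq_of_lt h1', Nat.div_eq_of_lt h1']
    have t0 : tpL.getD 0 0 = oneM := by
      have h := chk1_eq
      simp only [chk1, Bool.and_eq_true, List.all_eq_true, List.mem_range] at h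
      exact Nat.eq_of_beq_eq_true h.1.1.1.1.1.1.1
    rw [t0]
    refine elGo_mem hα _ _ _ _ ⟨1, one_mem _, is_one α⟩ fun i hi hb => ?_
    refine letter_mem hα (k := i + 1) (by omega) ?_
    have hst : ∀ j ≤ 7, ∀ i < 12, st j ≤ i → j ≤ lev (i + 1) := by decide
    refine hst j hj i (by omega) ?_
    by_contra hlt
    obtain ⟨m, hm⟩ := Nat.dvd_of_mod_eq_zero (Nat.eq_of_beq_eq_true h2)
    rw [hm, Nat.testBit_two_pow_mul] at hb
    simp [show ¬ st j ≤ i from hlt] at hb

theorem el0_mem {c : ℕ} (h : c < 28672) : Mem α (S (F := F) α 0 : Set G8) (elM c) :=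
  el_mem hα (Nat.zero_le _) (by simp [isEl, Nat.blt, Nat.succ_le_of_lt h])

omit hα in
theorem closure_ind {P : G8 → Prop} {s : Set G8} (h1 : P 1)
    (hr : ∀ x, x ∈ Subgroup.closure s → ∀ y ∈ s, P x → P (x * y)) {g : G8} (hg : g ∈ Subgroup.closure s) : P g := by
  have hg' : g ∈ Submonoid.closure s := by
    rw [← Subgroup.closure_toSubmonoid_of_finite]; exact hg
  exact Submonoid.closure_induction_right (motive := fun m _ => P m) h1
    (fun x hx y hy ih => hr x (by rw [← Subgroup.mem_toSubmonoid, Subgroup.closure_toSubmonoid_of_finite]; exact hx) y hy ih) hg'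

theorem S_normal {j : ℕ} (hj : j ≤ 7) {g : G8} (hg : g ∈ S α 0) : ∀ s ∈ S α j, g * s * g⁻¹ ∈ S α j := by
  rcases Nat.eq_zero_or_pos j with rfl | hpos
  · exact fun s hs => mul_mem (mul_mem hg hs) (inv_mem hg)
  have hlett : ∀ a < 13, ∀ x : G8, Is α x (glM a) → ∀ s ∈ S α j, x * s * x⁻¹ ∈ S α j := by
    intro a ha x hx s hs
    refine closure_ind (P := fun s => x * s * x⁻¹ ∈ S α j) (by simpa using one_mem (S α j)) ?_ hs
    rintro u - y ⟨k, hk, hkj, hy⟩ ih
    obtain ⟨l, rfl⟩ : ∃ l, k = l + 1 := by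
      rcases k with _ | l
      · exact absurd hkj (by simp [lev]; omega)
      · exact ⟨l, rfl⟩
    have h := chk2_eq
    simp only [chk2, Bool.and_eq_true, List.all_eq_true, List.mem_range] at h
    obtain ⟨h1, h2⟩ := h a ha l (by omega)
    have hl7 : ∀ l < 12, lvL.getD l 0 ≤ 7 := by decide
    obtain ⟨c, hc, hcm⟩ := el_mem hα (hl7 l (by omega)) h1
    have e : x * y = c * x := (hx.mul hα hy).uniq (hcm.mul hα hx) h2
    have : x * (u * y) * x⁻¹ = (x * u * x⁻¹) * c := by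
      calc x * (u * y) * x⁻¹ = x * u * x⁻¹ * (x * y) * x⁻¹ := by group
        _ = _ := by rw [e]; group
    rw [this]
    exact mul_mem ih (S_anti hkj hc)
  refine closure_ind (P := fun g => ∀ s ∈ S α j, g * s * g⁻¹ ∈ S α j) (fun s hs => by simpa using hs) ?_ hg
  rintro u - y ⟨k, hk, -, hy⟩ ih s hs
  have := ih _ (hlett k hk y hy s hs)
  simpa [mul_assoc] using this

theorem blk_unit {j v : ℕ} (hj : j < 7) (hv : v < sz j) : Mem α (S (F := F) α j : Set G8) (zb j v) := by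
  have h : ∀ j < 7, ∀ v < sz j, isEl j (dcode j v) = true := by decide
  exact el_mem hα hj.le (h j hj v hv)

theorem decomp {j : ℕ} (hj : j < 7) {g : G8} (hg : g ∈ S α j) :
    ∃ v < sz j, ∃ z : G8, z ∈ S α j ∧ Is α z (zb j v) ∧ ∃ s ∈ S α (j + 1), g = z * s := by
  refine closure_ind (P := fun g => ∃ v < sz j, ∃ z : G8, z ∈ S α j ∧ Is α z (zb j v) ∧
    ∃ s ∈ S α (j + 1), g = z * s) ?_ ?_ hg
  · have h : ∀ j < 7, 0 < sz j ∧ zb j 0 = oneM := by decide +kernel
    exact ⟨0, (h j hj).1, 1, one_mem _, by rw [(h j hj).2]; exact is_one α, 1, one_mem _, by simp⟩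
  rintro u - y ⟨k, hk, hkj, hy⟩ ⟨v, hv, z, hz, hzv, s, hs, rfl⟩
  rcases Nat.lt_or_ge j (lev k) with hlt | hge
  · exact ⟨v, hv, z, hz, hzv, s * y, mul_mem hs (Subgroup.subset_closure ⟨k, hk, hlt, hy⟩), by group⟩
  have hidx : ∀ j < 7, ∀ k < 13, lev k = j → ∃ i < [1, 1, 3, 3, 3, 1, 1].getD j 0,
      k = (match j with | 0 => 0 | j + 1 => st (j + 1) + i + 1) := by decide
  obtain ⟨i, hi, hki⟩ := hidx j hj k hk (le_antisymm hge hkj)
  have h := chk3_eq
  simp only [chk3, Bool.and_eq_true, List.all_eq_true, List.mem_range] at h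
  obtain ⟨⟨h1, h2⟩, h3⟩ := h j hj v hv i hi
  replace h3 : Nat.beq (mul2 (zb j v) (glM k)) (mul2 (zb j (blkT.getD (blkPos j v i) (0, 0)).1)
      (elM (blkT.getD (blkPos j v i) (0, 0)).2)) = true := by
    rw [hki]
    rcases j with _ | j <;> exact h3
  obtain ⟨z', hz', hzv'⟩ := blk_unit hα hj (blt_lt h1)
  obtain ⟨t, ht, htm⟩ := el_mem hα (by omega) h2
  have e : z * y = z' * t := (hzv.mul hα hy).uniq (hzv'.mul hα htm) h3
  have hyS : y ∈ S α 0 := Subgroup.subset_closure ⟨k, hk, Nat.zero_le _, hy⟩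
  refine ⟨_, blt_lt h1, z', hz', hzv', t * (y⁻¹ * s * y⁻¹⁻¹),
    mul_mem ht (S_normal hα (by omega) (inv_mem hyS) s hs), ?_⟩
  calc z * s * y = z * y * (y⁻¹ * s * y) := by group
    _ = _ := by rw [e, inv_inv, mul_assoc]

/-! ### Orders -/

omit hα in
/-- A power vanishes harmlessly. -/
def GoodG (g : G8) : Prop :=
  ∃ o, (inA o = true ∧ g ^ o = 1) ∨ (inB o = true ∧ g ^ o = 1 ∧
    ∑ i ∈ Finset.range o, (g : Matrix (Fin 8) (Fin 8) F) ^ i = 0)

omit hα in
theorem good_conj (u : G8) {g : G8} (h : GoodG g) : GoodG (u * g * u⁻¹) := by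
  obtain ⟨o, ho⟩ := h
  refine ⟨o, ho.imp (fun ⟨a, b⟩ => ⟨a, by rw [conj_pow, b, mul_one, mul_inv_cancel]⟩)
    fun ⟨a, b, c⟩ => ⟨a, by rw [conj_pow, b, mul_one, mul_inv_cancel], ?_⟩⟩
  have : ∀ i : ℕ, ((u * g * u⁻¹ : G8) : Matrix (Fin 8) (Fin 8) F) ^ i =
      (u : Matrix (Fin 8) (Fin 8) F) * (g : Matrix (Fin 8) (Fin 8) F) ^ i * ((u⁻¹ : G8) : Matrix (Fin 8) (Fin 8) F) :=
    fun i => by rw [← Units.val_pow_eq_pow_val, conj_pow]; simp [Units.val_mul]
  simp only [this, ← Finset.mul_sum, ← Finset.sum_mul, c, mul_zero, zero_mul]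

theorem psK_spec {β : Type} {g : G8} {a : ℕ} (hg : Is α g a) : ∀ f o : ℕ, o < 2 ^ f →
    ∃ P T : ℕ, Is α (g ^ o) P ∧ (∑ i ∈ Finset.range o, (g : Matrix (Fin 8) (Fin 8) F) ^ i) = toM α T ∧
      ∀ k : ℕ → ℕ → β, psK a f o k = k P T
  | 0, o, ho => by
    obtain rfl : o = 0 := by simpa using ho
    exact ⟨oneM, 0, by rw [pow_zero]; exact is_one α, by simp [toM_zero], fun k => rfl⟩
  | f + 1, o, ho => by
    rcases Nat.eq_zero_or_pos o with rfl | hpos
    · exact ⟨oneM, 0, by rw [pow_zero]; exact is_one α, by simp [toM_zero], fun k => rfl⟩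
    obtain ⟨P, T, hP, hT, hk⟩ := psK_spec (β := β) hg f (o / 2) (by rw [pow_succ] at ho; omega)
    have hne : Nat.beq o 0 = false := by
      cases h : Nat.beq o 0
      · rfl
      · exact absurd (Nat.eq_of_beq_eq_true h) (by omega)
    have hP2 : Is α (g ^ (o / 2 + o / 2)) (mulM P P) := by rw [pow_add]; exact hP.mulM' hα hP
    have hT2 : (∑ i ∈ Finset.range (o / 2 + o / 2), (g : Matrix (Fin 8) (Fin 8) F) ^ i) =
        toM α (Nat.xor T (mul2 P T)) := by
      rw [Finset.sum_range_add, toM_xor, mul2_eq, toM_mulM hα, ← hT, ← hP, Finset.mul_sum,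
        Units.val_pow_eq_pow_val]
      simp only [pow_add]
    rcases Nat.mod_two_eq_zero_or_one o with e | e
    · have eo : o / 2 + o / 2 = o := by omega
      refine ⟨mulM P P, Nat.xor T (mul2 P T), eo ▸ hP2, eo ▸ hT2, fun k => ?_⟩
      rw [psK, hne, cond_false, hk, force_eq, force_eq, e]
      rfl
    · have eo : o / 2 + o / 2 + 1 = o := by omega
      refine ⟨mulM (mulM P P) a, Nat.xor (Nat.xor T (mul2 P T)) (mulM P P), ?_, ?_, fun k => ?_⟩
      · rw [← eo, pow_succ]; exact hP2.mulM' hα hg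
      · rw [← eo, Finset.sum_range_succ, toM_xor (a := Nat.xor T (mul2 P T)), ← hT2, ← hP2,
          Units.val_pow_eq_pow_val]
      · rw [psK, hne, cond_false, hk, force_eq, force_eq, e]
        simp only [force_eq]
        rfl

theorem good_of_goodb {g : G8} {a o : ℕ} (hg : Is α g a) (h : goodb a o = true) : GoodG g := by
  simp only [goodb, Bool.and_eq_true] at h
  obtain ⟨ho, hp⟩ := h
  obtain ⟨P, T, hP, hT, hk⟩ := psK_spec (β := Bool) hα hg 5 o (by simpa using blt_lt ho)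
  rw [hk] at hp
  simp only [Bool.and_eq_true, Bool.or_eq_true] at hp
  have h1 : g ^ o = 1 := hP.uniq (is_one α) hp.1
  rcases hp.2 with hA | ⟨hB, hS⟩
  · exact ⟨o, Or.inl ⟨hA, h1⟩⟩
  · exact ⟨o, Or.inr ⟨hB, h1, by rw [hT, Nat.eq_of_beq_eq_true hS, toM_zero]⟩⟩

/-! ### Trees -/

omit hα in
/-- The child with an index. -/
def child : Cert → ℕ → Cert
  | .cons hd _, 0 => hd
  | .cons _ tl, v + 1 => child tl v
  | _, _ => .nil

omit hα in
theorem keptAt_child : ∀ (T : Cert) (v : ℕ), keptAt T v = true →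
    (∃ o, child T v = .lf o) ∨ ∃ a b, child T v = .cons a b
  | .cons hd tl, 0, h => by
    cases hd with
    | lf o => exact Or.inl ⟨o, rfl⟩
    | cons a b => exact Or.inr ⟨a, b, rfl⟩
    | sh p => simp [keptAt] at h
    | nil => simp [keptAt] at h
  | .cons hd tl, v + 1, h => keptAt_child tl v h
  | .lf _, _, h => by simp [keptAt] at h
  | .sh _, _, h => by simp [keptAt] at h
  | .nil, _, h => by simp [keptAt] at h

omit hα in
/-- All elements of a coset of a level in the cell of `n` are harmless. -/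
def GoodC (α : F) (n : G8) (j : ℕ) (x : G8) : Prop := ∀ s ∈ S α j, GoodG (x * s * n)

theorem chk_sound {N : ℕ} {n : G8} (hn : Is α n N) : ∀ (T : Cert) (j v r : ℕ) (R : Cert) (x : G8),
    chk N T j v r R = true → j < 7 → Is α x r →
    v ≤ sz j ∧ ∀ i, v + i < sz j → ∀ z : G8, Is α z (zb j (v + i)) →
      ((∃ o, child T i = .lf o) ∨ (∃ a b, child T i = .cons a b) → GoodC α n (j + 1) (x * z)) ∧
      ((∃ o, child T i = .lf o) ∨ (∃ a b, child T i = .cons a b) ∨
        ∃ p, child T i = .sh p ∧ shiftOk N j r (mul2 r (zb j (v + i))) p R = true) := by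
  intro T
  induction T with
  | lf o => intro j v r R x h; simp [chk] at h
  | sh p => intro j v r R x h; simp [chk] at h
  | nil =>
    intro j v r R x h hj hx
    simp only [chk] at h
    have := Nat.eq_of_beq_eq_true h
    exact ⟨this.le, fun i hi => absurd hi (by omega)⟩
  | cons hd tl ihd itl =>
    intro j v r R x h hj hx
    rw [chk.eq_2] at h
    simp only [force_eq, Bool.and_eq_true] at h
    obtain ⟨hhd, htl⟩ := h
    obtain ⟨hle, hrest⟩ := itl j (v + 1) r R x htl hj hx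
    refine ⟨by omega, fun i hi z hz => ?_⟩
    rcases i with _ | i
    · simp only [child, Nat.add_zero] at hz ⊢
      have hxz : Is α (x * z) (mul2 r (zb j v)) := hx.mul hα hz
      cases hd with
      | lf o =>
        simp only [Bool.and_eq_true] at hhd
        refine ⟨fun _ => ?_, Or.inl ⟨o, rfl⟩⟩
        intro s hs
        rw [Nat.eq_of_beq_eq_true hhd.1, S_seven, Subgroup.mem_bot] at hs
        rw [hs, mul_one]
        exact good_of_goodb hα (hxz.mul hα hn) hhd.2
      | sh p =>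
        exact ⟨fun h => by rcases h with ⟨o, ho⟩ | ⟨a, b, hab⟩ <;> simp at *, Or.inr (Or.inr ⟨p, rfl, hhd⟩)⟩
      | nil => simp at hhd
      | cons a b =>
        simp only [Bool.and_eq_true] at hhd
        refine ⟨fun _ => ?_, Or.inr (Or.inl ⟨a, b, rfl⟩)⟩
        have hj6 := blt_lt hhd.1
        obtain ⟨-, hall⟩ := ihd (j + 1) 0 _ (.cons a b) (x * z) hhd.2 (by omega) hxz
        intro s hs
        obtain ⟨w, hw, zz, -, hzz, t, ht, rfl⟩ := decomp hα (by omega) hs
        have hw' : 0 + w < sz (j + 1) := by omega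
        obtain ⟨hk, hcase⟩ := hall w hw' zz (by rw [Nat.zero_add]; exact hzz)
        rw [show x * z * (zz * t) * n = x * z * zz * t * n by group]
        rcases hcase with h1 | h1 | ⟨p, -, hp⟩
        · exact hk (Or.inl h1) t ht
        · exact hk (Or.inr h1) t ht
        · simp only [shiftOk, Bool.and_eq_true, force_eq] at hp
          obtain ⟨⟨⟨⟨⟨hv0, hkept⟩, hy⟩, hyp⟩, htc⟩, e1, e2⟩ := hp
          obtain ⟨z₀, hz0S, hz0⟩ := blk_unit hα (by omega) (blt_lt hv0)
          obtain ⟨y, hyS, hy'⟩ := el0_mem hα (blt_lt hy)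
          obtain ⟨y', hyS', hy''⟩ := el0_mem hα (blt_lt hyp)
          obtain ⟨u, huS, hu⟩ := el_mem hα (by omega) htc
          have eN : n * y = y' * n := (hn.mul hα hy').uniq (hy''.mul hα hn) e1
          have eR : y * (x * z * zz) = x * z * z₀ * u * y' := by
            refine (hy'.mul hα (hxz.mul hα hzz)).uniq (((hxz.mul hα hz0).mul hα hu).mul hα hy'') ?_
            rw [Nat.zero_add] at e2
            exact e2
          obtain ⟨hk0, -⟩ := hall (p / 32768 % 32768) (by have := blt_lt hv0; omega) z₀ (by rw [Nat.zero_add]; exact hz0)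
          have hg := hk0 ((keptAt_child _ _ hkept).imp id id) (u * (y' * t * y'⁻¹))
            (mul_mem huS (S_normal hα (by omega) hyS' t ht))
          have key : y⁻¹ * (x * z * z₀ * (u * (y' * t * y'⁻¹)) * n) * y⁻¹⁻¹ = x * z * zz * t * n := by
            calc y⁻¹ * (x * z * z₀ * (u * (y' * t * y'⁻¹)) * n) * y⁻¹⁻¹
                = y⁻¹ * (x * z * z₀ * u * y') * t * y'⁻¹ * (n * y) := by group
              _ = y⁻¹ * (y * (x * z * zz)) * t * y'⁻¹ * (y' * n) := by rw [← eR, eN]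
              _ = _ := by group
          exact key ▸ good_conj y⁻¹ hg
    · obtain ⟨hk, hc⟩ := hrest i (by omega) z (by rwa [show v + 1 + i = v + (i + 1) by omega])
      refine ⟨hk, ?_⟩
      rwa [show v + 1 + i = v + (i + 1) by omega] at hc

theorem cell_good {e : ℕ} {T : Cert} (h : cellOk e T = true) {n : G8} (hn : Is α n (wL.getD e 0)) :
    ∀ s ∈ S α 0, GoodG (s * n) := by
  intro s hs
  obtain ⟨-, hall⟩ := chk_sound hα hn T 0 0 oneM T 1 h (by norm_num) (is_one α)
  obtain ⟨w, hw, zz, -, hzz, t, ht, rfl⟩ := decomp hα (by norm_num) hs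
  have hw' : 0 + w < sz 0 := by omega
  obtain ⟨hk, hcase⟩ := hall w hw' zz (by rw [Nat.zero_add]; exact hzz)
  rcases hcase with h1 | h1 | ⟨p, -, hp⟩
  · simpa using hk (Or.inl h1) t ht
  · simpa using hk (Or.inr h1) t ht
  · simp only [shiftOk, Bool.and_eq_true, force_eq] at hp
    obtain ⟨⟨⟨⟨⟨hv0, hkept⟩, hy⟩, hyp⟩, htc⟩, e1, e2⟩ := hp
    obtain ⟨z₀, hz0S, hz0⟩ := blk_unit hα (by norm_num) (blt_lt hv0)
    obtain ⟨y, hyS, hy'⟩ := el0_mem hα (blt_lt hy)
    obtain ⟨y', hyS', hy''⟩ := el0_mem hα (blt_lt hyp)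
    obtain ⟨u, huS, hu⟩ := el_mem hα (by norm_num) htc
    have eN : n * y = y' * n := (hn.mul hα hy').uniq (hy''.mul hα hn) e1
    have eR : y * (1 * zz) = 1 * z₀ * u * y' := by
      refine (hy'.mul hα ((is_one α).mul hα hzz)).uniq ((((is_one α).mul hα hz0).mul hα hu).mul hα hy'') ?_
      rw [Nat.zero_add] at e2
      exact e2
    obtain ⟨hk0, -⟩ := hall (p / 32768 % 32768) (by have := blt_lt hv0; omega) z₀ (by rw [Nat.zero_add]; exact hz0)
    have hg := hk0 ((keptAt_child _ _ hkept).imp id id) (u * (y' * t * y'⁻¹))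
      (mul_mem huS (S_normal hα (by norm_num) hyS' t ht))
    have key : y⁻¹ * (1 * z₀ * (u * (y' * t * y'⁻¹)) * n) * y⁻¹⁻¹ = zz * t * n := by
      calc y⁻¹ * (1 * z₀ * (u * (y' * t * y'⁻¹)) * n) * y⁻¹⁻¹
          = y⁻¹ * (1 * z₀ * u * y') * t * y'⁻¹ * (n * y) := by group
        _ = y⁻¹ * (y * (1 * zz)) * t * y'⁻¹ * (y' * n) := by rw [← eR, eN]
        _ = _ := by group
    exact key ▸ good_conj y⁻¹ hg

end Cfsg.Agent.InvChar.Iso3D4
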