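import Cfsg.Agent.InvChar.Iso3D4.Rep

/-!
The triality twisted group over eight elements is the generated eight dimensional group.
-/

set_option autoImplicit false
set_option linter.unusedSectionVars false

namespace Cfsg.Agent.InvChar.Iso3D4

open Cfsg.Lie Cfsg.Agent.Chevalley Cfsg.Agent.Chevalley.Twist

variable {K : Type*} [Field K] [Fintype K] [CharP K 2] {α : K}

/-- The lift of a word to Steinberg's group. -/
noncomputable def lift (w : List (ℕ × K)) : chevD4.SteinbergGroup K :=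
  (w.map fun p => chevD4.stGen K p.1 p.2).prod

theorem word_ok : ∀ i < 20, ∀ p ∈ genW.getD i [], p.1 < 24 ∧ p.2 < 8 := by decide

theorem psi_lift (hα : α ^ 3 = α + 1) {i : ℕ} (hi : i < 20) :
    Is α (psi K (lift ((genW.getD i []).map fun p => (p.1, io α p.2)))) (genM i) := by
  have key : ∀ (L : List (ℕ × ℕ)), (∀ p ∈ L, p.1 < 24 ∧ p.2 < 8) → ∀ (g : GL (Fin 8) K) (a : ℕ), Is α g a →
      Is α (g * psi K (lift (L.map fun p => (p.1, io α p.2))))
        (L.foldl (fun a p => mul2 a (xrM p.1 p.2)) a) := by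
    intro L
    induction L with
    | nil => intro _ g a hg; simpa [lift] using hg
    | cons p L ih =>
      intro hL g a hg
      obtain ⟨hr, hc⟩ := hL p List.mem_cons_self
      have h := ih (fun q hq => hL q (List.mem_cons_of_mem _ hq))
        (g * psi K (chevD4.stGen K p.1 (io α p.2))) _ (hg.mul hα (psi_gen hr hc))
      simp only [lift, List.map_cons, List.prod_cons, map_mul, ← mul_assoc]
      simpa [lift] using h
  simpa [genM] using key _ (word_ok i hi) 1 _ (is_one α)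

theorem word_index (hα : α ^ 3 = α + 1) (hK : Fintype.card K = 8) {w : List (ℕ × K)} (hw : w ∈ d4Words K 2) :
    ∃ i < 20, w = (genW.getD i []).map fun p => (p.1, io α p.2) := by
  rcases hw with ⟨t, ht, r, hr, rfl⟩ | ⟨t, rs, hrs, rfl⟩
  · have h01 : t = 0 ∨ t = 1 := by
      have : t * (t - 1) = 0 := by linear_combination ht
      exact (mul_eq_zero.1 this).imp id sub_eq_zero.1
    obtain ⟨c, hc, rfl⟩ : ∃ c < 2, t = io α c := by
      rcases h01 with rfl | rfl
      · exact ⟨0, by norm_num, io_zero.symm⟩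
      · exact ⟨1, by norm_num, io_one.symm⟩
    simp only [List.mem_cons, List.not_mem_nil, or_false] at hr
    have hd : ∀ c < 2, genW.getD c [] = [(d4p2, c)] ∧ genW.getD (2 + c) [] = [(d4m2, c)] := by decide
    rcases hr with rfl | rfl
    · exact ⟨c, by omega, by rw [(hd c hc).1]; rfl⟩
    · exact ⟨2 + c, by omega, by rw [(hd c hc).2]; rfl⟩
  · obtain ⟨c, hc, rfl⟩ := io_surj hα hK t
    obtain ⟨e1, h1⟩ := io_sq hα hc
    obtain ⟨e2, -⟩ := io_sq hα h1
    have e4 : io α c ^ (2 ^ 2) = io α (sqc (sqc c)) := by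
      rw [← e2, ← e1, ← pow_mul]
      norm_num
    simp only [List.mem_cons, List.not_mem_nil, or_false] at hrs
    have hd : ∀ c < 8, genW.getD (4 + c) [] = [(d4p1, c), (d4p3, sqc c), (d4p4, sqc (sqc c))] ∧
        genW.getD (12 + c) [] = [(d4m1, c), (d4m3, sqc c), (d4m4, sqc (sqc c))] := by decide
    rcases hrs with rfl | rfl
    · exact ⟨4 + c, by omega, by rw [(hd c hc).1, e1, e4]; rfl⟩
    · exact ⟨12 + c, by omega, by rw [(hd c hc).2, e1, e4]; rfl⟩

theorem index_word (hα : α ^ 3 = α + 1) {i : ℕ} (hi : i < 20) :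
    ((genW.getD i []).map fun p => (p.1, io α p.2)) ∈ d4Words K 2 := by
  have hd : ∀ c < 2, genW.getD c [] = [(d4p2, c)] ∧ genW.getD (2 + c) [] = [(d4m2, c)] := by decide
  have hd' : ∀ c < 8, genW.getD (4 + c) [] = [(d4p1, c), (d4p3, sqc c), (d4p4, sqc (sqc c))] ∧
      genW.getD (12 + c) [] = [(d4m1, c), (d4m3, sqc c), (d4m4, sqc (sqc c))] := by decide
  have h2 : ∀ c < 2, io α c ^ 2 = io α c := by
    intro c hc
    interval_cases c
    · rw [io_zero, zero_pow (by norm_num)]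
    · rw [io_one, one_pow]
  by_cases h4 : i < 4
  · left
    by_cases h : i < 2
    · exact ⟨io α i, h2 i h, d4p2, by simp, by rw [(hd i h).1]; rfl⟩
    · obtain ⟨c, rfl⟩ : ∃ c, i = 2 + c := ⟨i - 2, by omega⟩
      exact ⟨io α c, h2 c (by omega), d4m2, by simp, by rw [(hd c (by omega)).2]; rfl⟩
  · right
    have key : ∀ c < 8, io α c ^ (2 ^ 2) = io α (sqc (sqc c)) ∧ io α c ^ 2 = io α (sqc c) := by
      intro c hc
      obtain ⟨e1, h1⟩ := io_sq hα hc
      obtain ⟨e2, -⟩ := io_sq hα h1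
      exact ⟨by rw [← e2, ← e1, ← pow_mul]; norm_num, e1⟩
    by_cases h : i < 12
    · obtain ⟨c, rfl⟩ : ∃ c, i = 4 + c := ⟨i - 4, by omega⟩
      exact ⟨io α c, (d4p1, d4p3, d4p4), by simp, by rw [(hd' c (by omega)).1, (key c (by omega)).1, (key c (by omega)).2]; rfl⟩
    · obtain ⟨c, rfl⟩ : ∃ c, i = 12 + c := ⟨i - 12, by omega⟩
      exact ⟨io α c, (d4m1, d4m3, d4m4), by simp, by rw [(hd' c (by omega)).2, (key c (by omega)).1, (key c (by omega)).2]; rfl⟩

/-- The twisted group maps isomorphically onto the generated group. -/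
theorem exists_iso (hα : α ^ 3 = α + 1) (hK : Fintype.card K = 8) :
    Nonempty (↥(twistedD4 K 2) ≃* ↥(GG (F := K) α)) := by
  have hC := Types.D4.certified
  obtain ⟨W, hW⟩ : ∃ W, W = Subgroup.closure (lift '' d4Words K 2 : Set (chevD4.SteinbergGroup K)) := ⟨_, rfl⟩
  obtain ⟨θ, hθ⟩ : ∃ θ : chevD4.SteinbergGroup K →* GL chevD4.Idx K, θ = StSteinberg.stHom hC := ⟨_, rfl⟩
  have hθw : ∀ w ∈ d4Words K 2, θ (lift w) = wordGL hC w := by
    intro w hw
    obtain ⟨i, hi, rfl⟩ := word_index hα hK hw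
    rw [lift, map_list_prod, wordGL, List.map_map, List.map_map, List.map_map]
    congr 1
    refine List.map_congr_left fun p hp => ?_
    simp only [Function.comp_apply, hθ]
    exact StSteinberg.stHom_gen hC _ (by have := (word_ok i hi p hp).1; exact this.trans_eq (by rfl)) _
  have hG : W.map θ = twistedD4 K 2 := by
    rw [hW, MonoidHom.map_closure, twistedD4, Twist.genSubgroup_eq hC, Set.image_image]
    congr 1
    exact Set.image_congr fun w hw => hθw w hw
  have hP : W.map (psi K) = GG (F := K) α := by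
    rw [hW, MonoidHom.map_closure, GG, Set.image_image]
    congr 1
    ext g
    constructor
    · rintro ⟨w, hw, rfl⟩
      obtain ⟨i, hi, rfl⟩ := word_index hα hK hw
      exact ⟨i, hi, psi_lift hα hi⟩
    · rintro ⟨i, hi, hg⟩
      exact ⟨_, index_word hα hi, Units.ext ((psi_lift hα hi).trans hg.symm)⟩
  have hker : θ.ker ≤ (psi K).ker := by
    intro z hz
    obtain ⟨S, hS⟩ : ∃ S, S = StSteinberg.stSys hC (StSteinberg.stHom hC)
        (StSteinberg.stHom_gen (F := K) hC) := ⟨_, rfl⟩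
    have h := StSteinberg.center_eq_ker S ⟨⟨_, Types.CoefD4.coef_ok⟩, ⟨_, Types.StCerts.conj_D4⟩⟩
    rw [hS] at h
    refine MonoidHom.mem_ker.2 (psi_central hα ?_)
    rw [← h, MonoidHom.mem_ker]
    rw [hθ, MonoidHom.mem_ker] at hz
    exact hz
  obtain ⟨f, hf⟩ : ∃ f : ↥W →* ↥(twistedD4 K 2), ∀ x : ↥W, (f x : GL chevD4.Idx K) = θ (x : chevD4.SteinbergGroup K) :=
    ⟨(θ.comp W.subtype).codRestrict _ fun x => hG ▸ ⟨_, x.2, rfl⟩, fun _ => rfl⟩
  have hfs : Function.Surjective f := by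
    rintro ⟨y, hy⟩
    rw [← hG] at hy
    obtain ⟨x, hx, rfl⟩ := hy
    exact ⟨⟨x, hx⟩, Subtype.ext (hf _)⟩
  obtain ⟨g, hg⟩ : ∃ g : ↥W →* ↥(GG (F := K) α), ∀ x : ↥W, (g x : GL (Fin 8) K) = psi K (x : chevD4.SteinbergGroup K) :=
    ⟨((psi K).comp W.subtype).codRestrict _ fun x => hP ▸ ⟨_, x.2, rfl⟩, fun _ => rfl⟩
  have hgs : Function.Surjective g := by
    rintro ⟨y, hy⟩
    rw [← hP] at hy
    obtain ⟨x, hx, rfl⟩ := hy
    exact ⟨⟨x, hx⟩, Subtype.ext (hg _)⟩
  have hle : f.ker ≤ g.ker := by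
    intro x hx
    have h1 : θ (x : chevD4.SteinbergGroup K) = 1 := by
      rw [← hf, MonoidHom.mem_ker.1 hx]; rfl
    refine MonoidHom.mem_ker.2 (Subtype.ext ?_)
    rw [hg]
    exact MonoidHom.mem_ker.1 (hker (MonoidHom.mem_ker.2 h1))
  obtain ⟨φ, hφ⟩ : ∃ φ : ↥(twistedD4 K 2) →* ↥(GG (F := K) α), ∀ x, φ (f x) = g x :=
    ⟨f.liftOfSurjective hfs ⟨g, hle⟩, fun x => MonoidHom.liftOfRightInverse_comp_apply _ _ _ _ x⟩
  have hφs : Function.Surjective φ := fun y => by
    obtain ⟨x, rfl⟩ := hgs y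
    exact ⟨f x, hφ x⟩
  have hsimple : IsSimpleGroup ↥(twistedD4 K 2) :=
    (S1071.result (q := 2) Nat.prime_two.isPrimePow (by rw [hK]; norm_num)).1
  refine ⟨MulEquiv.ofBijective φ ⟨?_, hφs⟩⟩
  rcases φ.normal_ker.eq_bot_or_eq_top with hb | ht
  · exact (MonoidHom.ker_eq_bot_iff φ).1 hb
  · exfalso
    obtain ⟨y, hy, ho⟩ := exists_order (F := K) hα 8 rfl
    obtain ⟨x, hx⟩ := hφs ⟨y, hy⟩
    have : φ x = 1 := MonoidHom.mem_ker.1 (ht ▸ Subgroup.mem_top x)
    rw [this] at hx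
    have h1 : y = 1 := (congrArg Subtype.val hx).symm
    rw [h1, orderOf_one] at ho
    norm_num at ho

end Cfsg.Agent.InvChar.Iso3D4
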