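import Cfsg.Agent.InvChar.Iso3D4.Bruhat

/-!
Powers of the natural module extend the group without new element orders.
-/

set_option autoImplicit false
set_option linter.unusedSectionVars false

namespace Cfsg.Agent.InvChar.Iso3D4

variable {F : Type*} [Field F] [Fintype F] [CharP F 2] {α : F}

/-- A fresh type with finitely many points. -/
structure Carrier (n : ℕ) : Type where
  /-- the point -/
  val : Fin n

/-- The action on vectors. -/
def vecAct (G : Subgroup (GL (Fin 8) F)) (n : ℕ) :
    ↥G →* MulAut (Multiplicative (Fin n → Fin 8 → F)) where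
  toFun g :=
    { toFun := fun v => Multiplicative.ofAdd fun i => (g.1 : Matrix (Fin 8) (Fin 8) F).mulVec (v.toAdd i)
      invFun := fun v => Multiplicative.ofAdd fun i => ((g.1⁻¹ : GL (Fin 8) F) : Matrix (Fin 8) (Fin 8) F).mulVec (v.toAdd i)
      left_inv := fun v => by
        apply Multiplicative.toAdd.injective
        funext i
        simp [Matrix.mulVec_mulVec, ← Units.val_mul]
      right_inv := fun v => by
        apply Multiplicative.toAdd.injective
        funext i
        simp [Matrix.mulVec_mulVec, ← Units.val_mul]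
      map_mul' := fun v w => by
        apply Multiplicative.toAdd.injective
        funext i
        simp [Matrix.mulVec_add] }
  map_one' := MulEquiv.ext fun v => Multiplicative.toAdd.injective (funext fun i => by simp)
  map_mul' g h := MulEquiv.ext fun v => Multiplicative.toAdd.injective (funext fun i => by simp [Matrix.mulVec_mulVec])

theorem semi_pow (G : Subgroup (GL (Fin 8) F)) (n : ℕ)
    (x : Multiplicative (Fin n → Fin 8 → F) ⋊[vecAct G n] ↥G) (o : ℕ) :
    (x ^ o).right = x.right ^ o ∧ ∀ i, (x ^ o).left.toAdd i =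
      (∑ k ∈ Finset.range o, ((x.right : GL (Fin 8) F) : Matrix (Fin 8) (Fin 8) F) ^ k).mulVec (x.left.toAdd i) := by
  induction o with
  | zero => simp
  | succ o ih =>
    obtain ⟨h1, h2⟩ := ih
    refine ⟨by rw [pow_succ, SemidirectProduct.mul_right, h1, pow_succ], fun i => ?_⟩
    rw [pow_succ, SemidirectProduct.mul_left, h1, toAdd_mul, Pi.add_apply, h2, Finset.sum_range_succ, Matrix.add_mulVec]
    congr 1

/-- Arbitrarily large groups with the element orders of the generated group. -/
theorem exists_large (hα : α ^ 3 = α + 1) (N : ℕ) (R : Set ℕ)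
    (hR : R = Set.range (orderOf : ↥(GG (F := F) α) → ℕ)) :
    ∃ (H : Type) (_ : Group H) (_ : Fintype H), N < Fintype.card H ∧ Set.range (orderOf : H → ℕ) = R := by
  classical
  haveI : Finite ↥(GG (F := F) α) := inferInstance
  let X := Multiplicative (Fin (N + 1) → Fin 8 → F) ⋊[vecAct (GG α) (N + 1)] ↥(GG (F := F) α)
  haveI : Finite X := Finite.of_equiv _ SemidirectProduct.equivProd.symm
  have hdiv : ∀ o ∈ R, ∀ d, d ∣ o → d ∈ R := by
    rw [hR]
    rintro o ⟨g, rfl⟩ d ⟨c, hc⟩
    refine ⟨g ^ c, ?_⟩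
    have hc0 : c ≠ 0 := by rintro rfl; have := orderOf_pos g; omega
    rw [orderOf_pow' g hc0, hc, Nat.gcd_eq_right (dvd_mul_left c d),
      Nat.mul_div_cancel _ (Nat.pos_of_ne_zero hc0)]
  have hB : ∀ o, inB o = true → o ∈ R := by
    intro o ho
    obtain ⟨g, hg, hgo⟩ := exists_order (F := F) hα o ho
    rw [hR]
    exact ⟨⟨g, hg⟩, by rw [Subgroup.orderOf_mk, hgo]⟩
  have hA : ∀ o, inA o = true → 2 * o ∈ R := by
    intro o ho
    have ho' : o ∈ [1, 2, 3, 4, 6, 7, 9, 14] := by simpa [inA] using ho
    obtain ⟨b, hb, hd⟩ := (by decide : ∀ o ∈ ([1, 2, 3, 4, 6, 7, 9, 14] : List ℕ),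
      ∃ b ∈ ([8, 12, 13, 18, 21, 28] : List ℕ), 2 * o ∣ b) o ho'
    exact hdiv b (hB b (by simpa [inB] using hb)) _ hd
  have hsub : Set.range (orderOf : X → ℕ) = R := by
    refine Set.Subset.antisymm ?_ ?_
    · rintro _ ⟨x, rfl⟩
      obtain ⟨o, ho⟩ := harmless hα x.right.2
      rcases ho with ⟨hA', h1⟩ | ⟨hB', h1, hS⟩
      · refine hdiv _ (hA o hA') _ (orderOf_dvd_of_pow_eq_one ?_)
        have h1' : x.right ^ o = 1 := Subtype.ext h1
        have hr : (x ^ o).right = 1 := by rw [(semi_pow _ _ x o).1, h1']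
        rw [mul_comm, pow_mul, pow_two]
        refine SemidirectProduct.ext ?_ (by rw [SemidirectProduct.mul_right, hr, mul_one]; rfl)
        apply Multiplicative.toAdd.injective
        funext i
        rw [SemidirectProduct.mul_left, hr, map_one]
        show (x ^ o).left.toAdd i + (x ^ o).left.toAdd i = 0
        exact funext fun k => CharTwo.add_self_eq_zero _
      · refine hdiv _ (hB o hB') _ (orderOf_dvd_of_pow_eq_one ?_)
        obtain ⟨hr, hl⟩ := semi_pow _ _ x o
        refine SemidirectProduct.ext ?_ (by rw [hr]; exact Subtype.ext h1)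
        apply Multiplicative.toAdd.injective
        funext i
        rw [hl, hS]
        simp
    · rw [hR]
      rintro _ ⟨g, rfl⟩
      exact ⟨SemidirectProduct.inr g,
        orderOf_injective (SemidirectProduct.inr (φ := vecAct (GG (F := F) α) (N + 1)))
          SemidirectProduct.inr_injective g⟩
  obtain ⟨n, ⟨eq'⟩⟩ := Finite.exists_equiv_fin X
  let eq : X ≃ Carrier n := eq'.trans ⟨Carrier.mk, Carrier.val, fun _ => rfl, fun _ => rfl⟩
  letI : Group (Carrier n) := eq.symm.group
  letI : Fintype (Carrier n) := Fintype.ofEquiv (Fin n) ⟨Carrier.mk, Carrier.val, fun _ => rfl, fun _ => rfl⟩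
  refine ⟨Carrier n, inferInstance, inferInstance, ?_, ?_⟩
  · rw [← Nat.card_eq_fintype_card, ← Nat.card_congr eq]
    have h1 : Nat.card (Multiplicative (Fin (N + 1) → Fin 8 → F)) ≤ Nat.card X :=
      Nat.card_le_card_of_injective _ (SemidirectProduct.inl_injective (φ := vecAct (GG (F := F) α) (N + 1)))
    have h2 : 2 ^ (N + 1) ≤ Nat.card (Multiplicative (Fin (N + 1) → Fin 8 → F)) := by
      rw [Nat.card_congr Multiplicative.toAdd, Nat.card_fun, Nat.card_fun, Nat.card_fin, Nat.card_fin]
      refine Nat.pow_le_pow_left ?_ _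
      calc 2 ≤ Nat.card F := Finite.one_lt_card
        _ ≤ Nat.card F ^ 8 := Nat.le_self_pow (by norm_num) _
    have h3 := Nat.lt_two_pow_self (n := N + 1)
    omega
  · rw [← hsub]
    ext o
    constructor
    · rintro ⟨x, rfl⟩
      exact ⟨eq.symm x, MulEquiv.orderOf_eq (eq.symm.mulEquiv) x⟩
    · rintro ⟨x, rfl⟩
      exact ⟨eq x, (MulEquiv.orderOf_eq (eq.symm.mulEquiv).symm x)⟩

end Cfsg.Agent.InvChar.Iso3D4
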