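import Mathlib

/-!
Eight by eight matrices over eight elements, one number per matrix: entry `(i, j)` sits in the
three bits at `32 i + 4 j`.
-/

set_option autoImplicit false
set_option linter.unusedSectionVars false

open Matrix

namespace Cfsg.Agent.InvChar.Iso3D4

/-- One in each of eight slots of thirty two bits. -/
def repC : ℕ := 0x100000001000000010000000100000001000000010000000100000001

/-- A full slot. -/
def slot : ℕ := 0xffffffff

/-- The two low bits of each entry. -/
def low3 : ℕ := 0x3333333333333333333333333333333333333333333333333333333333333333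

/-- The low bit of each entry. -/
def low1 : ℕ := 0x1111111111111111111111111111111111111111111111111111111111111111

/-- Multiply all entries by the generator. -/
def timesX (n : ℕ) : ℕ :=
  let h := Nat.land (Nat.shiftRight n 2) low1
  Nat.xor (Nat.shiftLeft (Nat.land n low3) 1) (Nat.xor h (Nat.shiftLeft h 1))

/-- Evaluate a number before it is used. -/
def force {α : Type} (n : ℕ) (k : ℕ → α) : α :=
  match n with
  | 0 => k 0
  | m + 1 => k (m + 1)

theorem force_eq {α : Type} (n : ℕ) (k : ℕ → α) : force n k = k n := by cases n <;> rfl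

/-- One product term: a bit column of `a` times a row of `b`. -/
def term (a b k s : ℕ) : ℕ :=
  Nat.land (Nat.mul (Nat.land (Nat.shiftRight a s) repC) slot)
    (Nat.mul (Nat.land (Nat.shiftRight b k) slot) repC)

/-- The product. -/
def mulM (a b : ℕ) : ℕ :=
  force (timesX b) fun c => force (timesX c) fun d =>
    Nat.xor (term a b 0 0) (Nat.xor (term a c 0 1) (Nat.xor (term a d 0 2)
    (Nat.xor (term a b 32 4) (Nat.xor (term a c 32 5) (Nat.xor (term a d 32 6)
    (Nat.xor (term a b 64 8) (Nat.xor (term a c 64 9) (Nat.xor (term a d 64 10)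
    (Nat.xor (term a b 96 12) (Nat.xor (term a c 96 13) (Nat.xor (term a d 96 14)
    (Nat.xor (term a b 128 16) (Nat.xor (term a c 128 17) (Nat.xor (term a d 128 18)
    (Nat.xor (term a b 160 20) (Nat.xor (term a c 160 21) (Nat.xor (term a d 160 22)
    (Nat.xor (term a b 192 24) (Nat.xor (term a c 192 25) (Nat.xor (term a d 192 26)
    (Nat.xor (term a b 224 28) (Nat.xor (term a c 224 29) (term a d 224 30)))))))))))))))))))))))

/-- The identity. -/
def oneM : ℕ := 1 + 2 ^ 36 + 2 ^ 72 + 2 ^ 108 + 2 ^ 144 + 2 ^ 180 + 2 ^ 216 + 2 ^ 252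

/-! ### Slots -/

/-- Numbers of thirty two bits side by side. -/
def pk : ℕ → (ℕ → ℕ) → ℕ
  | 0, _ => 0
  | k + 1, f => 2 ^ 32 * pk k (fun i => f (i + 1)) + f 0

theorem testBit_pk : ∀ (k : ℕ) (f : ℕ → ℕ), (∀ i, f i < 2 ^ 32) → ∀ p,
    (pk k f).testBit p = (decide (p / 32 < k) && (f (p / 32)).testBit (p % 32))
  | 0, f, _, p => by simp [pk]
  | k + 1, f, hf, p => by
    rw [pk, Nat.testBit_two_pow_mul_add _ (hf 0)]
    by_cases h : p < 32
    · simp [h, Nat.div_eq_of_lt h, Nat.mod_eq_of_lt h]
    · rw [if_neg h, testBit_pk k _ (fun i => hf (i + 1)), show p / 32 = (p - 32) / 32 + 1 by omega,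
        show (p - 32) % 32 = p % 32 by omega]
      congr 1
      simp

theorem pk_mul : ∀ (k : ℕ) (f : ℕ → ℕ) (r : ℕ), pk k f * r = pk k (fun i => f i * r)
  | 0, f, r => by simp [pk]
  | k + 1, f, r => by
    rw [pk, pk, ← pk_mul k _ r]
    ring

theorem repC_eq : repC = pk 8 fun _ => 1 := by decide +kernel

theorem testBit_term (a b k s p : ℕ) :
    (term a b k s).testBit p = (decide (p / 32 < 8) && a.testBit (s + 32 * (p / 32)) &&
      b.testBit (k + p % 32)) := by
  have hsel : Nat.land (Nat.shiftRight a s) repC = pk 8 (fun i => (a.testBit (s + 32 * i)).toNat) := by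
    refine Nat.eq_of_testBit_eq fun q => ?_
    show ((a >>> s) &&& repC).testBit q = _
    rw [Nat.testBit_and, Nat.testBit_shiftRight, repC_eq, testBit_pk _ _ (fun _ => by norm_num),
      testBit_pk _ _ (fun i => lt_of_le_of_lt (Bool.toNat_le _) (by norm_num))]
    by_cases h0 : q % 32 = 0
    · rw [h0, show s + q = s + 32 * (q / 32) by omega]
      cases a.testBit (s + 32 * (q / 32)) <;> simp
    · have hb : ∀ c : Bool, c.toNat.testBit (q % 32) = false := fun c =>
        Nat.testBit_lt_two_pow (lt_of_le_of_lt (Bool.toNat_le c) (Nat.one_lt_two_pow h0))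
      have h1 : (1 : ℕ).testBit (q % 32) = false := hb true
      simp [hb, h1]
  have hrow : ∀ c : ℕ, Nat.land c slot < 2 ^ 32 := fun c =>
    lt_of_le_of_lt Nat.and_le_right (by norm_num [slot])
  show (Nat.land (Nat.shiftRight a s) repC * slot &&&
    Nat.land (Nat.shiftRight b k) slot * repC).testBit p = _
  rw [Nat.testBit_and, hsel, repC_eq, pk_mul, mul_comm (Nat.land (Nat.shiftRight b k) slot), pk_mul,
    testBit_pk _ _ (fun i => by cases a.testBit (s + 32 * i) <;> simp [slot]),
    testBit_pk _ _ (fun _ => by rw [one_mul]; exact hrow _)]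
  have hs : slot.testBit (p % 32) = true := by
    rw [show slot = 2 ^ 32 - 1 by norm_num [slot], Nat.testBit_two_pow_sub_one]
    simp [Nat.mod_lt]
  have hb : (Nat.land (Nat.shiftRight b k) slot).testBit (p % 32) = b.testBit (k + p % 32) := by
    show ((b >>> k) &&& slot).testBit _ = _
    rw [Nat.testBit_and, Nat.testBit_shiftRight, hs, Bool.and_true]
  rw [one_mul, hb]
  cases a.testBit (s + 32 * (p / 32)) <;> simp [hs]

/-! ### Meaning over a field -/

variable {F : Type*} [Field F]

/-- A bit as a scalar. -/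
def bv (b : Bool) : F := if b then 1 else 0

/-- Three bits as a scalar. -/
def i3 (α : F) (b₀ b₁ b₂ : Bool) : F := bv b₀ + bv b₁ * α + bv b₂ * α ^ 2

/-- The entry at a position. -/
def entP (α : F) (n p : ℕ) : F := i3 α (n.testBit p) (n.testBit (p + 1)) (n.testBit (p + 2))

/-- The matrix. -/
def toM (α : F) (n : ℕ) : Matrix (Fin 8) (Fin 8) F :=
  Matrix.of fun i j => entP α n (32 * i.val + 4 * j.val)

section CharTwo

variable [CharP F 2] (α : F)

theorem bv_xor (a b : Bool) : (bv (xor a b) : F) = bv a + bv b := by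
  cases a <;> cases b <;> simp [bv, CharTwo.add_self_eq_zero]

theorem entP_xor (a b p : ℕ) : entP α (Nat.xor a b) p = entP α a p + entP α b p := by
  show entP α (a ^^^ b) p = _
  simp only [entP, i3, Nat.testBit_xor, bv_xor]
  ring

theorem entP_term (a b k s : ℕ) (i j : Fin 8) :
    entP α (term a b k s) (32 * i.val + 4 * j.val) =
      bv (a.testBit (s + 32 * i.val)) * entP α b (k + 4 * j.val) := by
  have h : ∀ d < 4, (term a b k s).testBit (32 * i.val + 4 * j.val + d) =
      (a.testBit (s + 32 * i.val) && b.testBit (k + 4 * j.val + d)) := by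
    intro d hd
    have := i.isLt
    have := j.isLt
    rw [testBit_term, show (32 * i.val + 4 * j.val + d) / 32 = i.val by omega,
      show k + (32 * i.val + 4 * j.val + d) % 32 = k + 4 * j.val + d by omega]
    simp [i.isLt]
  have h0 := h 0 (by norm_num)
  rw [Nat.add_zero, Nat.add_zero] at h0
  simp only [entP, h0, h 1 (by norm_num), h 2 (by norm_num), i3]
  cases a.testBit (s + 32 * i.val) <;> simp [bv]

variable {α}

theorem entP_timesX (hα : α ^ 3 = α + 1) (n : ℕ) (i j : Fin 8) :
    entP α (timesX n) (32 * i.val + 4 * j.val) = α * entP α n (32 * i.val + 4 * j.val) := by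
  have tab : ∀ i j : Fin 8,
      low3.testBit (32 * i.val + 4 * j.val) = true ∧ low3.testBit (32 * i.val + 4 * j.val + 1) = true ∧
      (low3.testBit (32 * i.val + 4 * j.val - 1) = false ∨ 32 * i.val + 4 * j.val = 0) ∧
      low1.testBit (32 * i.val + 4 * j.val) = true ∧ low1.testBit (32 * i.val + 4 * j.val + 1) = false ∧
      low1.testBit (32 * i.val + 4 * j.val + 2) = false ∧
      (low1.testBit (32 * i.val + 4 * j.val - 1) = false ∨ 32 * i.val + 4 * j.val = 0) := by decide +kernel
  obtain ⟨a0, a1, am, c0, c1, c2, cm⟩ := tab i j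
  obtain ⟨p, hp⟩ : ∃ p, p = 32 * i.val + 4 * j.val := ⟨_, rfl⟩
  rw [← hp] at a0 a1 am c0 c1 c2 cm ⊢
  have e : ∀ q, (timesX n).testBit q = xor ((decide (1 ≤ q)) && (n.testBit (q - 1) && low3.testBit (q - 1)))
      (xor (n.testBit (2 + q) && low1.testBit q)
        ((decide (1 ≤ q)) && (n.testBit (2 + (q - 1)) && low1.testBit (q - 1)))) := by
    intro q
    show (((n &&& low3) <<< 1) ^^^ (((n >>> 2) &&& low1) ^^^ (((n >>> 2) &&& low1) <<< 1))).testBit q = _
    simp [Nat.testBit_xor, Nat.testBit_shiftLeft, Nat.testBit_and, Nat.testBit_shiftRight]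
  have e0 : (timesX n).testBit p = n.testBit (p + 2) := by
    rw [e, c0, Nat.add_comm 2 p]
    rcases Nat.eq_zero_or_pos p with h | h
    · simp [h]
    · simp [am.resolve_right (by omega), cm.resolve_right (by omega)]
  have e1 : (timesX n).testBit (p + 1) = xor (n.testBit p) (n.testBit (p + 2)) := by
    rw [e, c1, Nat.add_sub_cancel, a0, c0, Nat.add_comm 2 p]
    simp
  have e2 : (timesX n).testBit (p + 2) = n.testBit (p + 1) := by
    rw [e, c2, show p + 2 - 1 = p + 1 by omega, a1, c1]
    simp
  simp only [entP, e0, e1, e2, i3, bv_xor]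
  linear_combination -(bv (n.testBit (p + 2)) : F) * hα

theorem entP_row (hα : α ^ 3 = α + 1) (n : ℕ) (k j : Fin 8) :
    entP α (timesX n) (32 * k.val + 4 * j.val) = α * entP α n (32 * k.val + 4 * j.val) :=
  entP_timesX hα n k j

theorem toM_mulM (hα : α ^ 3 = α + 1) (a b : ℕ) : toM α (mulM a b) = toM α a * toM α b := by
  ext i j
  have key : ∀ k : Fin 8, entP α (term a b (32 * k.val) (4 * k.val)) (32 * i.val + 4 * j.val) +
      entP α (term a (timesX b) (32 * k.val) (4 * k.val + 1)) (32 * i.val + 4 * j.val) +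
      entP α (term a (timesX (timesX b)) (32 * k.val) (4 * k.val + 2)) (32 * i.val + 4 * j.val) =
      toM α a i k * toM α b k j := by
    intro k
    rw [entP_term, entP_term, entP_term, entP_timesX hα _ k j, entP_timesX hα _ k j, entP_timesX hα _ k j]
    simp only [toM, Matrix.of_apply, entP, i3, Nat.add_comm (32 * i.val)]
    rw [show 4 * k.val + 1 + 32 * i.val = 4 * k.val + 32 * i.val + 1 by omega,
      show 4 * k.val + 2 + 32 * i.val = 4 * k.val + 32 * i.val + 2 by omega]
    ring
  rw [Matrix.mul_apply, ← Finset.sum_congr rfl fun k _ => key k]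
  show entP α (mulM a b) _ = _
  simp only [mulM, force_eq, entP_xor, Fin.sum_univ_eight]
  simp only [Fin.isValue, show ((0 : Fin 8) : ℕ) = 0 from rfl, show ((1 : Fin 8) : ℕ) = 1 from rfl,
    show ((2 : Fin 8) : ℕ) = 2 from rfl, show ((3 : Fin 8) : ℕ) = 3 from rfl,
    show ((4 : Fin 8) : ℕ) = 4 from rfl, show ((5 : Fin 8) : ℕ) = 5 from rfl,
    show ((6 : Fin 8) : ℕ) = 6 from rfl, show ((7 : Fin 8) : ℕ) = 7 from rfl]
  norm_num
  ring

theorem toM_xor (a b : ℕ) : toM α (Nat.xor a b) = toM α a + toM α b := by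
  ext i j
  exact entP_xor α a b _

theorem toM_zero : toM α 0 = 0 := by
  ext i j
  simp [toM, entP, i3, bv]

omit [CharP F 2] in
theorem toM_oneM : toM α oneM = 1 := by
  have h : ∀ i j : Fin 8, oneM.testBit (32 * i.val + 4 * j.val) = decide (i = j) ∧
      oneM.testBit (32 * i.val + 4 * j.val + 1) = false ∧ oneM.testBit (32 * i.val + 4 * j.val + 2) = false := by
    decide +kernel
  ext i j
  obtain ⟨h0, h1, h2⟩ := h i j
  simp only [toM, Matrix.of_apply, entP, h0, h1, h2, i3, bv, Matrix.one_apply]
  by_cases e : i = j <;> simp [e]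

theorem i3_eq_zero (hα : α ^ 3 = α + 1) {a b c : Bool} (h : i3 α a b c = 0) :
    a = false ∧ b = false ∧ c = false := by
  have two : (2 : F) = 0 := CharTwo.two_eq_zero
  have hne : α ≠ 0 := fun e => one_ne_zero (α := F) (by simpa [e] using hα.symm)
  have hne1 : α ≠ 1 := fun e => one_ne_zero (α := F) (by linear_combination -(hα.trans (by rw [e])) + e * (α ^ 2 + α + 1))
  cases a <;> cases b <;> cases c <;> simp [i3, bv] at h ⊢
  all_goals first
    | exact hne h
    | exact hne1 (by linear_combination h - two)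
    | exact one_ne_zero (α := F) (by linear_combination h * (α - 1) - hα)
    | exact one_ne_zero (α := F) (by linear_combination h * α - hα - α * two)
    | exact hne (by linear_combination h * (α - 1) - hα)

/-- A matrix differing from the identity in some entry. -/
def neOne (n : ℕ) : Bool :=
  (List.range 8).any fun i => (List.range 8).any fun j =>
    !(n.testBit (32 * i + 4 * j) == decide (i = j) && !n.testBit (32 * i + 4 * j + 1) &&
      !n.testBit (32 * i + 4 * j + 2))

theorem toM_ne_one (hα : α ^ 3 = α + 1) {n : ℕ} (h : neOne n = true) : toM α n ≠ 1 := by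
  intro e
  simp only [neOne, List.any_eq_true, List.mem_range] at h
  obtain ⟨i, hi, j, hj, hd⟩ := h
  have he := congrFun (congrFun e ⟨i, hi⟩) ⟨j, hj⟩
  have h0 : i3 α (xor (n.testBit (32 * i + 4 * j)) (decide (i = j))) (n.testBit (32 * i + 4 * j + 1))
      (n.testBit (32 * i + 4 * j + 2)) = 0 := by
    simp only [toM, Matrix.of_apply, entP, i3, Matrix.one_apply, Fin.mk.injEq] at he
    simp only [i3, bv_xor]
    have hd : (bv (decide (i = j)) : F) = if i = j then 1 else 0 := by
      by_cases e : i = j <;> simp [bv, e]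
    rw [hd]
    linear_combination he + (if i = j then (1:F) else 0) * CharTwo.two_eq_zero (R := F)
  obtain ⟨h1, h2, h3⟩ := i3_eq_zero hα h0
  cases hn : n.testBit (32 * i + 4 * j) <;> simp [hn, h2, h3] at hd h1 <;> simp_all

end CharTwo

end Cfsg.Agent.InvChar.Iso3D4
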