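import Cfsg.Agent.InvChar.Iso3D4.Bruhat
import Cfsg.Agent.Lib.Chevalley.Natural.TypeD4
import Cfsg.Agent.Lib.Chevalley.Twist.SimpleD4
import Cfsg.Agent.S1071
import Cfsg.Prelude.Def_LieTwisted

/-!
The eight dimensional representation of the triality twisted group over eight elements.
-/

set_option autoImplicit false
set_option linter.unusedSectionVars false

namespace Cfsg.Agent.InvChar.Iso3D4

open Cfsg.Lie Cfsg.Agent.Chevalley Cfsg.Agent.Chevalley.Natural
  Cfsg.Agent.Chevalley.Twist Cfsg.Agent.Classical.OrthForms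

variable {K : Type*} [Field K] [Fintype K] [CharP K 2] {α : K}

/-- A code of a scalar. -/
def io (α : K) (c : ℕ) : K := entP α c 0

theorem toM_shift {c : ℕ} (hc : c < 8) (i j : Fin 8) :
    toM α (Nat.shiftLeft c (32 * i.val + 4 * j.val)) = Matrix.single i j (io α c) := by
  ext i' j'
  show entP α (c <<< (32 * i.val + 4 * j.val)) _ = _
  by_cases h : i = i' ∧ j = j'
  · obtain ⟨rfl, rfl⟩ := h
    have hb : ∀ d, (c <<< (32 * i.val + 4 * j.val)).testBit (32 * i.val + 4 * j.val + d) = c.testBit d :=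
      fun d => by rw [Nat.testBit_shiftLeft]; simp
    have h0 := hb 0
    rw [Nat.add_zero] at h0
    rw [Matrix.single_apply, if_pos ⟨rfl, rfl⟩]
    simp only [entP, io, h0, hb 1, hb 2, Nat.zero_add]
  · have hz : ∀ d < 3, (c <<< (32 * i.val + 4 * j.val)).testBit (32 * i'.val + 4 * j'.val + d) = false := by
      intro d hd
      have hne : i.val ≠ i'.val ∨ j.val ≠ j'.val := by
        by_contra hcon
        simp only [not_or, not_not] at hcon
        exact h ⟨Fin.ext hcon.1, Fin.ext hcon.2⟩
      rw [Nat.testBit_shiftLeft]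
      by_cases hle : 32 * i.val + 4 * j.val ≤ 32 * i'.val + 4 * j'.val + d
      · have := j.isLt
        have := j'.isLt
        have hc' : c.testBit (32 * i'.val + 4 * j'.val + d - (32 * i.val + 4 * j.val)) = false :=
          Nat.testBit_lt_two_pow (lt_of_lt_of_le hc (by
            calc (8 : ℕ) = 2 ^ 3 := rfl
              _ ≤ _ := Nat.pow_le_pow_right (by norm_num) (by omega)))
        simp [hc']
      · simp only [ge_iff_le, hle, decide_false, Bool.false_and]
    have h0 := hz 0 (by norm_num)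
    rw [Nat.add_zero] at h0
    simp only [entP, h0, hz 1 (by norm_num), hz 2 (by norm_num)]
    rw [Matrix.single_apply, if_neg (fun e => h ⟨e.1, e.2⟩)]
    simp [i3, bv]

theorem io_zero : io α 0 = 0 := by simp [io, entP, i3, bv]

theorem io_one : io α 1 = 1 := by simp [io, entP, i3, bv, Nat.testBit_one_eq_true_iff_self_eq_zero]

theorem exists_alpha (hK : Fintype.card K = 8) : ∃ α : K, α ^ 3 = α + 1 := by
  classical
  obtain ⟨β, h0, h1⟩ : ∃ β : K, β ≠ 0 ∧ β ≠ 1 := by
    by_contra hc
    push_neg at hc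
    have hle : Fintype.card K ≤ ({0, 1} : Finset K).card := by
      rw [← Finset.card_univ]
      refine Finset.card_le_card fun b _ => ?_
      rcases eq_or_ne b 0 with hb | hb
      · simp [hb]
      · simp [hc b hb]
    have : ({0, 1} : Finset K).card ≤ 2 := Finset.card_le_two
    omega
  have h7 : β ^ 7 = 1 := by
    have := FiniteField.pow_card_sub_one_eq_one β h0
    rwa [hK] at this
  have h2 : (2 : K) = 0 := CharTwo.two_eq_zero
  have hf : (β ^ 3 + β + 1) * (β ^ 3 + β ^ 2 + 1) = 0 := by
    have : (β - 1) * ((β ^ 3 + β + 1) * (β ^ 3 + β ^ 2 + 1)) = 0 := by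
      linear_combination h7 + (β ^ 4 - β ^ 3) * h2
    rcases mul_eq_zero.1 this with e | e
    · exact absurd (sub_eq_zero.1 e) h1
    · exact e
  rcases mul_eq_zero.1 hf with e | e
  · exact ⟨β, by linear_combination e - (β + 1) * h2⟩
  · refine ⟨β⁻¹, ?_⟩
    field_simp
    linear_combination -e + h2

theorem io_surj (hα : α ^ 3 = α + 1) (hK : Fintype.card K = 8) (t : K) : ∃ c < 8, t = io α c := by
  classical
  have hinj : Set.InjOn (io α) ↑(Finset.range 8) := by
    intro a ha b hb h
    simp only [Finset.coe_range, Set.mem_Iio] at ha hb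
    have h0 : i3 α (xor (a.testBit 0) (b.testBit 0)) (xor (a.testBit 1) (b.testBit 1))
        (xor (a.testBit 2) (b.testBit 2)) = 0 := by
      have e : io α (Nat.xor a b) = 0 := by rw [io, entP_xor]; exact (congrArg (· + entP α b 0) h).trans (CharTwo.add_self_eq_zero _)
      rw [← e]
      show _ = entP α (a ^^^ b) 0
      simp only [entP, Nat.testBit_xor, Nat.zero_add]
    obtain ⟨e0, e1, e2⟩ := i3_eq_zero hα h0
    have : ∀ a < 8, ∀ b < 8, xor (a.testBit 0) (b.testBit 0) = false → xor (a.testBit 1) (b.testBit 1) = false →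
        xor (a.testBit 2) (b.testBit 2) = false → a = b := by decide
    exact this a ha b hb e0 e1 e2
  have himg : (Finset.range 8).image (io α) = Finset.univ := by
    refine Finset.eq_univ_of_card _ ?_
    rw [Finset.card_image_of_injOn hinj, Finset.card_range, hK]
  have ht : t ∈ (Finset.range 8).image (io α) := by rw [himg]; exact Finset.mem_univ t
  obtain ⟨c, hc, rfl⟩ := Finset.mem_image.1 ht
  exact ⟨c, Finset.mem_range.1 hc, rfl⟩

/-- The square of a code. -/
def sqc (c : ℕ) : ℕ := [0, 1, 4, 5, 6, 7, 2, 3].getD c 0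

theorem io_sq (hα : α ^ 3 = α + 1) {c : ℕ} (hc : c < 8) : io α c ^ 2 = io α (sqc c) ∧ sqc c < 8 := by
  have htab : ∀ c < 8, (sqc c).testBit 0 = c.testBit 0 ∧ (sqc c).testBit 1 = c.testBit 2 ∧
      (sqc c).testBit 2 = xor (c.testBit 1) (c.testBit 2) ∧ sqc c < 8 := by decide
  obtain ⟨a, b, d, e⟩ := htab c hc
  refine ⟨?_, e⟩
  simp only [io, entP, Nat.zero_add, a, b, d, i3, bv_xor]
  have h2 : (2 : K) = 0 := CharTwo.two_eq_zero
  cases c.testBit 0 <;> cases c.testBit 1 <;> cases c.testBit 2 <;> simp [bv]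
  all_goals first
    | ring1
    | linear_combination α * hα
    | linear_combination α * h2
    | linear_combination α ^ 2 * h2
    | linear_combination α * hα + α ^ 3 * h2
    | linear_combination α * hα + (α ^ 3 + α + α ^ 2) * h2
    | linear_combination α * hα + α ^ 2 * h2
    | linear_combination α * hα + (α + α ^ 2) * h2

local notation "J" => Fin 4 ⊕ Fin 4

/-- Numbering of the natural coordinates. -/
def num : J → ℕ
  | .inl i => i.val
  | .inr i => 4 + i.val

/-- Renumbering of matrices. -/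
noncomputable def reidx : GL J K →* GL (Fin 8) K :=
  Units.map (Matrix.reindexAlgEquiv K K (finSumFinEquiv (m := 4) (n := 4))).toMonoidHom

/-- The natural representation of Steinberg's group. -/
noncomputable def psi (K : Type*) [Field K] : chevD4.SteinbergGroup K →* GL (Fin 8) K :=
  reidx.comp ((Cfsg.isometryGroup K ⇑(Cfsg.Agent.Forms.PlusStd.plusQ K 4)).subtype.comp
    (natHom (TypeD4.split K) TypeD4.certs
      (fun r hr s hs c hc => Relations.commTerms_lt Types.D4.certified hr hs c hc)))

theorem reindex_single (a b : J) (x : K) :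
    Matrix.reindexAlgEquiv K K (finSumFinEquiv (m := 4) (n := 4)) (Matrix.single a b x) =
      Matrix.single (finSumFinEquiv a) (finSumFinEquiv b) x := by
  ext i j
  simp [Matrix.reindexAlgEquiv, Matrix.single_apply, ← Equiv.eq_symm_apply]

theorem num_eq (a : J) : num a = (finSumFinEquiv a).val := by
  rcases a with i | i <;> simp [num, finSumFinEquiv, Fin.natAdd]

theorem psi_gen {r : ℕ} (hr : r < 24) {c : ℕ} (hc : c < 8) :
    (psi K (chevD4.stGen K r (io α c)) : Matrix (Fin 8) (Fin 8) K) = toM α (xrM r c) := by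
  have hlt : ∀ r < chevD4.nroots, ∀ s < chevD4.nroots, ∀ d ∈ chevD4.commTerms r s, d.1 < chevD4.nroots :=
    fun r hr s hs d hd => Relations.commTerms_lt Types.D4.certified hr hs d hd
  have htab : ∀ r < 24, ((TypeD4.data.rd r).2.2 = 1 ∨ (TypeD4.data.rd r).2.2 = -1) ∧
      ([(4, 5), (4, 6), (4, 3), (4, 7), (4, 2), (4, 1), (5, 6), (5, 3), (5, 7), (5, 2), (6, 3), (6, 7),
    (2, 3), (2, 7), (1, 6), (1, 3), (1, 7), (1, 2), (0, 5), (0, 6), (0, 3), (0, 7), (0, 2), (0, 1)] : List (ℕ × ℕ)).getD r (0, 0) =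
        (num (TypeD4.data.rd r).1, num (TypeD4.data.rd r).2.1) := by decide
  obtain ⟨hz, hab⟩ := htab r hr
  have hop : ∀ a : J, (num a + 4) % 8 = num (TypeD4.data.op a) := by decide
  rw [xrM]
  simp only [hab]
  rw [toM_xor, toM_xor, toM_oneM, hop, hop, num_eq, num_eq, num_eq, num_eq, toM_shift hc, toM_shift hc]
  have e0 : io α c = (((1 : ℤ) : K) * io α c ^ 1 * (1 : K) ^ 0) := by simp
  have hx : (psi K (chevD4.stGen K r (io α c)) : Matrix (Fin 8) (Fin 8) K) =
      Matrix.reindexAlgEquiv K K (finSumFinEquiv (m := 4) (n := 4))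
        (Natural.toM (xr (TypeD4.split K) (R := TypeD4.data) r (io α c))) := by
    show Matrix.reindexAlgEquiv K K finSumFinEquiv (Natural.toM (natHom _ TypeD4.certs _ (chevD4.stGen K r (io α c)))) = _
    rw [natHom_gen (TypeD4.split K) TypeD4.certs hlt hr]
  rw [hx]
  conv_lhs => rw [e0, toM_xr (TypeD4.split K) TypeD4.certs hr]
  rw [RData.xT, RData.rootT, ev_append, ev_oneL TypeD4.certs.nodup TypeD4.certs.full, map_add, map_one]
  congr 1
  simp only [ev, term1, List.map_cons, List.map_nil, List.sum_cons, List.sum_nil, add_zero, map_add,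
    reindex_single, show ∀ b, TypeD4.data.q b = 0 from fun _ => rfl]
  rcases hz with hz | hz <;> simp [hz, CharTwo.neg_eq]

/-- Nilpotent parts of root elements. -/
def aM (r : ℕ) : ℕ := Nat.xor (xrM r 1) oneM

theorem aM_gen : ∀ i < 8, ∀ k < 8, i = k ∨ ∃ r < 24, ∃ s < 24,
    Nat.beq (mul2 (aM r) (aM s)) (Nat.shiftLeft 1 (32 * i + 4 * k)) = true := by decide +kernel

theorem psi_central (hα : α ^ 3 = α + 1) {z : chevD4.SteinbergGroup K}
    (hz : z ∈ Subgroup.center (chevD4.SteinbergGroup K)) : psi K z = 1 := by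
  have hA : ∀ r < 24, Commute (psi K z : Matrix (Fin 8) (Fin 8) K) (toM α (aM r)) := by
    intro r hr
    have hc := congrArg (psi K) ((Subgroup.mem_center_iff.1 hz) (chevD4.stGen K r (io α 1)))
    rw [map_mul, map_mul] at hc
    have hm := congrArg Units.val hc
    rw [Units.val_mul, Units.val_mul, psi_gen hr (by norm_num)] at hm
    rw [aM, toM_xor, toM_oneM]
    exact (Commute.symm hm).add_right (Commute.one_right _)
  obtain ⟨c, hc⟩ : (psi K z : Matrix (Fin 8) (Fin 8) K) ∈ Set.range ⇑(Matrix.scalar (Fin 8)) := by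
    refine Matrix.mem_range_scalar_of_commute_single fun i k hik => ?_
    rcases aM_gen i.val i.isLt k.val k.isLt with e | ⟨r, hr, s, hs, e⟩
    · exact absurd (Fin.ext e) hik
    · rw [← io_one (α := α), ← toM_shift (α := α) (by norm_num : 1 < 8) i k, ← Nat.eq_of_beq_eq_true e,
        mul2_eq, toM_mulM hα]
      exact ((hA r hr).mul_right (hA s hs)).symm
  obtain ⟨M, hM⟩ : ∃ M : Matrix J J K, (psi K z : Matrix (Fin 8) (Fin 8) K) =
      Matrix.reindexAlgEquiv K K (finSumFinEquiv (m := 4) (n := 4)) M ∧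
      ∀ v, Cfsg.Agent.Forms.PlusStd.plusQ K 4 (M.mulVec v) = Cfsg.Agent.Forms.PlusStd.plusQ K 4 v := by
    refine ⟨Natural.toM (natHom (TypeD4.split K) TypeD4.certs
      (fun r hr s hs c hc => Relations.commTerms_lt Types.D4.certified hr hs c hc) z), rfl, ?_⟩
    intro v
    exact (natHom (TypeD4.split K) TypeD4.certs
      (fun r hr s hs c hc => Relations.commTerms_lt Types.D4.certified hr hs c hc) z).2 v v
  obtain ⟨hM, hQ⟩ := hM
  have hMc : M = c • (1 : Matrix J J K) := by
    apply (Matrix.reindexAlgEquiv K K (finSumFinEquiv (m := 4) (n := 4))).injective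
    rw [← hM, ← hc, map_smul, map_one]
    exact (Matrix.smul_one_eq_diagonal c).symm
  have := hQ (Pi.single (Sum.inl 0) 1 + Pi.single (Sum.inr 0) 1)
  rw [hMc, Matrix.smul_mulVec, Matrix.one_mulVec, QuadraticMap.map_smul] at this
  have h1 : Cfsg.Agent.Forms.PlusStd.plusQ K 4 (Pi.single (Sum.inl 0) 1 + Pi.single (Sum.inr 0) 1) = 1 := by
    simp [Cfsg.Agent.Forms.PlusStd.plusQ_apply, Cfsg.quadFormPlus, Fin.sum_univ_four]
  rw [h1, smul_eq_mul, mul_one] at this
  have hc1 : c = 1 := by
    have h2 : (2 : K) = 0 := CharTwo.two_eq_zero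
    have : (c - 1) * (c - 1) = 0 := by linear_combination this - (c - 1) * h2
    exact sub_eq_zero.1 (mul_self_eq_zero.1 this)
  apply Units.ext
  rw [← hc, hc1, map_one, Units.val_one]

end Cfsg.Agent.InvChar.Iso3D4
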