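import Cfsg.Agent.InvChar.Iso3D4.Cert

/-! Certificate trees. -/

set_option autoImplicit false

namespace Cfsg.Agent.InvChar.Iso3D4

open Cert

def cert0_0_0_0_0 : Cert :=
  (cons (cons (cons (lf 1) (cons (lf 2) nil)) (cons (cons (lf 2) (cons (sh 0x200040000000) nil)) nil)) (cons (cons (cons (lf 2) (cons (sh 0x2000400000000) nil)) (cons (sh 0x400080000000) nil)) (cons (sh 0x800100000008000) (cons (sh 0xa00140000008000) (cons (sh 0x200040000008000) (cons (sh 0x6000c0000008000) (cons (sh 0x400080000008000) (cons (sh 0xc00180000008000) nil))))))))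

def cert0_0_0_0_1 : Cert :=
  (cons (cons (cons (lf 2) (cons (sh 0x10002000000000) nil)) (cons (sh 0x400080000800) nil)) (cons (cons (cons (lf 4) (cons (sh 0x400080000000) nil)) (cons (cons (lf 4) (cons (sh 0x400080000000) nil)) nil)) (cons (sh 0x800100000400) (cons (sh 0x800100008400) (cons (sh 0x1000200000400) (cons (sh 0x1000200008400) (cons (sh 0x1800300000400) (cons (sh 0x1800300008400) nil))))))))

def cert0_0_0_1_0 : Cert :=
  (cons (cons (cons (lf 2) (cons (sh 0x112022400000000) nil)) (cons (sh 0x2000400000800) nil)) (cons (cons (cons (lf 4) (cons (lf 4) nil)) (cons (sh 0x192c32580000000) nil)) (cons (sh 0x4000800000800) (cons (sh 0x1b5836b00008c00) (cons (sh 0x8001000000800) (cons (sh 0xf901f200008c00) (cons (sh 0xc001800000800) (cons (sh 0xbd817b00008c00) nil))))))))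

def cert0_0_0_1_2 : Cert :=
  (cons (cons (cons (lf 4) (cons (sh 0x190832100000000) nil)) (cons (sh 0x800100000800) nil)) (cons (sh 0x111022200000000) (cons (sh 0x132426480000000) (cons (sh 0x115022a00000800) (cons (sh 0x1e803d000000800) (cons (sh 0x119023200000000) (cons (sh 0xc001800000000) (cons (sh 0x11d023a00000000) nil))))))))

def cert0_0_0_1_4 : Cert :=
  (cons (cons (cons (lf 4) (cons (sh 0x16002c000000000) nil)) (cons (sh 0x118423080000000) nil)) (cons (sh 0x119c23380000400) (cons (sh 0x124024800000800) (cons (sh 0xa4814900000000) (cons (sh 0x400080000800) (cons (sh 0xc00180000400) (cons (sh 0x4400880000000) (cons (sh 0x115c22b80000400) nil))))))))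

def cert0_0_0_1_6 : Cert :=
  (cons (cons (cons (lf 4) (cons (sh 0x7200e400000000) nil)) (cons (sh 0xdc01b80000800) nil)) (cons (sh 0x1f103e200000c00) (cons (sh 0xe581cb00000c00) (cons (sh 0x139427280000000) (cons (sh 0x8001000000000) (cons (sh 0xf901f200000c00) (cons (sh 0x1ed83db00000400) (cons (sh 0x1fd03fa00000400) nil))))))))

def cert0_0_0 : Cert :=
  (cons (cons cert0_0_0_0_0 (cons cert0_0_0_0_1 (cons (sh 0x6000c0000008000) (cons (sh 0x400080000008000) (cons (sh 0xc00180000008000) (cons (sh 0x800100000008000) (cons (sh 0xa00140000008000) (cons (sh 0x200040000008000) nil)))))))) (cons (cons cert0_0_0_1_0 (cons (sh 0x200040000c80) (cons cert0_0_0_1_2 (cons (sh 0x200040010c80) (cons cert0_0_0_1_4 (cons (sh 0x200040020c80) (cons cert0_0_0_1_6 (cons (sh 0x200040030c80) nil)))))))) (cons (sh 0x6000c0000008000) (cons (sh 0x400080000008000) (cons (sh 0xc00180000008000) (cons (sh 0x800100000008000) (cons (sh 0xa00140000008000) (cons (sh 0x200040000008000) nil))))))))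

def cert0_0_1_0_0 : Cert :=
  (cons (cons (cons (lf 2) (cons (sh 0x80010000000000) nil)) (cons (cons (lf 4) (cons (sh 0x182030400000000) nil)) nil)) (cons (cons (cons (lf 2) (cons (sh 0x90012000000000) nil)) (cons (cons (lf 4) (cons (sh 0x192232440000000) nil)) nil)) (cons (sh 0x800100000008000) (cons (sh 0xa00140000008000) (cons (sh 0x200040000008000) (cons (sh 0x6000c0000008000) (cons (sh 0x400080000008000) (cons (sh 0xc00180000008000) nil))))))))

def cert0_0_1_1_0 : Cert :=
  (cons (cons (cons (lf 8) (cons (sh 0x80010000000000) nil)) (cons (sh 0x2000400000800) nil)) (cons (cons (cons (lf 8) (cons (sh 0x80010000000000) nil)) (cons (sh 0x926124c0000800) nil)) (cons (sh 0x4000800000800) (cons (sh 0xe661ccc0008000) (cons (sh 0x8001000000800) (cons (sh 0x8001000008800) (cons (sh 0xc001800000800) (cons (sh 0xc001800008800) nil))))))))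

def cert0_0_1 : Cert :=
  (cons (cons cert0_0_1_0_0 (cons (sh 0x400080000880) (cons (sh 0x800100000a80) (cons (sh 0xc00180000b00) (cons (sh 0x1000200000b80) (cons (sh 0x1400280000900) (cons (sh 0xc01980300000b80) (cons (sh 0x1c00380000a00) nil)))))))) (cons (cons cert0_0_1_1_0 (cons (sh 0x200040000c80) (cons (sh 0x800100000780) (cons (sh 0x12ca25940000900) (cons (sh 0x1000200000580) (cons (sh 0xf921f240000900) (cons (sh 0x1800300000680) (cons (sh 0xbda17b40000a00) nil)))))))) (cons (sh 0x6000c0000008000) (cons (sh 0x400080000008000) (cons (sh 0xc00180000008000) (cons (sh 0x800100000008000) (cons (sh 0xa00140000008000) (cons (sh 0x200040000008000) nil))))))))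

def cert0_1_0_0_0 : Cert :=
  (cons (cons (cons (lf 7) (cons (lf 14) nil)) (cons (cons (lf 14) (cons (sh 0x200040000000) nil)) nil)) (cons (sh 0x20004000000000) (cons (sh 0x40008000000000) (cons (sh 0x6000c000000000) (cons (sh 0xc30186000000000) (cons (sh 0x10002000000000) (cons (sh 0x7000e000000000) (cons (sh 0x5000a000000000) nil))))))))

def cert0_1_0 : Cert :=
  (cons (cons cert0_1_0_0_0 (cons (sh 0x6000c00000000) (cons (sh 0xc0c181800000000) (cons (sh 0xa001400000000) (cons (sh 0xe001c00000000) (cons (sh 0x8001000000000) (cons (sh 0x2000400000000) (cons (sh 0x4000800000000) nil)))))))) (cons (sh 0xc00180000000) (cons (sh 0xc01980300000000) (cons (sh 0x1400280000000) (cons (sh 0x1c00380000000) (cons (sh 0x1000200000000) (cons (sh 0x400080000000) (cons (sh 0x800100000000) nil))))))))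

def cert0_1_1_0_0 : Cert :=
  (cons (cons (cons (lf 14) (cons (sh 0x80010000000000) nil)) (cons (cons (lf 28) (cons (sh 0x80010000000000) nil)) nil)) (cons (sh 0x20004000000000) (cons (sh 0x40008000000000) (cons (sh 0x6000c000000000) (cons (sh 0xc30186000000000) (cons (sh 0x10002000000000) (cons (sh 0x7000e000000000) (cons (sh 0x5000a000000000) nil))))))))

def cert0_1_1 : Cert :=
  (cons (cons cert0_1_1_0_0 (cons (sh 0x6000c00000000) (cons (sh 0xc0c181800000000) (cons (sh 0xa001400000000) (cons (sh 0xe001c00000000) (cons (sh 0x8001000000000) (cons (sh 0x2000400000000) (cons (sh 0x4000800000000) nil)))))))) (cons (sh 0xc00180000ea0) (cons (sh 0xc01980300000c90) (cons (sh 0x1400280000de0) (cons (sh 0x1c00380000f30) (cons (sh 0x1000200000c90) (cons (sh 0x400080000e70) (cons (sh 0x800100000d50) nil))))))))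

def cert0_2_0_0_0 : Cert :=
  (cons (cons (cons (lf 7) (cons (lf 14) nil)) (cons (cons (lf 14) (cons (sh 0x200040000000) nil)) nil)) (cons (sh 0x40008000000000) (cons (sh 0xc30186000000000) (cons (sh 0x7000e000000000) (cons (sh 0x6000c000000000) (cons (sh 0x20004000000000) (cons (sh 0x5000a000000000) (cons (sh 0x10002000000000) nil))))))))

def cert0_2_0 : Cert :=
  (cons (cons cert0_2_0_0_0 (cons (sh 0xa001400000000) (cons (sh 0x2000400000000) (cons (sh 0x8001000000000) (cons (sh 0x4000800000000) (cons (sh 0xe001c00000000) (cons (sh 0x6000c00000000) (cons (sh 0xc0c181800000000) nil)))))))) (cons (sh 0x1400280000000) (cons (sh 0x400080000000) (cons (sh 0x1000200000000) (cons (sh 0x800100000000) (cons (sh 0x1c00380000000) (cons (sh 0xc00180000000) (cons (sh 0xc01980300000000) nil))))))))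

def cert0_2_1_0_0 : Cert :=
  (cons (cons (cons (lf 14) (cons (sh 0x80010000000000) nil)) (cons (cons (lf 28) (cons (sh 0xc80190000000000) nil)) nil)) (cons (sh 0x40008000000000) (cons (sh 0xc30186000000000) (cons (sh 0x7000e000000000) (cons (sh 0x6000c000000000) (cons (sh 0x20004000000000) (cons (sh 0x5000a000000000) (cons (sh 0x10002000000000) nil))))))))

def cert0_2_1 : Cert :=
  (cons (cons cert0_2_1_0_0 (cons (sh 0xa001400000000) (cons (sh 0x2000400000000) (cons (sh 0x8001000000000) (cons (sh 0x4000800000000) (cons (sh 0xe001c00000000) (cons (sh 0x6000c00000000) (cons (sh 0xc0c181800000000) nil)))))))) (cons (sh 0x1400280000fc0) (cons (sh 0x400080000f30) (cons (sh 0x1000200000e70) (cons (sh 0x800100000de0) (cons (sh 0x1c00380000ea0) (cons (sh 0xc00180000d50) (cons (sh 0xc01980300000e70) nil))))))))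

def cert0_3_0_0_0 : Cert :=
  (cons (cons (cons (lf 7) (cons (lf 14) nil)) (cons (cons (lf 14) (cons (sh 0x200040000000) nil)) nil)) (cons (sh 0x7000e000000000) (cons (sh 0x5000a000000000) (cons (sh 0x20004000000000) (cons (sh 0x10002000000000) (cons (sh 0x6000c000000000) (cons (sh 0x40008000000000) (cons (sh 0xc30186000000000) nil))))))))

def cert0_3_0 : Cert :=
  (cons (cons cert0_3_0_0_0 (cons (sh 0xc0c181800000000) (cons (sh 0xe001c00000000) (cons (sh 0x2000400000000) (cons (sh 0xa001400000000) (cons (sh 0x6000c00000000) (cons (sh 0x4000800000000) (cons (sh 0x8001000000000) nil)))))))) (cons (sh 0xc01980300000000) (cons (sh 0x1c00380000000) (cons (sh 0x400080000000) (cons (sh 0x1400280000000) (cons (sh 0xc00180000000) (cons (sh 0x800100000000) (cons (sh 0x1000200000000) nil))))))))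

def cert0_3_1_0_0 : Cert :=
  (cons (cons (cons (lf 14) (cons (sh 0x80010000000000) nil)) (cons (cons (lf 28) (cons (sh 0x80010000000000) nil)) nil)) (cons (sh 0x7000e000000000) (cons (sh 0x5000a000000000) (cons (sh 0x20004000000000) (cons (sh 0x10002000000000) (cons (sh 0x6000c000000000) (cons (sh 0x40008000000000) (cons (sh 0xc30186000000000) nil))))))))

def cert0_3_1 : Cert :=
  (cons (cons cert0_3_1_0_0 (cons (sh 0xc0c181800000000) (cons (sh 0xe001c00000000) (cons (sh 0x2000400000000) (cons (sh 0xa001400000000) (cons (sh 0x6000c00000000) (cons (sh 0x4000800000000) (cons (sh 0x8001000000000) nil)))))))) (cons (sh 0xc01980300000f30) (cons (sh 0x1c00380000d50) (cons (sh 0x400080000ea0) (cons (sh 0x1400280000c90) (cons (sh 0xc00180000de0) (cons (sh 0x800100000fc0) (cons (sh 0x1000200000f30) nil))))))))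

def cert0_4_0_0_0 : Cert :=
  (cons (cons (cons (lf 7) (cons (lf 14) nil)) (cons (cons (lf 14) (cons (sh 0x100220040000000) nil)) nil)) (cons (sh 0x6000c000000000) (cons (sh 0x7000e000000000) (cons (sh 0x10002000000000) (cons (sh 0x5000a000000000) (cons (sh 0xc30186000000000) (cons (sh 0x20004000000000) (cons (sh 0x40008000000000) nil))))))))

def cert0_4_0 : Cert :=
  (cons (cons cert0_4_0_0_0 (cons (sh 0xe001c00000000) (cons (sh 0xa001400000000) (cons (sh 0x4000800000000) (cons (sh 0x2000400000000) (cons (sh 0xc0c181800000000) (cons (sh 0x8001000000000) (cons (sh 0x6000c00000000) nil)))))))) (cons (sh 0x1c00380000000) (cons (sh 0x1400280000000) (cons (sh 0x800100000000) (cons (sh 0x400080000000) (cons (sh 0xc01980300000000) (cons (sh 0x1000200000000) (cons (sh 0xc00180000000) nil))))))))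

def cert0_4_1_0_0 : Cert :=
  (cons (cons (cons (lf 14) (cons (sh 0x80010000000000) nil)) (cons (cons (lf 28) (cons (sh 0x180030000000000) nil)) nil)) (cons (sh 0x6000c000000000) (cons (sh 0x7000e000000000) (cons (sh 0x10002000000000) (cons (sh 0x5000a000000000) (cons (sh 0xc30186000000000) (cons (sh 0x20004000000000) (cons (sh 0x40008000000000) nil))))))))

def cert0_4_1 : Cert :=
  (cons (cons cert0_4_1_0_0 (cons (sh 0xe001c00000000) (cons (sh 0xa001400000000) (cons (sh 0x4000800000000) (cons (sh 0x2000400000000) (cons (sh 0xc0c181800000000) (cons (sh 0x8001000000000) (cons (sh 0x6000c00000000) nil)))))))) (cons (sh 0x1c00380000de0) (cons (sh 0x1400280000e70) (cons (sh 0x800100000c90) (cons (sh 0x400080000d50) (cons (sh 0xc01980300000ea0) (cons (sh 0x1000200000ea0) (cons (sh 0xc00180000fc0) nil))))))))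

def cert0_5_0_0_0 : Cert :=
  (cons (cons (cons (lf 7) (cons (lf 14) nil)) (cons (cons (lf 14) (cons (sh 0x200040000000) nil)) nil)) (cons (sh 0x5000a000000000) (cons (sh 0x10002000000000) (cons (sh 0x40008000000000) (cons (sh 0x20004000000000) (cons (sh 0x7000e000000000) (cons (sh 0xc30186000000000) (cons (sh 0x6000c000000000) nil))))))))

def cert0_5_0 : Cert :=
  (cons (cons cert0_5_0_0_0 (cons (sh 0x8001000000000) (cons (sh 0x6000c00000000) (cons (sh 0xe001c00000000) (cons (sh 0xc0c181800000000) (cons (sh 0x4000800000000) (cons (sh 0xa001400000000) (cons (sh 0x2000400000000) nil)))))))) (cons (sh 0x1000200000000) (cons (sh 0xc00180000000) (cons (sh 0x1c00380000000) (cons (sh 0xc01980300000000) (cons (sh 0x800100000000) (cons (sh 0x1400280000000) (cons (sh 0x400080000000) nil))))))))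

def cert0_5_1_0_0 : Cert :=
  (cons (cons (cons (lf 14) (cons (sh 0x80010000000000) nil)) (cons (cons (lf 28) (cons (sh 0x200040000000) nil)) nil)) (cons (sh 0x5000a000000000) (cons (sh 0x10002000000000) (cons (sh 0x40008000000000) (cons (sh 0x20004000000000) (cons (sh 0x7000e000000000) (cons (sh 0xc30186000000000) (cons (sh 0x6000c000000000) nil))))))))

def cert0_5_1 : Cert :=
  (cons (cons cert0_5_1_0_0 (cons (sh 0x8001000000000) (cons (sh 0x6000c00000000) (cons (sh 0xe001c00000000) (cons (sh 0xc0c181800000000) (cons (sh 0x4000800000000) (cons (sh 0xa001400000000) (cons (sh 0x2000400000000) nil)))))))) (cons (sh 0x1000200000d50) (cons (sh 0xc00180000c90) (cons (sh 0x1c00380000fc0) (cons (sh 0xc01980300000d50) (cons (sh 0x800100000e70) (cons (sh 0x1400280000f30) (cons (sh 0x400080000de0) nil))))))))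

def cert0_6_0_0_0 : Cert :=
  (cons (cons (cons (lf 7) (cons (lf 14) nil)) (cons (cons (lf 14) (cons (sh 0x200040000000) nil)) nil)) (cons (sh 0xc30186000000000) (cons (sh 0x6000c000000000) (cons (sh 0x5000a000000000) (cons (sh 0x7000e000000000) (cons (sh 0x40008000000000) (cons (sh 0x10002000000000) (cons (sh 0x20004000000000) nil))))))))

def cert0_6_0 : Cert :=
  (cons (cons cert0_6_0_0_0 (cons (sh 0x4000800000000) (cons (sh 0x8001000000000) (cons (sh 0xc0c181800000000) (cons (sh 0x6000c00000000) (cons (sh 0x2000400000000) (cons (sh 0xe001c00000000) (cons (sh 0xa001400000000) nil)))))))) (cons (sh 0x800100000000) (cons (sh 0x1000200000000) (cons (sh 0xc01980300000000) (cons (sh 0xc00180000000) (cons (sh 0x400080000000) (cons (sh 0x1c00380000000) (cons (sh 0x1400280000000) nil))))))))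

def cert0_6_1_0_0 : Cert :=
  (cons (cons (cons (lf 14) (cons (sh 0x80010000000000) nil)) (cons (cons (lf 28) (cons (sh 0x200040000000) nil)) nil)) (cons (sh 0xc30186000000000) (cons (sh 0x6000c000000000) (cons (sh 0x5000a000000000) (cons (sh 0x7000e000000000) (cons (sh 0x40008000000000) (cons (sh 0x10002000000000) (cons (sh 0x20004000000000) nil))))))))

def cert0_6_1 : Cert :=
  (cons (cons cert0_6_1_0_0 (cons (sh 0x4000800000000) (cons (sh 0x8001000000000) (cons (sh 0xc0c181800000000) (cons (sh 0x6000c00000000) (cons (sh 0x2000400000000) (cons (sh 0xe001c00000000) (cons (sh 0xa001400000000) nil)))))))) (cons (sh 0x800100000f30) (cons (sh 0x1000200000de0) (cons (sh 0xc01980300000de0) (cons (sh 0xc00180000e70) (cons (sh 0x400080000fc0) (cons (sh 0x1c00380000c90) (cons (sh 0x1400280000ea0) nil))))))))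

def cert0 : Cert :=
  (cons (cons cert0_0_0 (cons cert0_0_1 nil)) (cons (cons cert0_1_0 (cons cert0_1_1 nil)) (cons (cons cert0_2_0 (cons cert0_2_1 nil)) (cons (cons cert0_3_0 (cons cert0_3_1 nil)) (cons (cons cert0_4_0 (cons cert0_4_1 nil)) (cons (cons cert0_5_0 (cons cert0_5_1 nil)) (cons (cons cert0_6_0 (cons cert0_6_1 nil)) nil)))))))

def cert1_0_0_0_0 : Cert :=
  (cons (cons (cons (lf 2) (cons (lf 4) nil)) (cons (sh 0x80020000000800) nil)) (cons (cons (cons (lf 2) (cons (lf 4) nil)) (cons (sh 0x80020000000800) nil)) (cons (sh 0x800100000008000) (cons (sh 0xa00140000008000) (cons (sh 0x200040000008000) (cons (sh 0x6000c0000008000) (cons (sh 0x400080000008000) (cons (sh 0xc00180000008000) nil))))))))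

def cert1_0_0_0_1 : Cert :=
  (cons (cons (cons (lf 8) (cons (sh 0x10002000000000) nil)) (cons (sh 0x90022000000000) nil)) (cons (cons (cons (lf 8) (cons (sh 0x10002000000000) nil)) (cons (sh 0x2430480000800) nil)) (cons (sh 0x144828900000400) (cons (sh 0x144828900008400) (cons (sh 0xc9019200000400) (cons (sh 0xc9019200008400) (cons (sh 0x5d83bb00000000) (cons (sh 0x5d83bb00008000) nil))))))))

def cert1_0_0 : Cert :=
  (cons (cons cert1_0_0_0_0 (cons cert1_0_0_0_1 (cons (sh 0x6000c0000008000) (cons (sh 0x400080000008000) (cons (sh 0xc00180000008000) (cons (sh 0x800100000008000) (cons (sh 0xa00140000008000) (cons (sh 0x200040000008000) nil)))))))) (cons (sh 0x400400000010) (cons (sh 0x800800000020) (cons (sh 0xc00c00000030) (cons (sh 0x1001000000040) (cons (sh 0x1401400000050) (cons (sh 0xc01981800000040) (cons (sh 0x1c01c00000070) nil))))))))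

def cert1_0_1_0_0 : Cert :=
  (cons (cons (cons (lf 3) (cons (sh 0x180030000000000) nil)) (cons (sh 0x80020000000000) nil)) (cons (cons (cons (lf 6) (cons (sh 0x180030000000000) nil)) (cons (sh 0x90022000000000) nil)) (cons (sh 0x86010c000008000) (cons (sh 0xa7014e000008000) (cons (sh 0x2c0068000008400) (cons (sh 0x6400c8000008000) (cons (sh 0x4e00ac000008400) (cons (sh 0xc10182000008000) nil))))))))

def cert1_0_1 : Cert :=
  (cons (cons cert1_0_1_0_0 (cons (sh 0xd225a4480000a00) (cons (sh 0x15482a900000280) (cons (sh 0x1e6c0cd80000700) (cons (sh 0x189001200000f80) (cons (sh 0x18b401680000d00) (cons (sh 0x4d839b00000d80) (cons (sh 0x13fc27f80000a00) nil)))))))) (cons (sh 0x400400000480) (cons (sh 0x800800000680) (cons (sh 0xc00c00000700) (cons (sh 0x1001000000780) (cons (sh 0x1401400000500) (cons (sh 0xc01981800000780) (cons (sh 0x1c01c00000600) nil))))))))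

def cert1_1_0_0_0 : Cert :=
  (cons (cons (cons (lf 14) (cons (lf 28) nil)) (cons (sh 0x80020000000800) nil)) (cons (sh 0x20004000000000) (cons (sh 0x40008000000000) (cons (sh 0x6000c000000000) (cons (sh 0xc30186000000000) (cons (sh 0x10002000000000) (cons (sh 0x7000e000000000) (cons (sh 0x5000a000000000) nil))))))))

def cert1_1_0 : Cert :=
  (cons (cons cert1_1_0_0_0 (cons (sh 0x1bd419700000580) (cons (sh 0xee400780000680) (cons (sh 0x53023080000580) (cons (sh 0xba800a80000780) (cons (sh 0x37c2dd80000480) (cons (sh 0x124c30d00000580) (cons (sh 0xc699afa00000580) nil)))))))) (cons (sh 0x1001000000040) (cons (sh 0x4000100000050) (cons (sh 0x148400600000600) (cons (sh 0x8000200000010) (cons (sh 0x800800000020) (cons (sh 0xc0c180300000010) (cons (sh 0x400400000010) nil))))))))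

def cert1_1_1_0_0 : Cert :=
  (cons (cons (cons (lf 21) (cons (sh 0x180030000000000) nil)) (cons (sh 0x80020000000000) nil)) (cons (sh 0x20004000000000) (cons (sh 0x40008000000000) (cons (sh 0x6000c000000000) (cons (sh 0xc30186000000000) (cons (sh 0x10002000000000) (cons (sh 0x7000e000000000) (cons (sh 0x5000a000000000) nil))))))))

def cert1_1_1 : Cert :=
  (cons (cons cert1_1_1_0_0 (cons (sh 0xba800a80000680) (cons (sh 0x53023080000d00) (cons (sh 0xc699afa00000d00) (cons (sh 0x124c30d00000f00) (cons (sh 0xee400780000480) (cons (sh 0x37c2dd80000f80) (cons (sh 0x1bd419700000400) nil)))))))) (cons (sh 0x1001000000cd0) (cons (sh 0x4000100000050) (cons (sh 0x148400600000870) (cons (sh 0x8000200000010) (cons (sh 0x800800000d70) (cons (sh 0xc0c180300000010) (cons (sh 0x400400000e60) nil))))))))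

def cert1_2_0_0_0 : Cert :=
  (cons (cons (cons (lf 14) (cons (lf 28) nil)) (cons (sh 0x80020000000800) nil)) (cons (sh 0x40008000000000) (cons (sh 0xc30186000000000) (cons (sh 0x7000e000000000) (cons (sh 0x6000c000000000) (cons (sh 0x20004000000000) (cons (sh 0x5000a000000000) (cons (sh 0x10002000000000) nil))))))))

def cert1_2_0 : Cert :=
  (cons (cons cert1_2_0_0_0 (cons (sh 0x135c31d00000480) (cons (sh 0xc395af600000680) (cons (sh 0x15c838b00000780) (cons (sh 0xa6400580000780) (cons (sh 0x73823880000680) (cons (sh 0xdf001380000580) (cons (sh 0xfac00e80000600) nil)))))))) (cons (sh 0x2000080000030) (cons (sh 0x4000100000060) (cons (sh 0x400400000010) (cons (sh 0x8000200000070) (cons (sh 0xa000280000040) (cons (sh 0x800800000020) (cons (sh 0x1001000000040) nil))))))))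

def cert1_2_1_0_0 : Cert :=
  (cons (cons (cons (lf 21) (cons (sh 0x180030000000000) nil)) (cons (sh 0x80020000000000) nil)) (cons (sh 0x40008000000000) (cons (sh 0xc30186000000000) (cons (sh 0x7000e000000000) (cons (sh 0x6000c000000000) (cons (sh 0x20004000000000) (cons (sh 0x5000a000000000) (cons (sh 0x10002000000000) nil))))))))

def cert1_2_1 : Cert :=
  (cons (cons cert1_2_1_0_0 (cons (sh 0xdf001380000780) (cons (sh 0xfac00e80000700) (cons (sh 0x135c31d00000e00) (cons (sh 0x73823880000e00) (cons (sh 0x15c838b00000600) (cons (sh 0xc395af600000e00) (cons (sh 0xa6400580000480) nil)))))))) (cons (sh 0x2000080000030) (cons (sh 0x4000100000060) (cons (sh 0x400400000f20) (cons (sh 0x8000200000070) (cons (sh 0xa000280000040) (cons (sh 0x800800000dc0) (cons (sh 0x1001000000e30) nil))))))))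

def cert1_3_0_0_0 : Cert :=
  (cons (cons (cons (lf 14) (cons (lf 28) nil)) (cons (sh 0x80020000000800) nil)) (cons (sh 0x7000e000000000) (cons (sh 0x5000a000000000) (cons (sh 0x20004000000000) (cons (sh 0x10002000000000) (cons (sh 0x6000c000000000) (cons (sh 0x40008000000000) (cons (sh 0xc30186000000000) nil))))))))

def cert1_3_0 : Cert :=
  (cons (cons cert1_3_0_0_0 (cons (sh 0x118800a00000a80) (cons (sh 0x157001180000b80) (cons (sh 0xd6f981b80000b80) (cons (sh 0xbcc38f00000800) (cons (sh 0xd24580500000a00) (cons (sh 0x13bc01e80000a00) (cons (sh 0x153403480000b00) nil)))))))) (cons (sh 0x2000080000020) (cons (sh 0x400400000010) (cons (sh 0x1001000000040) (cons (sh 0x800800000020) (cons (sh 0xa2800880000900) (cons (sh 0xe3801880000b40) (cons (sh 0x122c00c80000510) nil))))))))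

def cert1_3_1_0_0 : Cert :=
  (cons (cons (cons (lf 21) (cons (sh 0x180030000000000) nil)) (cons (sh 0x80020000000000) nil)) (cons (sh 0x7000e000000000) (cons (sh 0x5000a000000000) (cons (sh 0x20004000000000) (cons (sh 0x10002000000000) (cons (sh 0x6000c000000000) (cons (sh 0x40008000000000) (cons (sh 0xc30186000000000) nil))))))))

def cert1_3_1 : Cert :=
  (cons (cons cert1_3_1_0_0 (cons (sh 0x157001180000080) (cons (sh 0xbcc38f00000180) (cons (sh 0x13bc01e80000300) (cons (sh 0xd6f981b80000080) (cons (sh 0x118800a00000100) (cons (sh 0x153403480000b80) (cons (sh 0xd24580500000300) nil)))))))) (cons (sh 0x2000080000020) (cons (sh 0x4004000006b0) (cons (sh 0x1001000000770) (cons (sh 0x8008000007e0) (cons (sh 0xa2800880000ec0) (cons (sh 0xe3801880000d30) (cons (sh 0x122c00c800000f0) nil))))))))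

def cert1_4_0_0_0 : Cert :=
  (cons (cons (cons (lf 14) (cons (lf 28) nil)) (cons (sh 0x80020000000800) nil)) (cons (sh 0x6000c000000000) (cons (sh 0x7000e000000000) (cons (sh 0x10002000000000) (cons (sh 0x5000a000000000) (cons (sh 0xc30186000000000) (cons (sh 0x20004000000000) (cons (sh 0x40008000000000) nil))))))))

def cert1_4_0 : Cert :=
  (cons (cons cert1_4_0_0_0 (cons (sh 0xb8c0ce00000400) (cons (sh 0xf7801980000680) (cons (sh 0xf427780000980) (cons (sh 0x3dc2bf00000580) (cons (sh 0x55029100000680) (cons (sh 0xca400680000580) (cons (sh 0x32822880000780) nil)))))))) (cons (sh 0x800800000020) (cons (sh 0x1001000000040) (cons (sh 0xd6c5807000006d0) (cons (sh 0x8000200000020) (cons (sh 0x400400000010) (cons (sh 0xc0c180300000020) (cons (sh 0xc9c980b00000a70) nil))))))))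

def cert1_4_1_0_0 : Cert :=
  (cons (cons (cons (lf 21) (cons (sh 0x180030000000000) nil)) (cons (sh 0x80020000000000) nil)) (cons (sh 0x6000c000000000) (cons (sh 0x7000e000000000) (cons (sh 0x10002000000000) (cons (sh 0x5000a000000000) (cons (sh 0xc30186000000000) (cons (sh 0x20004000000000) (cons (sh 0x40008000000000) nil))))))))

def cert1_4_1 : Cert :=
  (cons (cons cert1_4_1_0_0 (cons (sh 0xf7801980000580) (cons (sh 0x3dc2bf00000c00) (cons (sh 0xca400680000480) (cons (sh 0xf427780000380) (cons (sh 0xb8c0ce00000f80) (cons (sh 0x32822880000f00) (cons (sh 0x55029100000c00) nil)))))))) (cons (sh 0x800800000cb0) (cons (sh 0x1001000000ee0) (cons (sh 0xd6c580700000b30) (cons (sh 0x8000200000020) (cons (sh 0x400400000d40) (cons (sh 0xc0c180300000020) (cons (sh 0xc9c980b00000400) nil))))))))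

def cert1_5_0_0_0 : Cert :=
  (cons (cons (cons (lf 14) (cons (lf 28) nil)) (cons (sh 0x80020000000800) nil)) (cons (sh 0x5000a000000000) (cons (sh 0x10002000000000) (cons (sh 0x40008000000000) (cons (sh 0x20004000000000) (cons (sh 0x7000e000000000) (cons (sh 0xc30186000000000) (cons (sh 0x6000c000000000) nil))))))))

def cert1_5_0 : Cert :=
  (cons (cons cert1_5_0_0_0 (cons (sh 0x95831900000980) (cons (sh 0x39c1de00000980) (cons (sh 0x2c418700000900) (cons (sh 0x177401580000900) (cons (sh 0xb2c32c80000a00) (cons (sh 0x13e800b80000a80) (cons (sh 0x14b001280000b80) nil)))))))) (cons (sh 0x2000080000060) (cons (sh 0x4000100000070) (cons (sh 0x118800a000004f0) (cons (sh 0x8000200000050) (cons (sh 0x1001000000040) (cons (sh 0x400400000010) (cons (sh 0x800800000020) nil))))))))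

def cert1_5_1_0_0 : Cert :=
  (cons (cons (cons (lf 21) (cons (sh 0x180030000000000) nil)) (cons (sh 0x80020000000000) nil)) (cons (sh 0x5000a000000000) (cons (sh 0x10002000000000) (cons (sh 0x40008000000000) (cons (sh 0x20004000000000) (cons (sh 0x7000e000000000) (cons (sh 0xc30186000000000) (cons (sh 0x6000c000000000) nil))))))))

def cert1_5_1 : Cert :=
  (cons (cons cert1_5_1_0_0 (cons (sh 0x13e800b80000080) (cons (sh 0x14b001280000280) (cons (sh 0x95831900000b00) (cons (sh 0xb2c32c80000280) (cons (sh 0x2c418700000080) (cons (sh 0x39c1de00000200) (cons (sh 0x177401580000200) nil)))))))) (cons (sh 0x2000080000060) (cons (sh 0x4000100000070) (cons (sh 0x118800a00000280) (cons (sh 0x8000200000050) (cons (sh 0x1001000000510) (cons (sh 0x4004000005f0) (cons (sh 0x800800000650) nil))))))))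

def cert1_6_0_0_0 : Cert :=
  (cons (cons (cons (lf 14) (cons (lf 28) nil)) (cons (sh 0x80020000000800) nil)) (cons (sh 0xc30186000000000) (cons (sh 0x6000c000000000) (cons (sh 0x5000a000000000) (cons (sh 0x7000e000000000) (cons (sh 0x40008000000000) (cons (sh 0x10002000000000) (cons (sh 0x20004000000000) nil))))))))

def cert1_6_0 : Cert :=
  (cons (cons cert1_6_0_0_0 (cons (sh 0x5d019300000900) (cons (sh 0x16ec06f80000780) (cons (sh 0x173c03c80000900) (cons (sh 0x17b801a80000980) (cons (sh 0x126800980000a80) (cons (sh 0xd35581500000980) (cons (sh 0x148400600000880) nil)))))))) (cons (sh 0x2000080000040) (cons (sh 0x4000100000030) (cons (sh 0x800800000020) (cons (sh 0x400400000010) (cons (sh 0x182400480000c50) (cons (sh 0x1001000000040) (cons (sh 0xc3001080000a00) nil))))))))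

def cert1_6_1_0_0 : Cert :=
  (cons (cons (cons (lf 21) (cons (sh 0x180030000000000) nil)) (cons (sh 0x80020000000000) nil)) (cons (sh 0xc30186000000000) (cons (sh 0x6000c000000000) (cons (sh 0x5000a000000000) (cons (sh 0x7000e000000000) (cons (sh 0x40008000000000) (cons (sh 0x10002000000000) (cons (sh 0x20004000000000) nil))))))))

def cert1_6_1 : Cert :=
  (cons (cons cert1_6_1_0_0 (cons (sh 0x17b801a80000080) (cons (sh 0x173c03c80000980) (cons (sh 0x148400600000300) (cons (sh 0xd35581500000080) (cons (sh 0x16ec06f80000580) (cons (sh 0x126800980000180) (cons (sh 0x5d019300000080) nil)))))))) (cons (sh 0x2000080000040) (cons (sh 0x4000100000030) (cons (sh 0x800800000710) (cons (sh 0x4004000007d0) (cons (sh 0x182400480000b90) (cons (sh 0x10010000005a0) (cons (sh 0xc3001080000fe0) nil))))))))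

def cert1 : Cert :=
  (cons (cons cert1_0_0 (cons cert1_0_1 nil)) (cons (cons cert1_1_0 (cons cert1_1_1 nil)) (cons (cons cert1_2_0 (cons cert1_2_1 nil)) (cons (cons cert1_3_0 (cons cert1_3_1 nil)) (cons (cons cert1_4_0 (cons cert1_4_1 nil)) (cons (cons cert1_5_0 (cons cert1_5_1 nil)) (cons (cons cert1_6_0 (cons cert1_6_1 nil)) nil)))))))

def cert2_0_0_0_0 : Cert :=
  (cons (cons (cons (lf 2) (cons (sh 0x180210040000000) nil)) (cons (cons (lf 8) (cons (sh 0x12022400000000) nil)) nil)) (cons (cons (cons (lf 8) (cons (sh 0x180210040000000) nil)) (cons (cons (lf 4) (cons (lf 4) nil)) nil)) (cons (cons (cons (lf 4) (cons (sh 0x12022400000000) nil)) (cons (cons (lf 8) (cons (sh 0x12022400000000) nil)) nil)) (cons (cons (cons (lf 8) (cons (sh 0x80230040000000) nil)) (cons (cons (lf 4) (cons (sh 0x48009000000000) nil)) nil)) (cons (cons (cons (lf 4) (cons (sh 0x12022400000000) nil)) (cons (cons (lf 8) (cons (sh 0x12022400000000) nil)) nil)) (cons (cons (cons (lf 8) (cons (sh 0x80230040000000) nil)) (cons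 (cons (lf 4) (cons (sh 0x24004800000000) nil)) nil)) (cons (cons (cons (lf 4) (cons (sh 0x180210040000000) nil)) (cons (cons (lf 8) (cons (sh 0x112002400000000) nil)) nil)) (cons (cons (cons (lf 8) (cons (sh 0x48009000000000) nil)) (cons (cons (lf 4) (cons (sh 0x48009000000000) nil)) nil)) nil))))))))

def cert2_0_0_1_0 : Cert :=
  (cons (cons (cons (lf 3) (cons (lf 6) nil)) (cons (cons (lf 12) (cons (sh 0x82232040000000) nil)) nil)) (cons (cons (cons (lf 12) (cons (sh 0x12022400000000) nil)) (cons (cons (lf 12) (cons (sh 0x112002400000000) nil)) nil)) (cons (sh 0x136006c00000800) (cons (sh 0x124024800008800) (cons (sh 0x148029000000800) (cons (sh 0x48009000008800) (cons (sh 0x6c00d800000800) (cons (sh 0xee23f840008800) nil))))))))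

def cert2_0_0_2_0 : Cert :=
  (cons (cons (cons (lf 9) (cons (lf 18) nil)) (cons (sh 0x24004800000800) nil)) (cons (sh 0x48009000000c00) (cons (sh 0x12022400000c00) (cons (sh 0x15a00b400000800) (cons (sh 0xde23f440000800) (cons (sh 0x196236440000c00) (cons (sh 0x1cc23d040000c00) (cons (sh 0x1a0210840000c00) nil))))))))

def cert2_0_0_3_0 : Cert :=
  (cons (cons (cons (lf 7) (cons (lf 14) nil)) (cons (cons (lf 28) (cons (sh 0x1f8239c40000000) nil)) nil)) (cons (cons (cons (lf 14) (cons (sh 0x136006c00000000) nil)) (cons (cons (lf 14) (cons (sh 0x36026c00000000) nil)) nil)) (cons (sh 0x24004800000400) (cons (sh 0x112002400008c00) (cons (sh 0x7e02fc00008800) (cons (sh 0x1b0210c40000000) (cons (sh 0x16c02d800008c00) (cons (sh 0x16c02d800000c00) nil))))))))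

def cert2_0_0_4_0 : Cert :=
  (cons (cons (cons (lf 9) (cons (lf 18) nil)) (cons (sh 0x148029000000800) nil)) (cons (sh 0x24004800000000) (cons (sh 0xac21c840000000) (cons (sh 0x88238040000000) (cons (sh 0x112002400000c00) (cons (sh 0x136006c00000400) (cons (sh 0xbe23ec40000400) (cons (sh 0x9a21a440000c00) nil))))))))

def cert2_0_0_5_0 : Cert :=
  (cons (cons (cons (lf 7) (cons (lf 14) nil)) (cons (cons (lf 28) (cons (sh 0x1bc23cc40000000) nil)) nil)) (cons (cons (cons (lf 14) (cons (sh 0x15a00b400000000) nil)) (cons (cons (lf 14) (cons (sh 0xe6217840000000) nil)) nil)) (cons (sh 0x24004800008c00) (cons (sh 0x198218440000400) (cons (sh 0x1f4235c40000c00) (cons (sh 0x112002400008c00) (cons (sh 0x1d0211440008800) (cons (sh 0x1d0211440000000) nil))))))))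

def cert2_0_0_6_0 : Cert :=
  (cons (cons (cons (lf 9) (cons (lf 18) nil)) (cons (sh 0x16c02d800000800) nil)) (cons (sh 0x48009000000000) (cons (sh 0x1d6217440000400) (cons (sh 0xf2213c40000000) (cons (sh 0x1a8238840000c00) (cons (sh 0x1e0211840000c00) (cons (sh 0x17e00fc00000000) (cons (sh 0x5a02b400000400) nil))))))))

def cert2_0_0_7_0 : Cert :=
  (cons (cons (cons (lf 7) (cons (lf 14) nil)) (cons (cons (lf 28) (cons (sh 0xd4215440000000) nil)) nil)) (cons (cons (cons (lf 14) (cons (sh 0x17e00fc00000000) nil)) (cons (cons (lf 14) (cons (sh 0x7e02fc00000000) nil)) nil)) (cons (sh 0x1f0211c40008800) (cons (sh 0x5a02b400000000) (cons (sh 0x148029000008c00) (cons (sh 0x148029000000c00) (cons (sh 0xb8218c40000c00) (cons (sh 0x112002400008c00) nil))))))))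

def cert2_0_0 : Cert :=
  (cons (cons cert2_0_0_0_0 (cons (sh 0x2002000000080) (cons (sh 0x4004000000100) (cons (sh 0x6006000000180) (cons (sh 0x8008000000200) (cons (sh 0xa00a000000280) (cons (sh 0xc00c000000300) (cons (sh 0xe00e000000380) nil)))))))) (cons (cons cert2_0_0_1_0 (cons (sh 0x2002000000c80) (cons (sh 0x4004000000800) (cons (sh 0x78029c00000780) (cons (sh 0x8008000000800) (cons (sh 0x188218040000c80) (cons (sh 0xc00c000000800) (cons (sh 0x18c21c040000c80) nil)))))))) (cons (cons cert2_0_0_2_0 (cons (sh 0x2002000000580) (cons (sh 0x4004000000d00) (cons (sh 0x6006000000880) (cons (sh 0x8008000000a80) (cons (sh 0x18e21e040000c80) (cons (sh 0x188218040000c00) (cons (sh 0xe00e000000a00) nil)))))))) (cons (cons cert2_0_0_3_0 (cons (sh 0x2002000000980) (cons (sh 0x4004000000400) (cons (sh 0x180210040000700) (cons (sh 0x8008000000480) (cons (sh 0x18c21c040000f80) (cons (sh 0xc00c000000880) (cons (sh 0x188218040000b80) nil)))))))) (cons (cons cert2_0_0_4_0 (cons (sh 0x2002000000680) (cons (sh 0x4004000000580)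 (cons (sh 0x18e21e040000a80) (cons (sh 0x8008000000e00) (cons (sh 0xa00a000000880) (cons (sh 0x184214040000a00) (cons (sh 0xe00e000000500) nil)))))))) (cons (cons cert2_0_0_5_0 (cons (sh 0x2002000000a80) (cons (sh 0x4004000000880) (cons (sh 0x18c21c040000980) (cons (sh 0x8008000000400) (cons (sh 0x180210040000500) (cons (sh 0xc00c000000480) (cons (sh 0xe00e000000600) nil)))))))) (cons (cons cert2_0_0_6_0 (cons (sh 0x2002000000780) (cons (sh 0x4004000000980) (cons (sh 0x18a21a040000c80) (cons (sh 0x8008000000680) (cons (sh 0xa00a000000900) (cons (sh 0x180210040000580) (cons (sh 0xe00e000000880) nil)))))))) (cons (cons cert2_0_0_7_0 (cons (sh 0x2002000000b80) (cons (sh 0x4004000000480) (cons (sh 0x188218040000e80) (cons (sh 0x8008000000880) (cons (sh 0x1a0210840000300) (cons (sh 0xc00c000000400) (cons (sh 0x180210040000600) nil)))))))) nil))))))))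

def cert2 : Cert :=
  (cons (cons cert2_0_0 (cons (sh 0x210000000400) nil)) (cons (sh 0x600100000000000) (cons (sh 0xc00040000000000) (cons (sh 0x400140000000000) (cons (sh 0xa00080000000000) (cons (sh 0x200180000000000) (cons (sh 0x8000c0000000000) nil)))))))

def cert3_0_0_0_0 : Cert :=
  (cons (cons (cons (lf 6) (cons (lf 8) nil)) (cons (sh 0x100010000000800) nil)) (cons (cons (cons (lf 12) (cons (lf 7) nil)) (cons (sh 0x100010000000800) nil)) (cons (cons (cons (lf 28) (cons (lf 13) nil)) (cons (sh 0x100010000000800) nil)) (cons (cons (cons (lf 21) (cons (lf 18) nil)) (cons (sh 0x100010000000800) nil)) (cons (cons (cons (lf 28) (cons (lf 13) nil)) (cons (sh 0x100010000000800) nil)) (cons (cons (cons (lf 21) (cons (lf 18) nil)) (cons (sh 0x100010000000800) nil)) (cons (cons (cons (lf 28) (cons (lf 13) nil)) (cons (sh 0x100010000000800) nil)) (cons (cons (cons (lf 21) (cons (lf 18) nil)) (cons (sh 0x100010000000800) nil)) nil))))))))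

def cert3_0_0 : Cert :=
  (cons (cons cert3_0_0_0_0 (cons (sh 0x2002000000080) (cons (sh 0x4004000000100) (cons (sh 0x6006000000180) (cons (sh 0x8008000000200) (cons (sh 0xa00a000000280) (cons (sh 0xc00c000000300) (cons (sh 0xe00e000000380) nil)))))))) (cons (sh 0x10000080000080) (cons (sh 0x20000100000100) (cons (sh 0x30000180000180) (cons (sh 0x40000200000200) (cons (sh 0x50000280000280) (cons (sh 0x60000300000300) (cons (sh 0x70000380000380) nil))))))))

def cert3 : Cert :=
  (cons (cons cert3_0_0 (cons (sh 0x220000000800) nil)) (cons (sh 0x600100000000000) (cons (sh 0xc00040000000000) (cons (sh 0x400140000000000) (cons (sh 0xa00080000000000) (cons (sh 0x200180000000000) (cons (sh 0x8000c0000000000) nil)))))))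

def cert4_0_0_0_0 : Cert :=
  (cons (cons (cons (lf 6) (cons (lf 8) nil)) (cons (sh 0x80020000000800) nil)) (cons (cons (cons (lf 12) (cons (lf 7) nil)) (cons (sh 0x80020000000800) nil)) (cons (cons (cons (lf 28) (cons (lf 13) nil)) (cons (sh 0x80020000000800) nil)) (cons (cons (cons (lf 21) (cons (lf 18) nil)) (cons (sh 0x80020000000800) nil)) (cons (cons (cons (lf 28) (cons (lf 13) nil)) (cons (sh 0x80020000000800) nil)) (cons (cons (cons (lf 21) (cons (lf 18) nil)) (cons (sh 0x80020000000800) nil)) (cons (cons (cons (lf 28) (cons (lf 13) nil)) (cons (sh 0x80020000000800) nil)) (cons (cons (cons (lf 21) (cons (lf 18) nil)) (cons (sh 0x80020000000800) nil)) nil))))))))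

def cert4_0_0 : Cert :=
  (cons (cons cert4_0_0_0_0 (cons (sh 0x10000400000080) (cons (sh 0x20000800000100) (cons (sh 0x30000c00000180) (cons (sh 0x40001000000200) (cons (sh 0x50001400000280) (cons (sh 0x60001800000300) (cons (sh 0x70001c00000380) nil)))))))) (cons (sh 0x402000000080) (cons (sh 0x804000000100) (cons (sh 0xc06000000180) (cons (sh 0x1008000000200) (cons (sh 0x140a000000280) (cons (sh 0x180c000000300) (cons (sh 0x1c0e000000380) nil))))))))

def cert4 : Cert :=
  (cons (cons cert4_0_0 (cons (sh 0x100000040000800) nil)) (cons (sh 0x600100000000000) (cons (sh 0xc00040000000000) (cons (sh 0x400140000000000) (cons (sh 0xa00080000000000) (cons (sh 0x200180000000000) (cons (sh 0x8000c0000000000) nil)))))))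

def cert5_0_0_0_0 : Cert :=
  (cons (cons (cons (lf 2) (cons (lf 8) nil)) (cons (sh 0x90402080000000) nil)) (cons (cons (cons (lf 8) (cons (lf 4) nil)) (cons (cons (lf 8) (cons (lf 4) nil)) nil)) (cons (cons (cons (lf 4) (cons (lf 8) nil)) (cons (sh 0x10412080000000) nil)) (cons (cons (cons (lf 8) (cons (lf 4) nil)) (cons (sh 0x41008200000000) nil)) (cons (cons (cons (lf 4) (cons (lf 8) nil)) (cons (sh 0x10412080000000) nil)) (cons (cons (cons (lf 8) (cons (lf 4) nil)) (cons (sh 0x20804100000000) nil)) (cons (cons (cons (lf 4) (cons (lf 8) nil)) (cons (sh 0x20804100000000) nil)) (cons (cons (cons (lf 8) (cons (lf 4) nil)) (cons (sh 0x41008200000000) nil)) nil))))))))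

def cert5_0_0_0_1 : Cert :=
  (cons (cons (cons (lf 3) (cons (lf 12) nil)) (cons (cons (lf 6) (cons (lf 12) nil)) nil)) (cons (cons (cons (lf 12) (cons (lf 12) nil)) (cons (sh 0x10412080000000) nil)) (cons (sh 0x20804100000400) (cons (sh 0x20804100008400) (cons (sh 0x41008200000400) (cons (sh 0x41008200008400) (cons (sh 0x6180c300000400) (cons (sh 0xe181c300008400) nil))))))))

def cert5_0_0_0_2 : Cert :=
  (cons (cons (cons (lf 9) (cons (lf 18) nil)) (cons (sh 0xa0814100000800) nil)) (cons (sh 0x41008200000c00) (cons (sh 0x10412080000c00) (cons (sh 0xd140a280000400) (cons (cons (cons (lf 18) (cons (sh 0x20804100000000) nil)) (cons (cons (lf 9) (cons (sh 0xa0814100000000) nil)) nil)) (cons (sh 0x41008200020c00) (cons (sh 0x90402080020c00) (cons (sh 0xd140a280020400) nil))))))))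

def cert5_0_0_0_3 : Cert :=
  (cons (cons (cons (lf 7) (cons (lf 28) nil)) (cons (cons (lf 14) (cons (lf 28) nil)) nil)) (cons (cons (cons (lf 14) (cons (lf 14) nil)) (cons (sh 0x30c16180000000) nil)) (cons (sh 0x10412080000800) (cons (sh 0x10412080008c00) (cons (sh 0x71c1e380008400) (cons (sh 0x41008200000000) (cons (sh 0xd140a280008800) (cons (sh 0x5141a280000c00) nil))))))))

def cert5_0_0_0_4 : Cert :=
  (cons (cons (cons (lf 9) (cons (lf 18) nil)) (cons (sh 0x41008200000800) nil)) (cons (sh 0x20804100000000) (cons (cons (cons (lf 9) (cons (sh 0x41008200000000) nil)) (cons (cons (lf 18) (cons (sh 0x41008200000000) nil)) nil)) (cons (sh 0x20804100010000) (cons (sh 0x10412080000c00) (cons (sh 0x30c16180000800) (cons (sh 0x10412080010c00) (cons (sh 0xb0c06180010800) nil))))))))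

def cert5_0_0_0_5 : Cert :=
  (cons (cons (cons (lf 7) (cons (lf 28) nil)) (cons (cons (lf 14) (cons (lf 28) nil)) nil)) (cons (cons (cons (lf 14) (cons (lf 14) nil)) (cons (sh 0xd140a280000000) nil)) (cons (sh 0x71c1e380008800) (cons (sh 0x20804100000c00) (cons (sh 0x41008200000800) (cons (sh 0x10412080008c00) (cons (sh 0x30c16180008400) (cons (sh 0xb0c06180000000) nil))))))))

def cert5_0_0_0_6 : Cert :=
  (cons (cons (cons (lf 9) (cons (lf 18) nil)) (cons (sh 0x6180c300000800) nil)) (cons (sh 0x41008200000000) (cons (cons (cons (lf 18) (cons (sh 0xe181c300000000) nil)) (cons (cons (lf 9) (cons (sh 0xe181c300000000) nil)) nil)) (cons (sh 0x20804100010c00) (cons (sh 0x71c1e380010400) (cons (sh 0xb0c06180010400) (cons (sh 0xf1c0e380000000) (cons (sh 0x5141a280000800) nil))))))))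

def cert5_0_0_0_7 : Cert :=
  (cons (cons (cons (lf 7) (cons (lf 28) nil)) (cons (cons (lf 14) (cons (lf 28) nil)) nil)) (cons (cons (cons (lf 14) (cons (lf 14) nil)) (cons (sh 0x71c1e380000000) nil)) (cons (sh 0xd140a280008400) (cons (sh 0x5141a280000000) (cons (sh 0x30c16180008800) (cons (sh 0x41008200000c00) (cons (sh 0x10412080000800) (cons (sh 0x10412080008c00) nil))))))))

def cert5_0_0 : Cert :=
  (cons (cons cert5_0_0_0_0 (cons cert5_0_0_0_1 (cons cert5_0_0_0_2 (cons cert5_0_0_0_3 (cons cert5_0_0_0_4 (cons cert5_0_0_0_5 (cons cert5_0_0_0_6 (cons cert5_0_0_0_7 nil)))))))) (cons (sh 0x402000000080) (cons (sh 0x804000000100) (cons (sh 0xc06000000180) (cons (sh 0x1008000000200) (cons (sh 0x140a000000280) (cons (sh 0x180c000000300) (cons (sh 0x1c0e000000380) nil))))))))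

def cert5_0_1_0_0 : Cert :=
  (cons (cons (cons (lf 8) (cons (sh 0x80010000000000) nil)) (cons (cons (lf 6) (cons (sh 0x80010000000000) nil)) nil)) (cons (cons (cons (lf 7) (cons (sh 0x80010000000000) nil)) (cons (cons (lf 12) (cons (sh 0x80010000000000) nil)) nil)) (cons (cons (cons (lf 13) (cons (sh 0x80010000000000) nil)) (cons (cons (lf 28) (cons (sh 0x80010000000000) nil)) nil)) (cons (cons (cons (lf 18) (cons (sh 0x80010000000000) nil)) (cons (cons (lf 21) (cons (sh 0x80010000000000) nil)) nil)) (cons (cons (cons (lf 13) (cons (sh 0x80010000000000) nil)) (cons (cons (lf 28) (cons (sh 0x80010000000000) nil)) nil)) (cons (cons (cons (lf 18) (cons (sh 0x80010000000000) nil)) (cons (cons (lf 21) (cons (sh 0x80010000000000) nil)) nil)) (cons (cons (cons (lf 13) (cons (sh 0x80010000000000) nil)) (cons (cons (lf 28) (cons (sh 0x80010000000000) nil)) nil)) (cons (cons (cons (lf 18) (cons (sh 0x80010000000000) nil)) (cons (cons (lf 21) (cons (sh 0x80010000000000) nil)) nil)) nil))))))))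

def cert5_0_1 : Cert :=
  (cons (cons cert5_0_1_0_0 (cons (sh 0x10412080000480) (cons (sh 0xa0814100000280) (cons (sh 0x30c16180000700) (cons (sh 0x41008200000b80) (cons (sh 0x5141a280000500) (cons (sh 0x6180c300000980) (cons (sh 0xf1c0e380000e00) nil)))))))) (cons (sh 0x402000000c10) (cons (sh 0x804000000fa0) (cons (sh 0xc06000000eb0) (cons (sh 0x1008000000dc0) (cons (sh 0x140a000000fd0) (cons (sh 0x180c000000ee0) (cons (sh 0x1c0e000000df0) nil))))))))

def cert5 : Cert :=
  (cons (cons cert5_0_0 (cons cert5_0_1 nil)) (cons (sh 0x600100000000000) (cons (sh 0xc00040000000000) (cons (sh 0x400140000000000) (cons (sh 0xa00080000000000) (cons (sh 0x200180000000000) (cons (sh 0x8000c0000000000) nil)))))))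

def cert6_0_0_0_0 : Cert :=
  (cons (cons (cons (lf 2) (cons (lf 4) nil)) (cons (cons (lf 3) (cons (sh 0x100220040000000) nil)) nil)) (cons (cons (cons (lf 8) (cons (sh 0x2000400000000) nil)) (cons (cons (lf 6) (cons (sh 0x2000400000000) nil)) nil)) (cons (sh 0x800100000008000) (cons (sh 0xa00140000008000) (cons (sh 0x200040000008000) (cons (sh 0x6000c0000008000) (cons (sh 0x400080000008000) (cons (sh 0xc00180000008000) nil))))))))

def cert6_0_0_0_1 : Cert :=
  (cons (cons (cons (lf 2) (cons (lf 4) nil)) (cons (cons (lf 6) (cons (sh 0x100220040000000) nil)) nil)) (cons (cons (cons (lf 8) (cons (sh 0x2000400000000) nil)) (cons (cons (lf 3) (cons (sh 0x2000400000000) nil)) nil)) (cons (cons (cons (lf 8) (cons (sh 0x8001000000000) nil)) (cons (cons (lf 6) (cons (sh 0x8001000000000) nil)) nil)) (cons (cons (cons (lf 8) (cons (sh 0x2000400000000) nil)) (cons (cons (lf 6) (cons (sh 0x100220040000000) nil)) nil)) (cons (cons (cons (lf 8) (cons (sh 0x6000c00000000) nil)) (cons (cons (lf 6) (cons (sh 0x100220040000000)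 nil)) nil)) (cons (cons (cons (lf 8) (cons (sh 0x2000400000000) nil)) (cons (cons (lf 6) (cons (sh 0xc001800000000) nil)) nil)) (cons (cons (cons (lf 8) (cons (sh 0x4000800000000) nil)) (cons (cons (lf 6) (cons (sh 0x100220040000000) nil)) nil)) (cons (cons (cons (lf 8) (cons (sh 0x8001000000000) nil)) (cons (cons (lf 6) (cons (sh 0x100220040000000) nil)) nil)) nil))))))))

def cert6_0_0_1_0 : Cert :=
  (cons (cons (cons (lf 8) (cons (lf 6) nil)) (cons (sh 0x2000400000800) nil)) (cons (cons (cons (lf 12) (cons (lf 7) nil)) (cons (sh 0x2000400000000) nil)) (cons (sh 0x4000800000800) (cons (sh 0x4000800008800) (cons (sh 0x8001000000800) (cons (sh 0x8001000008800) (cons (sh 0xc001800000800) (cons (sh 0xc001800008800) nil))))))))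

def cert6_0_0_1_2 : Cert :=
  (cons (cons (cons (lf 13) (cons (lf 28) nil)) (cons (sh 0x2000400000800) nil)) (cons (cons (cons (lf 21) (cons (lf 18) nil)) (cons (sh 0x2000400000000) nil)) (cons (sh 0x4000800000800) (cons (sh 0x4000800008800) (cons (sh 0x8001000000000) (cons (sh 0x8001000008000) (cons (sh 0xc001800000000) (cons (sh 0xc001800008000) nil))))))))

def cert6_0_0_1_4 : Cert :=
  (cons (cons (cons (lf 13) (cons (lf 28) nil)) (cons (sh 0x2000400000800) nil)) (cons (cons (cons (lf 21) (cons (lf 18) nil)) (cons (sh 0x2000400000000) nil)) (cons (sh 0x6000c00000c00) (cons (sh 0x4000800008000) (cons (sh 0xa001400000400) (cons (sh 0x8001000008800) (cons (sh 0xe001c00000c00) (cons (sh 0xc001800008000) nil))))))))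

def cert6_0_0_1_6 : Cert :=
  (cons (cons (cons (lf 13) (cons (lf 28) nil)) (cons (sh 0x2000400000800) nil)) (cons (cons (cons (lf 21) (cons (lf 18) nil)) (cons (sh 0x2000400000000) nil)) (cons (sh 0x4000800000000) (cons (sh 0x4000800008000) (cons (sh 0xa001400000c00) (cons (sh 0x8001000008000) (cons (sh 0xc001800000800) (cons (sh 0xc001800008800) nil))))))))

def cert6_0_0 : Cert :=
  (cons (cons cert6_0_0_0_0 (cons cert6_0_0_0_1 (cons (sh 0x6000c0000008000) (cons (sh 0x400080000008000) (cons (sh 0xc00180000008000) (cons (sh 0x800100000008000) (cons (sh 0xa00140000008000) (cons (sh 0x200040000008000) nil)))))))) (cons (cons cert6_0_0_1_0 (cons (sh 0x100220040000c80) (cons cert6_0_0_1_2 (cons (sh 0x100220040010c80) (cons cert6_0_0_1_4 (cons (sh 0x100220040020c80) (cons cert6_0_0_1_6 (cons (sh 0x100220040030c80) nil)))))))) (cons (sh 0x6000c0000008000) (cons (sh 0x400080000008000) (cons (sh 0xc00180000008000) (cons (sh 0x800100000008000) (cons (sh 0xa00140000008000) (cons (sh 0x200040000008000) nil))))))))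

def cert6_1_0_0_0 : Cert :=
  (cons (cons (cons (lf 14) (cons (lf 28) nil)) (cons (cons (lf 21) (cons (sh 0x100220040000000) nil)) nil)) (cons (cons (cons (lf 28) (cons (lf 14) nil)) (cons (cons (lf 21) (cons (sh 0x100220040000000) nil)) nil)) (cons (sh 0x800100000008000) (cons (sh 0xa00140000008000) (cons (sh 0x200040000008000) (cons (sh 0x6000c0000008000) (cons (sh 0x400080000008000) (cons (sh 0xc00180000008000) nil))))))))

def cert6_1_0_1_0 : Cert :=
  (cons (cons (cons (lf 28) (cons (lf 13) nil)) (cons (cons (lf 21) (cons (lf 18) nil)) nil)) (cons (cons (cons (lf 28) (cons (lf 13) nil)) (cons (cons (lf 7) (cons (lf 12) nil)) nil)) (cons (sh 0x106220c40008400) (cons (sh 0x106220c40000c00) (cons (cons (cons (lf 21) (cons (lf 18) nil)) (cons (cons (lf 28) (cons (lf 13) nil)) nil)) (cons (cons (cons (lf 21) (cons (lf 18) nil)) (cons (cons (lf 8) (cons (lf 6) nil)) nil)) (cons (sh 0x106220c40028c00) (cons (sh 0x106220c40020400) nil))))))))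

def cert6_1_0 : Cert :=
  (cons (cons cert6_1_0_0_0 (cons (sh 0x6000c00000000) (cons (sh 0xc0c181800000000) (cons (sh 0xa001400000000) (cons (sh 0xe001c00000000) (cons (sh 0x8001000000000) (cons (sh 0x2000400000000) (cons (sh 0x4000800000000) nil)))))))) (cons (cons cert6_1_0_1_0 (cons (sh 0x100220040000c80) (cons (sh 0xc001800000a00) (cons (sh 0x10c221840000680) (cons (sh 0x108221040000880) (cons (sh 0x8001000000c00) (cons (sh 0x2000400000700) (cons (sh 0x4000800000600) nil)))))))) (cons (sh 0x6000c0000008000) (cons (sh 0x400080000008000) (cons (sh 0xc00180000008000) (cons (sh 0x800100000008000) (cons (sh 0xa00140000008000) (cons (sh 0x200040000008000) nil))))))))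

def cert6_2_0_0_0 : Cert :=
  (cons (cons (cons (lf 14) (cons (lf 28) nil)) (cons (cons (lf 21) (cons (sh 0x100220040000000) nil)) nil)) (cons (cons (cons (lf 28) (cons (lf 14) nil)) (cons (cons (lf 21) (cons (sh 0x100220040000000) nil)) nil)) (cons (sh 0x800100000008000) (cons (sh 0xa00140000008000) (cons (sh 0x200040000008000) (cons (sh 0x6000c0000008000) (cons (sh 0x400080000008000) (cons (sh 0xc00180000008000) nil))))))))

def cert6_2_0_1_0 : Cert :=
  (cons (cons (cons (lf 28) (cons (lf 13) nil)) (cons (cons (lf 21) (cons (lf 18) nil)) nil)) (cons (cons (cons (lf 28) (cons (lf 13) nil)) (cons (cons (lf 7) (cons (lf 12) nil)) nil)) (cons (cons (cons (lf 6) (cons (lf 8) nil)) (cons (cons (lf 21) (cons (lf 18) nil)) nil)) (cons (cons (cons (lf 28) (cons (lf 13) nil)) (cons (cons (lf 18) (cons (lf 21) nil)) nil)) (cons (sh 0x10a221440008400) (cons (sh 0x10a221440000c00) (cons (sh 0x10a221440018c00) (cons (sh 0x10a221440010400) nil))))))))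

def cert6_2_0 : Cert :=
  (cons (cons cert6_2_0_0_0 (cons (sh 0xa001400000000) (cons (sh 0x2000400000000) (cons (sh 0x8001000000000) (cons (sh 0x4000800000000) (cons (sh 0xe001c00000000) (cons (sh 0x6000c00000000) (cons (sh 0xc0c181800000000) nil)))))))) (cons (cons cert6_2_0_1_0 (cons (sh 0x100220040000c80) (cons (sh 0x2000400000500) (cons (sh 0x8001000000700) (cons (sh 0x4000800000b00) (cons (sh 0xe001c00000900) (cons (sh 0x10c221840000880) (cons (sh 0xc001800000c00) nil)))))))) (cons (sh 0x6000c0000008000) (cons (sh 0x400080000008000) (cons (sh 0xc00180000008000) (cons (sh 0x800100000008000) (cons (sh 0xa00140000008000) (cons (sh 0x200040000008000) nil))))))))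

def cert6_3_0_0_0 : Cert :=
  (cons (cons (cons (lf 14) (cons (lf 28) nil)) (cons (cons (lf 21) (cons (sh 0x100220040000000) nil)) nil)) (cons (cons (cons (lf 28) (cons (lf 14) nil)) (cons (cons (lf 21) (cons (sh 0x100220040000000) nil)) nil)) (cons (sh 0x800100000008000) (cons (sh 0xa00140000008000) (cons (sh 0x200040000008000) (cons (sh 0x6000c0000008000) (cons (sh 0x400080000008000) (cons (sh 0xc00180000008000) nil))))))))

def cert6_3_0_1_0 : Cert :=
  (cons (cons (cons (lf 28) (cons (lf 13) nil)) (cons (cons (lf 21) (cons (lf 18) nil)) nil)) (cons (cons (cons (lf 7) (cons (lf 12) nil)) (cons (cons (lf 28) (cons (lf 13) nil)) nil)) (cons (cons (cons (lf 21) (cons (lf 18) nil)) (cons (cons (lf 28) (cons (lf 13) nil)) nil)) (cons (cons (cons (lf 8) (cons (lf 6) nil)) (cons (cons (lf 21) (cons (lf 18) nil)) nil)) (cons (sh 0x10c221840018800) (cons (sh 0x10c221840010800) (cons (sh 0x10c221840008000) (cons (sh 0x10c221840000000) nil))))))))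

def cert6_3_0 : Cert :=
  (cons (cons cert6_3_0_0_0 (cons (sh 0xc0c181800000000) (cons (sh 0xe001c00000000) (cons (sh 0x2000400000000) (cons (sh 0xa001400000000) (cons (sh 0x6000c00000000) (cons (sh 0x4000800000000) (cons (sh 0x8001000000000) nil)))))))) (cons (cons cert6_3_0_1_0 (cons (sh 0x100220040000c80) (cons (sh 0xe001c00000600) (cons (sh 0x2000400000900) (cons (sh 0xa001400000c00) (cons (sh 0x10a221440000880) (cons (sh 0x4000800000a00) (cons (sh 0x8001000000500) nil)))))))) (cons (sh 0x6000c0000008000) (cons (sh 0x400080000008000) (cons (sh 0xc00180000008000) (cons (sh 0x800100000008000) (cons (sh 0xa00140000008000) (cons (sh 0x200040000008000) nil))))))))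

def cert6_4_0_0_0 : Cert :=
  (cons (cons (cons (lf 14) (cons (lf 28) nil)) (cons (cons (lf 21) (cons (sh 0x100220040000000) nil)) nil)) (cons (cons (cons (lf 28) (cons (lf 14) nil)) (cons (cons (lf 21) (cons (sh 0x100220040000000) nil)) nil)) (cons (sh 0x800100000008000) (cons (sh 0xa00140000008000) (cons (sh 0x200040000008000) (cons (sh 0x6000c0000008000) (cons (sh 0x400080000008000) (cons (sh 0xc00180000008000) nil))))))))

def cert6_4_0_1_0 : Cert :=
  (cons (cons (cons (lf 28) (cons (lf 13) nil)) (cons (cons (lf 21) (cons (lf 18) nil)) nil)) (cons (cons (cons (lf 28) (cons (lf 13) nil)) (cons (cons (lf 7) (cons (lf 12) nil)) nil)) (cons (cons (cons (lf 21) (cons (lf 18) nil)) (cons (cons (lf 28) (cons (lf 13) nil)) nil)) (cons (cons (cons (lf 21) (cons (lf 18) nil)) (cons (cons (lf 8) (cons (lf 6) nil)) nil)) (cons (sh 0x10e221c40018c00) (cons (sh 0x10e221c40010400) (cons (sh 0x10e221c40008400) (cons (sh 0x10e221c40000c00) nil))))))))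

def cert6_4_0 : Cert :=
  (cons (cons cert6_4_0_0_0 (cons (sh 0xe001c00000000) (cons (sh 0xa001400000000) (cons (sh 0x4000800000000) (cons (sh 0x2000400000000) (cons (sh 0xc0c181800000000) (cons (sh 0x8001000000000) (cons (sh 0x6000c00000000) nil)))))))) (cons (cons cert6_4_0_1_0 (cons (sh 0x100220040000c80) (cons (sh 0xa001400000700) (cons (sh 0x4000800000c00) (cons (sh 0x2000400000600) (cons (sh 0xc001800000500) (cons (sh 0x8001000000900) (cons (sh 0x108221040000580) nil)))))))) (cons (sh 0x6000c0000008000) (cons (sh 0x400080000008000) (cons (sh 0xc00180000008000) (cons (sh 0x800100000008000) (cons (sh 0xa00140000008000) (cons (sh 0x200040000008000) nil))))))))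

def cert6_5_0_0_0 : Cert :=
  (cons (cons (cons (lf 14) (cons (lf 28) nil)) (cons (cons (lf 21) (cons (sh 0x100220040000000) nil)) nil)) (cons (cons (cons (lf 28) (cons (lf 14) nil)) (cons (cons (lf 21) (cons (sh 0x100220040000000) nil)) nil)) (cons (sh 0x800100000008000) (cons (sh 0xa00140000008000) (cons (sh 0x200040000008000) (cons (sh 0x6000c0000008000) (cons (sh 0x400080000008000) (cons (sh 0xc00180000008000) nil))))))))

def cert6_5_0_1_0 : Cert :=
  (cons (cons (cons (lf 28) (cons (lf 13) nil)) (cons (cons (lf 21) (cons (lf 18) nil)) nil)) (cons (cons (cons (lf 7) (cons (lf 12) nil)) (cons (cons (lf 28) (cons (lf 13) nil)) nil)) (cons (cons (cons (lf 6) (cons (lf 8) nil)) (cons (cons (lf 21) (cons (lf 18) nil)) nil)) (cons (cons (cons (lf 18) (cons (lf 21) nil)) (cons (cons (lf 28) (cons (lf 13) nil)) nil)) (cons (sh 0x108221040008000) (cons (sh 0x108221040000000) (cons (sh 0x108221040018800) (cons (sh 0x108221040010800) nil))))))))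

def cert6_5_0 : Cert :=
  (cons (cons cert6_5_0_0_0 (cons (sh 0x8001000000000) (cons (sh 0x6000c00000000) (cons (sh 0xe001c00000000) (cons (sh 0xc0c181800000000) (cons (sh 0x4000800000000) (cons (sh 0xa001400000000) (cons (sh 0x2000400000000) nil)))))))) (cons (cons cert6_5_0_1_0 (cons (sh 0x8001000000600) (cons (sh 0x10e221c40000680) (cons (sh 0xe001c00000a00) (cons (sh 0x104220840000380) (cons (sh 0x4000800000700) (cons (sh 0xa001400000500) (cons (sh 0x2000400000b00) nil)))))))) (cons (sh 0x6000c0000008000) (cons (sh 0x400080000008000) (cons (sh 0xc00180000008000) (cons (sh 0x800100000008000) (cons (sh 0xa00140000008000) (cons (sh 0x200040000008000) nil))))))))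

def cert6_6_0_0_0 : Cert :=
  (cons (cons (cons (lf 14) (cons (lf 28) nil)) (cons (cons (lf 21) (cons (sh 0x100220040000000) nil)) nil)) (cons (cons (cons (lf 28) (cons (lf 14) nil)) (cons (cons (lf 21) (cons (sh 0x100220040000000) nil)) nil)) (cons (sh 0x800100000008000) (cons (sh 0xa00140000008000) (cons (sh 0x200040000008000) (cons (sh 0x6000c0000008000) (cons (sh 0x400080000008000) (cons (sh 0xc00180000008000) nil))))))))

def cert6_6_0_1_0 : Cert :=
  (cons (cons (cons (lf 28) (cons (lf 13) nil)) (cons (cons (lf 21) (cons (lf 18) nil)) nil)) (cons (cons (cons (lf 7) (cons (lf 12) nil)) (cons (cons (lf 28) (cons (lf 13) nil)) nil)) (cons (sh 0x104220840008000) (cons (sh 0x104220840000000) (cons (cons (cons (lf 21) (cons (lf 18) nil)) (cons (cons (lf 28) (cons (lf 13) nil)) nil)) (cons (cons (cons (lf 8) (cons (lf 6) nil)) (cons (cons (lf 21) (cons (lf 18) nil)) nil)) (cons (sh 0x104220840028800) (cons (sh 0x104220840020800) nil))))))))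

def cert6_6_0 : Cert :=
  (cons (cons cert6_6_0_0_0 (cons (sh 0x4000800000000) (cons (sh 0x8001000000000) (cons (sh 0xc0c181800000000) (cons (sh 0x6000c00000000) (cons (sh 0x2000400000000) (cons (sh 0xe001c00000000) (cons (sh 0xa001400000000) nil)))))))) (cons (cons cert6_6_0_1_0 (cons (sh 0x4000800000500) (cons (sh 0x8001000000b00) (cons (sh 0x108221040000780) (cons (sh 0x6000c00000700) (cons (sh 0x2000400000a00) (cons (sh 0xe001c00000c00) (cons (sh 0x10e221c40000880) nil)))))))) (cons (sh 0x6000c0000008000) (cons (sh 0x400080000008000) (cons (sh 0xc00180000008000) (cons (sh 0x800100000008000) (cons (sh 0xa00140000008000) (cons (sh 0x200040000008000) nil))))))))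

def cert6 : Cert :=
  (cons (cons cert6_0_0 (cons (sh 0x220000000800) nil)) (cons (cons cert6_1_0 (cons (sh 0x220000000800) nil)) (cons (cons cert6_2_0 (cons (sh 0x220000000800) nil)) (cons (cons cert6_3_0 (cons (sh 0x220000000800) nil)) (cons (cons cert6_4_0 (cons (sh 0x220000000800) nil)) (cons (cons cert6_5_0 (cons (sh 0x220000000800) nil)) (cons (cons cert6_6_0 (cons (sh 0x220000000800) nil)) nil)))))))

def cert7_0_0_0_0 : Cert :=
  (cons (cons (cons (lf 3) (cons (lf 7) nil)) (cons (cons (lf 7) (cons (lf 4) nil)) nil)) (cons (cons (cons (lf 8) (cons (lf 12) nil)) (cons (cons (lf 12) (cons (lf 6) nil)) nil)) (cons (sh 0x800100000008000) (cons (sh 0xa00140000008000) (cons (sh 0x200040000008000) (cons (sh 0x6000c0000008000) (cons (sh 0x400080000008000) (cons (sh 0xc00180000008000) nil))))))))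

def cert7_0_0_0_1 : Cert :=
  (cons (cons (cons (lf 8) (cons (lf 12) nil)) (cons (cons (lf 12) (cons (lf 6) nil)) nil)) (cons (cons (cons (lf 6) (cons (lf 8) nil)) (cons (cons (lf 8) (cons (lf 7) nil)) nil)) (cons (cons (cons (lf 14) (cons (lf 18) nil)) (cons (cons (lf 18) (cons (lf 13) nil)) nil)) (cons (cons (cons (lf 21) (cons (lf 13) nil)) (cons (cons (lf 13) (cons (lf 9) nil)) nil)) (cons (cons (cons (lf 14) (cons (lf 18) nil)) (cons (cons (lf 18) (cons (lf 13) nil)) nil)) (cons (cons (cons (lf 21) (cons (lf 13) nil)) (cons (cons (lf 13) (cons (lf 9) nil)) nil)) (cons (cons (cons (lf 14) (cons (lf 18) nil)) (cons (cons (lf 18) (cons (lf 13) nil)) nil)) (cons (cons (cons (lf 21) (cons (lf 13) nil)) (cons (cons (lf 13) (cons (lf 9) nil)) nil)) nil))))))))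

def cert7_0_0 : Cert :=
  (cons (cons cert7_0_0_0_0 (cons cert7_0_0_0_1 (cons (sh 0x6000c0000008000) (cons (sh 0x400080000008000) (cons (sh 0xc00180000008000) (cons (sh 0x800100000008000) (cons (sh 0xa00140000008000) (cons (sh 0x200040000008000) nil)))))))) (cons (sh 0x2000080000010) (cons (sh 0x4000100000020) (cons (sh 0x6000180000030) (cons (sh 0x8000200000040) (cons (sh 0xa000280000050) (cons (sh 0xc0c180300000040) (cons (sh 0xe000380000070) nil))))))))

def cert7_1_0_0_0 : Cert :=
  (cons (cons (cons (lf 21) (cons (lf 7) nil)) (cons (cons (lf 7) (cons (lf 28) nil)) nil)) (cons (cons (cons (lf 18) (cons (lf 12) nil)) (cons (cons (lf 13) (cons (lf 13) nil)) nil)) (cons (sh 0x800100000008000) (cons (sh 0xa00140000008000) (cons (sh 0x200040000008000) (cons (sh 0x6000c0000008000) (cons (sh 0x400080000008000) (cons (sh 0xc00180000008000) nil))))))))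

def cert7_1_0_0_1 : Cert :=
  (cons (cons (cons (lf 18) (cons (lf 12) nil)) (cons (cons (lf 13) (cons (lf 13) nil)) nil)) (cons (cons (cons (lf 12) (cons (lf 9) nil)) (cons (cons (lf 28) (cons (lf 28) nil)) nil)) (cons (cons (cons (lf 9) (cons (lf 21) nil)) (cons (cons (lf 13) (cons (lf 8) nil)) nil)) (cons (cons (cons (lf 18) (cons (lf 21) nil)) (cons (cons (lf 4) (cons (lf 13) nil)) nil)) (cons (cons (cons (lf 8) (cons (lf 14) nil)) (cons (cons (lf 18) (cons (lf 18) nil)) nil)) (cons (cons (cons (lf 13) (cons (lf 6) nil)) (cons (cons (lf 18) (cons (lf 9) nil)) nil)) (cons (cons (cons (lf 14) (cons (lf 13) nil)) (cons (cons (lf 12) (cons (lf 21) nil)) nil)) (cons (cons (cons (lf 28) (cons (lf 13) nil)) (cons (cons (lf 21) (cons (lf 6) nil)) nil)) nil))))))))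

def cert7_1_0 : Cert :=
  (cons (cons cert7_1_0_0_0 (cons cert7_1_0_0_1 (cons (sh 0x6000c0000008000) (cons (sh 0x400080000008000) (cons (sh 0xc00180000008000) (cons (sh 0x800100000008000) (cons (sh 0xa00140000008000) (cons (sh 0x200040000008000) nil)))))))) (cons (sh 0x2000080000070) (cons (sh 0x4000100000050) (cons (sh 0x6000180000020) (cons (sh 0x8000200000010) (cons (sh 0xa000280000060) (cons (sh 0xc0c180300000010) (cons (sh 0xe000380000030) nil))))))))

def cert7_2_0_0_0 : Cert :=
  (cons (cons (cons (lf 21) (cons (lf 7) nil)) (cons (cons (lf 7) (cons (lf 28) nil)) nil)) (cons (cons (cons (lf 18) (cons (lf 12) nil)) (cons (cons (lf 13) (cons (lf 13) nil)) nil)) (cons (sh 0x800100000008000) (cons (sh 0xa00140000008000) (cons (sh 0x200040000008000) (cons (sh 0x6000c0000008000) (cons (sh 0x400080000008000) (cons (sh 0xc00180000008000) nil))))))))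

def cert7_2_0_0_1 : Cert :=
  (cons (cons (cons (lf 18) (cons (lf 12) nil)) (cons (cons (lf 13) (cons (lf 13) nil)) nil)) (cons (cons (cons (lf 12) (cons (lf 9) nil)) (cons (cons (lf 28) (cons (lf 28) nil)) nil)) (cons (cons (cons (lf 14) (cons (lf 13) nil)) (cons (cons (lf 12) (cons (lf 21) nil)) nil)) (cons (cons (cons (lf 28) (cons (lf 13) nil)) (cons (cons (lf 21) (cons (lf 6) nil)) nil)) (cons (cons (cons (lf 9) (cons (lf 21) nil)) (cons (cons (lf 13) (cons (lf 8) nil)) nil)) (cons (cons (cons (lf 18) (cons (lf 21) nil)) (cons (cons (lf 4) (cons (lf 13) nil)) nil)) (cons (cons (cons (lf 8) (cons (lf 14) nil)) (cons (cons (lf 18) (cons (lf 18) nil)) nil)) (cons (cons (cons (lf 13) (cons (lf 6) nil)) (cons (cons (lf 18) (cons (lf 9) nil)) nil)) nil))))))))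

def cert7_2_0 : Cert :=
  (cons (cons cert7_2_0_0_0 (cons cert7_2_0_0_1 (cons (sh 0x6000c0000008000) (cons (sh 0x400080000008000) (cons (sh 0xc00180000008000) (cons (sh 0x800100000008000) (cons (sh 0xa00140000008000) (cons (sh 0x200040000008000) nil)))))))) (cons (sh 0x2000080000030) (cons (sh 0x4000100000060) (cons (sh 0x6000180000050) (cons (sh 0x8000200000070) (cons (sh 0xa000280000040) (cons (sh 0xc0c180300000070) (cons (sh 0xe000380000020) nil))))))))

def cert7_3_0_0_0 : Cert :=
  (cons (cons (cons (lf 21) (cons (lf 7) nil)) (cons (cons (lf 7) (cons (lf 28) nil)) nil)) (cons (cons (cons (lf 18) (cons (lf 13) nil)) (cons (cons (lf 12) (cons (lf 13) nil)) nil)) (cons (sh 0x800100000008000) (cons (sh 0xa00140000008000) (cons (sh 0x200040000008000) (cons (sh 0x6000c0000008000) (cons (sh 0x400080000008000) (cons (sh 0xc00180000008000) nil))))))))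

def cert7_3_0_0_1 : Cert :=
  (cons (cons (cons (lf 18) (cons (lf 13) nil)) (cons (cons (lf 12) (cons (lf 13) nil)) nil)) (cons (cons (cons (lf 28) (cons (lf 21) nil)) (cons (cons (lf 13) (cons (lf 6) nil)) nil)) (cons (cons (cons (lf 12) (cons (lf 28) nil)) (cons (cons (lf 9) (cons (lf 28) nil)) nil)) (cons (cons (cons (lf 14) (cons (lf 12) nil)) (cons (cons (lf 13) (cons (lf 21) nil)) nil)) (cons (cons (cons (lf 8) (cons (lf 18) nil)) (cons (cons (lf 14) (cons (lf 18) nil)) nil)) (cons (cons (cons (lf 18) (cons (lf 4) nil)) (cons (cons (lf 21) (cons (lf 13) nil)) nil)) (cons (cons (cons (lf 13) (cons (lf 18) nil)) (cons (cons (lf 6) (cons (lf 9) nil)) nil)) (cons (cons (cons (lf 9) (cons (lf 13) nil)) (cons (cons (lf 21) (cons (lf 8) nil)) nil)) nil))))))))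

def cert7_3_0 : Cert :=
  (cons (cons cert7_3_0_0_0 (cons cert7_3_0_0_1 (cons (sh 0x6000c0000008000) (cons (sh 0x400080000008000) (cons (sh 0xc00180000008000) (cons (sh 0x800100000008000) (cons (sh 0xa00140000008000) (cons (sh 0x200040000008000) nil)))))))) (cons (sh 0x2000080000020) (cons (sh 0x4000100000040) (cons (sh 0x6000180000060) (cons (sh 0x8000200000030) (cons (sh 0xa000280000010) (cons (sh 0xc0c180300000030) (cons (sh 0xe000380000050) nil))))))))

def cert7_4_0_0_0 : Cert :=
  (cons (cons (cons (lf 21) (cons (lf 7) nil)) (cons (cons (lf 7) (cons (lf 28) nil)) nil)) (cons (cons (cons (lf 18) (cons (lf 12) nil)) (cons (cons (lf 13) (cons (lf 13) nil)) nil)) (cons (sh 0x800100000008000) (cons (sh 0xa00140000008000) (cons (sh 0x200040000008000) (cons (sh 0x6000c0000008000) (cons (sh 0x400080000008000) (cons (sh 0xc00180000008000) nil))))))))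

def cert7_4_0_0_1 : Cert :=
  (cons (cons (cons (lf 18) (cons (lf 12) nil)) (cons (cons (lf 13) (cons (lf 13) nil)) nil)) (cons (cons (cons (lf 12) (cons (lf 9) nil)) (cons (cons (lf 28) (cons (lf 28) nil)) nil)) (cons (cons (cons (lf 8) (cons (lf 14) nil)) (cons (cons (lf 18) (cons (lf 18) nil)) nil)) (cons (cons (cons (lf 13) (cons (lf 6) nil)) (cons (cons (lf 18) (cons (lf 9) nil)) nil)) (cons (cons (cons (lf 14) (cons (lf 13) nil)) (cons (cons (lf 12) (cons (lf 21) nil)) nil)) (cons (cons (cons (lf 28) (cons (lf 13) nil)) (cons (cons (lf 21) (cons (lf 6) nil)) nil)) (cons (cons (cons (lf 9) (cons (lf 21) nil)) (cons (cons (lf 13) (cons (lf 8) nil)) nil)) (cons (cons (cons (lf 18) (cons (lf 21) nil)) (cons (cons (lf 4) (cons (lf 13) nil)) nil)) nil))))))))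

def cert7_4_0 : Cert :=
  (cons (cons cert7_4_0_0_0 (cons cert7_4_0_0_1 (cons (sh 0x6000c0000008000) (cons (sh 0x400080000008000) (cons (sh 0xc00180000008000) (cons (sh 0x800100000008000) (cons (sh 0xa00140000008000) (cons (sh 0x200040000008000) nil)))))))) (cons (sh 0x2000080000050) (cons (sh 0x4000100000010) (cons (sh 0x6000180000040) (cons (sh 0x8000200000020) (cons (sh 0xa000280000070) (cons (sh 0xc0c180300000020) (cons (sh 0xe000380000060) nil))))))))

def cert7_5_0_0_0 : Cert :=
  (cons (cons (cons (lf 21) (cons (lf 7) nil)) (cons (cons (lf 7) (cons (lf 28) nil)) nil)) (cons (cons (cons (lf 18) (cons (lf 13) nil)) (cons (cons (lf 12) (cons (lf 13) nil)) nil)) (cons (sh 0x800100000008000) (cons (sh 0xa00140000008000) (cons (sh 0x200040000008000) (cons (sh 0x6000c0000008000) (cons (sh 0x400080000008000) (cons (sh 0xc00180000008000) nil))))))))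

def cert7_5_0_0_1 : Cert :=
  (cons (cons (cons (lf 18) (cons (lf 13) nil)) (cons (cons (lf 12) (cons (lf 13) nil)) nil)) (cons (cons (cons (lf 28) (cons (lf 21) nil)) (cons (cons (lf 13) (cons (lf 6) nil)) nil)) (cons (cons (cons (lf 8) (cons (lf 18) nil)) (cons (cons (lf 14) (cons (lf 18) nil)) nil)) (cons (cons (cons (lf 18) (cons (lf 4) nil)) (cons (cons (lf 21) (cons (lf 13) nil)) nil)) (cons (cons (cons (lf 13) (cons (lf 18) nil)) (cons (cons (lf 6) (cons (lf 9) nil)) nil)) (cons (cons (cons (lf 9) (cons (lf 13) nil)) (cons (cons (lf 21) (cons (lf 8) nil)) nil)) (cons (cons (cons (lf 12) (cons (lf 28) nil)) (cons (cons (lf 9) (cons (lf 28) nil)) nil)) (cons (cons (cons (lf 14) (cons (lf 12) nil)) (cons (cons (lf 13) (cons (lf 21) nil)) nil)) nil))))))))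

def cert7_5_0 : Cert :=
  (cons (cons cert7_5_0_0_0 (cons cert7_5_0_0_1 (cons (sh 0x6000c0000008000) (cons (sh 0x400080000008000) (cons (sh 0xc00180000008000) (cons (sh 0x800100000008000) (cons (sh 0xa00140000008000) (cons (sh 0x200040000008000) nil)))))))) (cons (sh 0x2000080000060) (cons (sh 0x4000100000070) (cons (sh 0x6000180000010) (cons (sh 0x8000200000050) (cons (sh 0xa000280000030) (cons (sh 0xc0c180300000050) (cons (sh 0xe000380000040) nil))))))))

def cert7_6_0_0_0 : Cert :=
  (cons (cons (cons (lf 21) (cons (lf 7) nil)) (cons (cons (lf 7) (cons (lf 28) nil)) nil)) (cons (cons (cons (lf 18) (cons (lf 13) nil)) (cons (cons (lf 12) (cons (lf 13) nil)) nil)) (cons (sh 0x800100000008000) (cons (sh 0xa00140000008000) (cons (sh 0x200040000008000) (cons (sh 0x6000c0000008000) (cons (sh 0x400080000008000) (cons (sh 0xc00180000008000) nil))))))))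

def cert7_6_0_0_1 : Cert :=
  (cons (cons (cons (lf 18) (cons (lf 13) nil)) (cons (cons (lf 12) (cons (lf 13) nil)) nil)) (cons (cons (cons (lf 28) (cons (lf 21) nil)) (cons (cons (lf 13) (cons (lf 6) nil)) nil)) (cons (cons (cons (lf 13) (cons (lf 18) nil)) (cons (cons (lf 6) (cons (lf 9) nil)) nil)) (cons (cons (cons (lf 9) (cons (lf 13) nil)) (cons (cons (lf 21) (cons (lf 8) nil)) nil)) (cons (cons (cons (lf 12) (cons (lf 28) nil)) (cons (cons (lf 9) (cons (lf 28) nil)) nil)) (cons (cons (cons (lf 14) (cons (lf 12) nil)) (cons (cons (lf 13) (cons (lf 21) nil)) nil)) (cons (cons (cons (lf 8) (cons (lf 18) nil)) (cons (cons (lf 14) (cons (lf 18) nil)) nil)) (cons (cons (cons (lf 18) (cons (lf 4) nil)) (cons (cons (lf 21) (cons (lf 13) nil)) nil)) nil))))))))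

def cert7_6_0 : Cert :=
  (cons (cons cert7_6_0_0_0 (cons cert7_6_0_0_1 (cons (sh 0x6000c0000008000) (cons (sh 0x400080000008000) (cons (sh 0xc00180000008000) (cons (sh 0x800100000008000) (cons (sh 0xa00140000008000) (cons (sh 0x200040000008000) nil)))))))) (cons (sh 0x2000080000040) (cons (sh 0x4000100000030) (cons (sh 0x6000180000070) (cons (sh 0x8000200000060) (cons (sh 0xa000280000020) (cons (sh 0xc0c180300000060) (cons (sh 0xe000380000010) nil))))))))

def cert7 : Cert :=
  (cons (cons cert7_0_0 (cons (sh 0x210000000400) nil)) (cons (cons cert7_1_0 (cons (sh 0x210000000400) nil)) (cons (cons cert7_2_0 (cons (sh 0x210000000400) nil)) (cons (cons cert7_3_0 (cons (sh 0x210000000400) nil)) (cons (cons cert7_4_0 (cons (sh 0x210000000400) nil)) (cons (cons cert7_5_0 (cons (sh 0x210000000400) nil)) (cons (cons cert7_6_0 (cons (sh 0x210000000400) nil)) nil)))))))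

def cert8_0_0_0_0 : Cert :=
  (cons (cons (cons (lf 3) (cons (lf 7) nil)) (cons (cons (lf 7) (cons (lf 4) nil)) nil)) (cons (cons (cons (lf 8) (cons (lf 12) nil)) (cons (cons (lf 12) (cons (lf 6) nil)) nil)) (cons (sh 0x800100000008000) (cons (sh 0xa00140000008000) (cons (sh 0x200040000008000) (cons (sh 0x6000c0000008000) (cons (sh 0x400080000008000) (cons (sh 0xc00180000008000) nil))))))))

def cert8_0_0_0_1 : Cert :=
  (cons (cons (cons (lf 8) (cons (lf 12) nil)) (cons (cons (lf 12) (cons (lf 6) nil)) nil)) (cons (cons (cons (lf 8) (cons (lf 6) nil)) (cons (cons (lf 7) (cons (lf 8) nil)) nil)) (cons (cons (cons (lf 14) (cons (lf 18) nil)) (cons (cons (lf 18) (cons (lf 13) nil)) nil)) (cons (cons (cons (lf 13) (cons (lf 21) nil)) (cons (cons (lf 9) (cons (lf 13) nil)) nil)) (cons (cons (cons (lf 14) (cons (lf 18) nil)) (cons (cons (lf 18) (cons (lf 13) nil)) nil)) (cons (cons (cons (lf 13) (cons (lf 21) nil)) (cons (cons (lf 9) (cons (lf 13) nil)) nil)) (cons (cons (cons (lf 14) (cons (lf 18) nil))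 (cons (cons (lf 18) (cons (lf 13) nil)) nil)) (cons (cons (cons (lf 13) (cons (lf 21) nil)) (cons (cons (lf 9) (cons (lf 13) nil)) nil)) nil))))))))

def cert8_0_0 : Cert :=
  (cons (cons cert8_0_0_0_0 (cons cert8_0_0_0_1 (cons (sh 0x6000c0000008000) (cons (sh 0x400080000008000) (cons (sh 0xc00180000008000) (cons (sh 0x800100000008000) (cons (sh 0xa00140000008000) (cons (sh 0x200040000008000) nil)))))))) (cons (sh 0x400400000010) (cons (sh 0x800800000020) (cons (sh 0xc00c00000030) (cons (sh 0x1001000000040) (cons (sh 0x1401400000050) (cons (sh 0x1801800000060) (cons (sh 0x1c01c00000070) nil))))))))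

def cert8_1_0_0_0 : Cert :=
  (cons (cons (cons (lf 21) (cons (lf 7) nil)) (cons (cons (lf 7) (cons (lf 28) nil)) nil)) (cons (cons (cons (lf 18) (cons (lf 13) nil)) (cons (cons (lf 12) (cons (lf 13) nil)) nil)) (cons (sh 0x800100000008000) (cons (sh 0xa00140000008000) (cons (sh 0x200040000008000) (cons (sh 0x6000c0000008000) (cons (sh 0x400080000008000) (cons (sh 0xc00180000008000) nil))))))))

def cert8_1_0_0_1 : Cert :=
  (cons (cons (cons (lf 18) (cons (lf 13) nil)) (cons (cons (lf 12) (cons (lf 13) nil)) nil)) (cons (cons (cons (lf 21) (cons (lf 28) nil)) (cons (cons (lf 6) (cons (lf 13) nil)) nil)) (cons (cons (cons (lf 13) (cons (lf 18) nil)) (cons (cons (lf 6) (cons (lf 9) nil)) nil)) (cons (cons (cons (lf 13) (cons (lf 9) nil)) (cons (cons (lf 8) (cons (lf 21) nil)) nil)) (cons (cons (cons (lf 12) (cons (lf 28) nil)) (cons (cons (lf 9) (cons (lf 28) nil)) nil)) (cons (cons (cons (lf 12) (cons (lf 14) nil)) (cons (cons (lf 21) (cons (lf 13) nil)) nil)) (cons (cons (cons (lf 8) (cons (lf 18)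 nil)) (cons (cons (lf 14) (cons (lf 18) nil)) nil)) (cons (cons (cons (lf 4) (cons (lf 18) nil)) (cons (cons (lf 13) (cons (lf 21) nil)) nil)) nil))))))))

def cert8_1_0 : Cert :=
  (cons (cons cert8_1_0_0_0 (cons cert8_1_0_0_1 (cons (sh 0x6000c0000008000) (cons (sh 0x400080000008000) (cons (sh 0xc00180000008000) (cons (sh 0x800100000008000) (cons (sh 0xa00140000008000) (cons (sh 0x200040000008000) nil)))))))) (cons (sh 0x1001000000040) (cons (sh 0xc00c00000030) (cons (sh 0x1c01c00000070) (cons (sh 0x1801800000060) (cons (sh 0x800800000020) (cons (sh 0x1401400000050) (cons (sh 0x400400000010) nil))))))))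

def cert8_2_0_0_0 : Cert :=
  (cons (cons (cons (lf 21) (cons (lf 7) nil)) (cons (cons (lf 7) (cons (lf 28) nil)) nil)) (cons (cons (cons (lf 18) (cons (lf 13) nil)) (cons (cons (lf 12) (cons (lf 13) nil)) nil)) (cons (sh 0x800100000008000) (cons (sh 0xa00140000008000) (cons (sh 0x200040000008000) (cons (sh 0x6000c0000008000) (cons (sh 0x400080000008000) (cons (sh 0xc00180000008000) nil))))))))

def cert8_2_0_0_1 : Cert :=
  (cons (cons (cons (lf 18) (cons (lf 13) nil)) (cons (cons (lf 12) (cons (lf 13) nil)) nil)) (cons (cons (cons (lf 21) (cons (lf 28) nil)) (cons (cons (lf 6) (cons (lf 13) nil)) nil)) (cons (cons (cons (lf 8) (cons (lf 18) nil)) (cons (cons (lf 14) (cons (lf 18) nil)) nil)) (cons (cons (cons (lf 4) (cons (lf 18) nil)) (cons (cons (lf 13) (cons (lf 21) nil)) nil)) (cons (cons (cons (lf 13) (cons (lf 18) nil)) (cons (cons (lf 6) (cons (lf 9) nil)) nil)) (cons (cons (cons (lf 13) (cons (lf 9) nil)) (cons (cons (lf 8) (cons (lf 21) nil)) nil)) (cons (cons (cons (lf 12) (cons (lf 28)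 nil)) (cons (cons (lf 9) (cons (lf 28) nil)) nil)) (cons (cons (cons (lf 12) (cons (lf 14) nil)) (cons (cons (lf 21) (cons (lf 13) nil)) nil)) nil))))))))

def cert8_2_0 : Cert :=
  (cons (cons cert8_2_0_0_0 (cons cert8_2_0_0_1 (cons (sh 0x6000c0000008000) (cons (sh 0x400080000008000) (cons (sh 0xc00180000008000) (cons (sh 0x800100000008000) (cons (sh 0xa00140000008000) (cons (sh 0x200040000008000) nil)))))))) (cons (sh 0x1801800000060) (cons (sh 0x1c01c00000070) (cons (sh 0x400400000010) (cons (sh 0x1401400000050) (cons (sh 0xc00c00000030) (cons (sh 0x800800000020) (cons (sh 0x1001000000040) nil))))))))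

def cert8_3_0_0_0 : Cert :=
  (cons (cons (cons (lf 21) (cons (lf 7) nil)) (cons (cons (lf 7) (cons (lf 28) nil)) nil)) (cons (cons (cons (lf 18) (cons (lf 12) nil)) (cons (cons (lf 13) (cons (lf 13) nil)) nil)) (cons (sh 0x800100000008000) (cons (sh 0xa00140000008000) (cons (sh 0x200040000008000) (cons (sh 0x6000c0000008000) (cons (sh 0x400080000008000) (cons (sh 0xc00180000008000) nil))))))))

def cert8_3_0_0_1 : Cert :=
  (cons (cons (cons (lf 18) (cons (lf 12) nil)) (cons (cons (lf 13) (cons (lf 13) nil)) nil)) (cons (cons (cons (lf 9) (cons (lf 12) nil)) (cons (cons (lf 28) (cons (lf 28) nil)) nil)) (cons (cons (cons (lf 8) (cons (lf 14) nil)) (cons (cons (lf 18) (cons (lf 18) nil)) nil)) (cons (cons (cons (lf 6) (cons (lf 13) nil)) (cons (cons (lf 9) (cons (lf 18) nil)) nil)) (cons (cons (cons (lf 14) (cons (lf 13) nil)) (cons (cons (lf 12) (cons (lf 21) nil)) nil)) (cons (cons (cons (lf 13) (cons (lf 28) nil)) (cons (cons (lf 6) (cons (lf 21) nil)) nil)) (cons (cons (cons (lf 9) (cons (lf 21)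 nil)) (cons (cons (lf 13) (cons (lf 8) nil)) nil)) (cons (cons (cons (lf 21) (cons (lf 18) nil)) (cons (cons (lf 13) (cons (lf 4) nil)) nil)) nil))))))))

def cert8_3_0 : Cert :=
  (cons (cons cert8_3_0_0_0 (cons cert8_3_0_0_1 (cons (sh 0x6000c0000008000) (cons (sh 0x400080000008000) (cons (sh 0xc00180000008000) (cons (sh 0x800100000008000) (cons (sh 0xa00140000008000) (cons (sh 0x200040000008000) nil)))))))) (cons (sh 0x1401400000050) (cons (sh 0x400400000010) (cons (sh 0x1001000000040) (cons (sh 0x800800000020) (cons (sh 0x1c01c00000070) (cons (sh 0xc00c00000030) (cons (sh 0x1801800000060) nil))))))))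

def cert8_4_0_0_0 : Cert :=
  (cons (cons (cons (lf 21) (cons (lf 7) nil)) (cons (cons (lf 7) (cons (lf 28) nil)) nil)) (cons (cons (cons (lf 18) (cons (lf 13) nil)) (cons (cons (lf 12) (cons (lf 13) nil)) nil)) (cons (sh 0x800100000008000) (cons (sh 0xa00140000008000) (cons (sh 0x200040000008000) (cons (sh 0x6000c0000008000) (cons (sh 0x400080000008000) (cons (sh 0xc00180000008000) nil))))))))

def cert8_4_0_0_1 : Cert :=
  (cons (cons (cons (lf 18) (cons (lf 13) nil)) (cons (cons (lf 12) (cons (lf 13) nil)) nil)) (cons (cons (cons (lf 21) (cons (lf 28) nil)) (cons (cons (lf 6) (cons (lf 13) nil)) nil)) (cons (cons (cons (lf 12) (cons (lf 28) nil)) (cons (cons (lf 9) (cons (lf 28) nil)) nil)) (cons (cons (cons (lf 12) (cons (lf 14) nil)) (cons (cons (lf 21) (cons (lf 13) nil)) nil)) (cons (cons (cons (lf 8) (cons (lf 18) nil)) (cons (cons (lf 14) (cons (lf 18) nil)) nil)) (cons (cons (cons (lf 4) (cons (lf 18) nil)) (cons (cons (lf 13) (cons (lf 21) nil)) nil)) (cons (cons (cons (lf 13) (cons (lf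 18) nil)) (cons (cons (lf 6) (cons (lf 9) nil)) nil)) (cons (cons (cons (lf 13) (cons (lf 9) nil)) (cons (cons (lf 8) (cons (lf 21) nil)) nil)) nil))))))))

def cert8_4_0 : Cert :=
  (cons (cons cert8_4_0_0_0 (cons cert8_4_0_0_1 (cons (sh 0x6000c0000008000) (cons (sh 0x400080000008000) (cons (sh 0xc00180000008000) (cons (sh 0x800100000008000) (cons (sh 0xa00140000008000) (cons (sh 0x200040000008000) nil)))))))) (cons (sh 0x800800000020) (cons (sh 0x1001000000040) (cons (sh 0x1801800000060) (cons (sh 0xc00c00000030) (cons (sh 0x400400000010) (cons (sh 0x1c01c00000070) (cons (sh 0x1401400000050) nil))))))))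

def cert8_5_0_0_0 : Cert :=
  (cons (cons (cons (lf 21) (cons (lf 7) nil)) (cons (cons (lf 7) (cons (lf 28) nil)) nil)) (cons (cons (cons (lf 18) (cons (lf 12) nil)) (cons (cons (lf 13) (cons (lf 13) nil)) nil)) (cons (sh 0x800100000008000) (cons (sh 0xa00140000008000) (cons (sh 0x200040000008000) (cons (sh 0x6000c0000008000) (cons (sh 0x400080000008000) (cons (sh 0xc00180000008000) nil))))))))

def cert8_5_0_0_1 : Cert :=
  (cons (cons (cons (lf 18) (cons (lf 12) nil)) (cons (cons (lf 13) (cons (lf 13) nil)) nil)) (cons (cons (cons (lf 9) (cons (lf 12) nil)) (cons (cons (lf 28) (cons (lf 28) nil)) nil)) (cons (cons (cons (lf 14) (cons (lf 13) nil)) (cons (cons (lf 12) (cons (lf 21) nil)) nil)) (cons (cons (cons (lf 13) (cons (lf 28) nil)) (cons (cons (lf 6) (cons (lf 21) nil)) nil)) (cons (cons (cons (lf 9) (cons (lf 21) nil)) (cons (cons (lf 13) (cons (lf 8) nil)) nil)) (cons (cons (cons (lf 21) (cons (lf 18) nil)) (cons (cons (lf 13) (cons (lf 4) nil)) nil)) (cons (cons (cons (lf 8) (cons (lf 14)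 nil)) (cons (cons (lf 18) (cons (lf 18) nil)) nil)) (cons (cons (cons (lf 6) (cons (lf 13) nil)) (cons (cons (lf 9) (cons (lf 18) nil)) nil)) nil))))))))

def cert8_5_0 : Cert :=
  (cons (cons cert8_5_0_0_0 (cons cert8_5_0_0_1 (cons (sh 0x6000c0000008000) (cons (sh 0x400080000008000) (cons (sh 0xc00180000008000) (cons (sh 0x800100000008000) (cons (sh 0xa00140000008000) (cons (sh 0x200040000008000) nil)))))))) (cons (sh 0xc00c00000030) (cons (sh 0x1801800000060) (cons (sh 0x1401400000050) (cons (sh 0x1c01c00000070) (cons (sh 0x1001000000040) (cons (sh 0x400400000010) (cons (sh 0x800800000020) nil))))))))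

def cert8_6_0_0_0 : Cert :=
  (cons (cons (cons (lf 21) (cons (lf 7) nil)) (cons (cons (lf 7) (cons (lf 28) nil)) nil)) (cons (cons (cons (lf 18) (cons (lf 12) nil)) (cons (cons (lf 13) (cons (lf 13) nil)) nil)) (cons (sh 0x800100000008000) (cons (sh 0xa00140000008000) (cons (sh 0x200040000008000) (cons (sh 0x6000c0000008000) (cons (sh 0x400080000008000) (cons (sh 0xc00180000008000) nil))))))))

def cert8_6_0_0_1 : Cert :=
  (cons (cons (cons (lf 18) (cons (lf 12) nil)) (cons (cons (lf 13) (cons (lf 13) nil)) nil)) (cons (cons (cons (lf 9) (cons (lf 12) nil)) (cons (cons (lf 28) (cons (lf 28) nil)) nil)) (cons (cons (cons (lf 9) (cons (lf 21) nil)) (cons (cons (lf 13) (cons (lf 8) nil)) nil)) (cons (cons (cons (lf 21) (cons (lf 18) nil)) (cons (cons (lf 13) (cons (lf 4) nil)) nil)) (cons (cons (cons (lf 8) (cons (lf 14) nil)) (cons (cons (lf 18) (cons (lf 18) nil)) nil)) (cons (cons (cons (lf 6) (cons (lf 13) nil)) (cons (cons (lf 9) (cons (lf 18) nil)) nil)) (cons (cons (cons (lf 14) (cons (lf 13)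 nil)) (cons (cons (lf 12) (cons (lf 21) nil)) nil)) (cons (cons (cons (lf 13) (cons (lf 28) nil)) (cons (cons (lf 6) (cons (lf 21) nil)) nil)) nil))))))))

def cert8_6_0 : Cert :=
  (cons (cons cert8_6_0_0_0 (cons cert8_6_0_0_1 (cons (sh 0x6000c0000008000) (cons (sh 0x400080000008000) (cons (sh 0xc00180000008000) (cons (sh 0x800100000008000) (cons (sh 0xa00140000008000) (cons (sh 0x200040000008000) nil)))))))) (cons (sh 0x1c01c00000070) (cons (sh 0x1401400000050) (cons (sh 0x800800000020) (cons (sh 0x400400000010) (cons (sh 0x1801800000060) (cons (sh 0x1001000000040) (cons (sh 0xc00c00000030) nil))))))))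

def cert8 : Cert :=
  (cons (cons cert8_0_0 (cons (sh 0x80000040000400) nil)) (cons (cons cert8_1_0 (cons (sh 0x80000040000400) nil)) (cons (cons cert8_2_0 (cons (sh 0x80000040000400) nil)) (cons (cons cert8_3_0 (cons (sh 0x80000040000400) nil)) (cons (cons cert8_4_0 (cons (sh 0x80000040000400) nil)) (cons (cons cert8_5_0 (cons (sh 0x80000040000400) nil)) (cons (cons cert8_6_0 (cons (sh 0x80000040000400) nil)) nil)))))))

end Cfsg.Agent.InvChar.Iso3D4
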