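import Cfsg.Agent.InvChar.Iso3D4.Cert

/-! Certificate trees. -/

set_option autoImplicit false

namespace Cfsg.Agent.InvChar.Iso3D4

open Cert

def cert9_0_0_0_0 : Cert :=
  (cons (cons (cons (lf 2) (cons (lf 3) nil)) (cons (cons (lf 4) (cons (lf 3) nil)) nil)) (cons (cons (cons (lf 8) (cons (lf 6) nil)) (cons (sh 0x400080000000) nil)) (cons (sh 0x800100000008000) (cons (sh 0xa00140000008000) (cons (sh 0x200040000008000) (cons (sh 0x6000c0000008000) (cons (sh 0x400080000008000) (cons (sh 0xc00180000008000) nil))))))))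

def cert9_0_0_0_1 : Cert :=
  (cons (cons (cons (lf 8) (cons (lf 6) nil)) (cons (sh 0x400080000800) nil)) (cons (cons (cons (lf 12) (cons (sh 0x400080000000) nil)) (cons (cons (lf 7) (cons (sh 0x400080000000) nil)) nil)) (cons (sh 0x800100000400) (cons (sh 0x800100008400) (cons (sh 0x1000200000400) (cons (sh 0x1000200008400) (cons (sh 0x1800300000400) (cons (sh 0x1800300008400) nil))))))))

def cert9_0_0_1_0 : Cert :=
  (cons (cons (cons (lf 2) (cons (lf 6) nil)) (cons (cons (lf 4) (cons (lf 6) nil)) nil)) (cons (cons (cons (lf 8) (cons (lf 3) nil)) (cons (sh 0x400080000000) nil)) (cons (cons (cons (lf 8) (cons (lf 6) nil)) (cons (sh 0x1000200000000) nil)) (cons (cons (cons (lf 8) (cons (lf 6) nil)) (cons (sh 0x400080000000) nil)) (cons (cons (cons (lf 8) (cons (lf 6) nil)) (cons (sh 0x800100000000) nil)) (cons (cons (cons (lf 8) (cons (lf 6) nil)) (cons (sh 0x400080000000) nil)) (cons (cons (cons (lf 8) (cons (lf 6) nil)) (cons (sh 0x1000200000000) nil)) (cons (cons (cons (lf 8)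 (cons (lf 6) nil)) (cons (sh 0x1000200000000) nil)) nil))))))))

def cert9_0_0_1_1 : Cert :=
  (cons (cons (cons (lf 7) (cons (lf 12) nil)) (cons (sh 0x400080000800) nil)) (cons (cons (cons (lf 6) (cons (sh 0x400080000000) nil)) (cons (cons (lf 8) (cons (sh 0x400080000000) nil)) nil)) (cons (sh 0x800100000400) (cons (sh 0x800100008400) (cons (sh 0x1000200000400) (cons (sh 0x1000200008400) (cons (sh 0x1800300000400) (cons (sh 0x1800300008400) nil))))))))

def cert9_0_0_1_2 : Cert :=
  (cons (cons (cons (lf 18) (cons (lf 21) nil)) (cons (sh 0x800100000800) nil)) (cons (sh 0x1000200000400) (cons (sh 0xc00180000400) (cons (sh 0x1400280000800) (cons (cons (cons (lf 13) (cons (sh 0x800100000000) nil)) (cons (cons (lf 28) (cons (sh 0x800100000000) nil)) nil)) (cons (sh 0x1000200020400) (cons (sh 0x400080020800) (cons (sh 0x1c00380020000) nil))))))))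

def cert9_0_0_1_3 : Cert :=
  (cons (cons (cons (lf 13) (cons (lf 28) nil)) (cons (sh 0xc00180000800) nil)) (cons (cons (cons (lf 18) (cons (sh 0xc00180000000) nil)) (cons (cons (lf 21) (cons (sh 0xc00180000000) nil)) nil)) (cons (sh 0x800100000800) (cons (sh 0x400080008000) (cons (sh 0x1000200008800) (cons (sh 0x1c00380000400) (cons (sh 0x1800300008400) (cons (sh 0x1800300000400) nil))))))))

def cert9_0_0_1_4 : Cert :=
  (cons (cons (cons (lf 18) (cons (lf 21) nil)) (cons (sh 0x1000200000800) nil)) (cons (sh 0x1800300000400) (cons (cons (cons (lf 13) (cons (sh 0x1000200000000) nil)) (cons (cons (lf 28) (cons (sh 0x1000200000000) nil)) nil)) (cons (sh 0x800100010800) (cons (sh 0x1400280000400) (cons (sh 0x1c00380000800) (cons (sh 0x400080010800) (cons (sh 0x1c00380010c00) nil))))))))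

def cert9_0_0_1_5 : Cert :=
  (cons (cons (cons (lf 13) (cons (lf 28) nil)) (cons (sh 0x1400280000800) nil)) (cons (cons (cons (lf 18) (cons (sh 0x1400280000000) nil)) (cons (cons (lf 21) (cons (sh 0x1400280000000) nil)) nil)) (cons (sh 0x800100008400) (cons (sh 0x800100000400) (cons (sh 0x400080000400) (cons (sh 0x400080008000) (cons (sh 0xc00180008000) (cons (sh 0xc00180000400) nil))))))))

def cert9_0_0_1_6 : Cert :=
  (cons (cons (cons (lf 18) (cons (lf 21) nil)) (cons (sh 0x1800300000800) nil)) (cons (sh 0x800100000400) (cons (cons (cons (lf 13) (cons (sh 0x1800300000000) nil)) (cons (cons (lf 28) (cons (sh 0x1800300000000) nil)) nil)) (cons (sh 0x800100010400) (cons (sh 0x400080010800) (cons (sh 0xc00180010800) (cons (sh 0x400080000800) (cons (sh 0xc00180000800) nil))))))))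

def cert9_0_0_1_7 : Cert :=
  (cons (cons (cons (lf 13) (cons (lf 28) nil)) (cons (sh 0x1c00380000800) nil)) (cons (cons (cons (lf 18) (cons (sh 0x1c00380000000) nil)) (cons (cons (lf 21) (cons (sh 0x1c00380000000) nil)) nil)) (cons (sh 0x800100008800) (cons (sh 0x1400280000400) (cons (sh 0x1000200008400) (cons (sh 0x1000200000400) (cons (sh 0x1800300000800) (cons (sh 0x400080008000) nil))))))))

def cert9_0_0 : Cert :=
  (cons (cons cert9_0_0_0_0 (cons cert9_0_0_0_1 (cons (sh 0x6000c0000008000) (cons (sh 0x400080000008000) (cons (sh 0xc00180000008000) (cons (sh 0x800100000008000) (cons (sh 0xa00140000008000) (cons (sh 0x200040000008000) nil)))))))) (cons (cons cert9_0_0_1_0 (cons cert9_0_0_1_1 (cons cert9_0_0_1_2 (cons cert9_0_0_1_3 (cons cert9_0_0_1_4 (cons cert9_0_0_1_5 (cons cert9_0_0_1_6 (cons cert9_0_0_1_7 nil)))))))) (cons (sh 0x6000c0000008000) (cons (sh 0x400080000008000) (cons (sh 0xc00180000008000) (cons (sh 0x800100000008000) (cons (sh 0xa00140000008000) (cons (sh 0x200040000008000)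 nil))))))))

def cert9_0_1_0_0 : Cert :=
  (cons (cons (cons (lf 4) (cons (lf 3) nil)) (cons (cons (lf 7) (cons (lf 7) nil)) nil)) (cons (cons (cons (lf 6) (cons (lf 8) nil)) (cons (cons (lf 12) (cons (lf 12) nil)) nil)) (cons (sh 0x800100000008000) (cons (sh 0xa00140000008000) (cons (sh 0x200040000008000) (cons (sh 0x6000c0000008000) (cons (sh 0x400080000008000) (cons (sh 0xc00180000008000) nil))))))))

def cert9_0_1_1_0 : Cert :=
  (cons (cons (cons (lf 6) (cons (lf 8) nil)) (cons (cons (lf 12) (cons (lf 12) nil)) nil)) (cons (cons (cons (lf 8) (cons (lf 8) nil)) (cons (cons (lf 7) (cons (lf 6) nil)) nil)) (cons (cons (cons (lf 13) (cons (lf 14) nil)) (cons (cons (lf 18) (cons (lf 18) nil)) nil)) (cons (cons (cons (lf 13) (cons (lf 13) nil)) (cons (cons (lf 9) (cons (lf 21) nil)) nil)) (cons (cons (cons (lf 13) (cons (lf 14) nil)) (cons (cons (lf 18) (cons (lf 18) nil)) nil)) (cons (cons (cons (lf 13) (cons (lf 13) nil)) (cons (cons (lf 9) (cons (lf 21) nil)) nil)) (cons (cons (cons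 (lf 13) (cons (lf 14) nil)) (cons (cons (lf 18) (cons (lf 18) nil)) nil)) (cons (cons (cons (lf 13) (cons (lf 13) nil)) (cons (cons (lf 9) (cons (lf 21) nil)) nil)) nil))))))))

def cert9_0_1 : Cert :=
  (cons (cons cert9_0_1_0_0 (cons (sh 0x400080000880) (cons (sh 0x800100000a80) (cons (sh 0xc00180000b00) (cons (sh 0x1000200000b80) (cons (sh 0x1400280000900) (cons (sh 0xc01980300000b80) (cons (sh 0x1c00380000a00) nil)))))))) (cons (cons cert9_0_1_1_0 (cons (sh 0x400080000080) (cons (sh 0x800100000780) (cons (sh 0xc00180000e00) (cons (sh 0x1000200000580) (cons (sh 0x1400280000f00) (cons (sh 0x1800300000680) (cons (sh 0x1c00380000d00) nil)))))))) (cons (sh 0x6000c0000008000) (cons (sh 0x400080000008000) (cons (sh 0xc00180000008000) (cons (sh 0x800100000008000) (cons (sh 0xa00140000008000) (cons (sh 0x200040000008000) nil))))))))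

def cert9_1_0_0_0 : Cert :=
  (cons (cons (cons (lf 14) (cons (lf 21) nil)) (cons (cons (lf 28) (cons (lf 21) nil)) nil)) (cons (cons (cons (lf 28) (cons (lf 21) nil)) (cons (cons (lf 14) (cons (lf 21) nil)) nil)) (cons (sh 0x800100000008000) (cons (sh 0xa00140000008000) (cons (sh 0x200040000008000) (cons (sh 0x6000c0000008000) (cons (sh 0x400080000008000) (cons (sh 0xc00180000008000) nil))))))))

def cert9_1_0_0_1 : Cert :=
  (cons (cons (cons (lf 28) (cons (lf 21) nil)) (cons (cons (lf 13) (cons (lf 18) nil)) nil)) (cons (cons (cons (lf 28) (cons (lf 7) nil)) (cons (cons (lf 13) (cons (lf 12) nil)) nil)) (cons (cons (cons (lf 7) (cons (lf 13) nil)) (cons (cons (lf 12) (cons (lf 28) nil)) nil)) (cons (cons (cons (lf 18) (cons (lf 28) nil)) (cons (cons (lf 21) (cons (lf 13) nil)) nil)) (cons (cons (cons (lf 21) (cons (lf 28) nil)) (cons (cons (lf 18) (cons (lf 13) nil)) nil)) (cons (cons (cons (lf 21) (cons (lf 8) nil)) (cons (cons (lf 18) (cons (lf 6) nil)) nil)) (cons (cons (cons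 (lf 6) (cons (lf 21) nil)) (cons (cons (lf 8) (cons (lf 18) nil)) nil)) (cons (cons (cons (lf 28) (cons (lf 18) nil)) (cons (cons (lf 13) (cons (lf 21) nil)) nil)) nil))))))))

def cert9_1_0 : Cert :=
  (cons (cons cert9_1_0_0_0 (cons cert9_1_0_0_1 (cons (sh 0x6000c0000008000) (cons (sh 0x400080000008000) (cons (sh 0xc00180000008000) (cons (sh 0x800100000008000) (cons (sh 0xa00140000008000) (cons (sh 0x200040000008000) nil)))))))) (cons (sh 0xc00180000000) (cons (sh 0xc01980300000000) (cons (sh 0x1400280000000) (cons (sh 0x1c00380000000) (cons (sh 0x1000200000000) (cons (sh 0x400080000000) (cons (sh 0x800100000000) nil))))))))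

def cert9_1_1_0_0 : Cert :=
  (cons (cons (cons (lf 28) (cons (lf 21) nil)) (cons (cons (lf 7) (cons (lf 7) nil)) nil)) (cons (cons (cons (lf 13) (cons (lf 18) nil)) (cons (cons (lf 12) (cons (lf 13) nil)) nil)) (cons (sh 0x800100000008000) (cons (sh 0xa00140000008000) (cons (sh 0x200040000008000) (cons (sh 0x6000c0000008000) (cons (sh 0x400080000008000) (cons (sh 0xc00180000008000) nil))))))))

def cert9_1_1_0_1 : Cert :=
  (cons (cons (cons (lf 14) (cons (lf 21) nil)) (cons (cons (lf 12) (cons (lf 13) nil)) nil)) (cons (cons (cons (lf 13) (cons (lf 12) nil)) (cons (cons (lf 18) (cons (lf 13) nil)) nil)) (cons (cons (cons (lf 12) (cons (lf 28) nil)) (cons (cons (lf 28) (cons (lf 9) nil)) nil)) (cons (cons (cons (lf 21) (cons (lf 13) nil)) (cons (cons (lf 28) (cons (lf 6) nil)) nil)) (cons (cons (cons (lf 18) (cons (lf 13) nil)) (cons (cons (lf 4) (cons (lf 21) nil)) nil)) (cons (cons (cons (lf 18) (cons (lf 6) nil)) (cons (cons (lf 13) (cons (lf 9) nil)) nil)) (cons (cons (cons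 (lf 8) (cons (lf 18) nil)) (cons (cons (lf 18) (cons (lf 14) nil)) nil)) (cons (cons (cons (lf 13) (cons (lf 21) nil)) (cons (cons (lf 9) (cons (lf 8) nil)) nil)) nil))))))))

def cert9_1_1 : Cert :=
  (cons (cons cert9_1_1_0_0 (cons cert9_1_1_0_1 (cons (sh 0x6000c0000008000) (cons (sh 0x400080000008000) (cons (sh 0xc00180000008000) (cons (sh 0x800100000008000) (cons (sh 0xa00140000008000) (cons (sh 0x200040000008000) nil)))))))) (cons (sh 0xc00180000ea0) (cons (sh 0xc01980300000c90) (cons (sh 0x1400280000de0) (cons (sh 0x1c00380000f30) (cons (sh 0x1000200000c90) (cons (sh 0x400080000e70) (cons (sh 0x800100000d50) nil))))))))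

def cert9_2_0_0_0 : Cert :=
  (cons (cons (cons (lf 14) (cons (lf 21) nil)) (cons (cons (lf 28) (cons (lf 21) nil)) nil)) (cons (cons (cons (lf 28) (cons (lf 21) nil)) (cons (cons (lf 14) (cons (lf 21) nil)) nil)) (cons (sh 0x800100000008000) (cons (sh 0xa00140000008000) (cons (sh 0x200040000008000) (cons (sh 0x6000c0000008000) (cons (sh 0x400080000008000) (cons (sh 0xc00180000008000) nil))))))))

def cert9_2_0_0_1 : Cert :=
  (cons (cons (cons (lf 28) (cons (lf 21) nil)) (cons (cons (lf 13) (cons (lf 18) nil)) nil)) (cons (cons (cons (lf 28) (cons (lf 7) nil)) (cons (cons (lf 13) (cons (lf 12) nil)) nil)) (cons (cons (cons (lf 6) (cons (lf 21) nil)) (cons (cons (lf 8) (cons (lf 18) nil)) nil)) (cons (cons (cons (lf 28) (cons (lf 18) nil)) (cons (cons (lf 13) (cons (lf 21) nil)) nil)) (cons (cons (cons (lf 7) (cons (lf 13) nil)) (cons (cons (lf 12) (cons (lf 28) nil)) nil)) (cons (cons (cons (lf 18) (cons (lf 28) nil)) (cons (cons (lf 21) (cons (lf 13) nil)) nil)) (cons (cons (cons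 (lf 21) (cons (lf 28) nil)) (cons (cons (lf 18) (cons (lf 13) nil)) nil)) (cons (cons (cons (lf 21) (cons (lf 8) nil)) (cons (cons (lf 18) (cons (lf 6) nil)) nil)) nil))))))))

def cert9_2_0 : Cert :=
  (cons (cons cert9_2_0_0_0 (cons cert9_2_0_0_1 (cons (sh 0x6000c0000008000) (cons (sh 0x400080000008000) (cons (sh 0xc00180000008000) (cons (sh 0x800100000008000) (cons (sh 0xa00140000008000) (cons (sh 0x200040000008000) nil)))))))) (cons (sh 0x1400280000000) (cons (sh 0x400080000000) (cons (sh 0x1000200000000) (cons (sh 0x800100000000) (cons (sh 0x1c00380000000) (cons (sh 0xc00180000000) (cons (sh 0xc01980300000000) nil))))))))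

def cert9_2_1_0_0 : Cert :=
  (cons (cons (cons (lf 28) (cons (lf 21) nil)) (cons (cons (lf 7) (cons (lf 7) nil)) nil)) (cons (cons (cons (lf 13) (cons (lf 18) nil)) (cons (cons (lf 12) (cons (lf 13) nil)) nil)) (cons (sh 0x800100000008000) (cons (sh 0xa00140000008000) (cons (sh 0x200040000008000) (cons (sh 0x6000c0000008000) (cons (sh 0x400080000008000) (cons (sh 0xc00180000008000) nil))))))))

def cert9_2_1_0_1 : Cert :=
  (cons (cons (cons (lf 14) (cons (lf 21) nil)) (cons (cons (lf 12) (cons (lf 13) nil)) nil)) (cons (cons (cons (lf 13) (cons (lf 12) nil)) (cons (cons (lf 18) (cons (lf 13) nil)) nil)) (cons (cons (cons (lf 8) (cons (lf 18) nil)) (cons (cons (lf 18) (cons (lf 14) nil)) nil)) (cons (cons (cons (lf 13) (cons (lf 21) nil)) (cons (cons (lf 9) (cons (lf 8) nil)) nil)) (cons (cons (cons (lf 12) (cons (lf 28) nil)) (cons (cons (lf 28) (cons (lf 9) nil)) nil)) (cons (cons (cons (lf 21) (cons (lf 13) nil)) (cons (cons (lf 28) (cons (lf 6) nil)) nil)) (cons (cons (cons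 (lf 18) (cons (lf 13) nil)) (cons (cons (lf 4) (cons (lf 21) nil)) nil)) (cons (cons (cons (lf 18) (cons (lf 6) nil)) (cons (cons (lf 13) (cons (lf 9) nil)) nil)) nil))))))))

def cert9_2_1 : Cert :=
  (cons (cons cert9_2_1_0_0 (cons cert9_2_1_0_1 (cons (sh 0x6000c0000008000) (cons (sh 0x400080000008000) (cons (sh 0xc00180000008000) (cons (sh 0x800100000008000) (cons (sh 0xa00140000008000) (cons (sh 0x200040000008000) nil)))))))) (cons (sh 0x1400280000fc0) (cons (sh 0x400080000f30) (cons (sh 0x1000200000e70) (cons (sh 0x800100000de0) (cons (sh 0x1c00380000ea0) (cons (sh 0xc00180000d50) (cons (sh 0xc01980300000e70) nil))))))))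

def cert9_3_0_0_0 : Cert :=
  (cons (cons (cons (lf 14) (cons (lf 21) nil)) (cons (cons (lf 28) (cons (lf 21) nil)) nil)) (cons (cons (cons (lf 28) (cons (lf 21) nil)) (cons (cons (lf 14) (cons (lf 21) nil)) nil)) (cons (sh 0x800100000008000) (cons (sh 0xa00140000008000) (cons (sh 0x200040000008000) (cons (sh 0x6000c0000008000) (cons (sh 0x400080000008000) (cons (sh 0xc00180000008000) nil))))))))

def cert9_3_0_0_1 : Cert :=
  (cons (cons (cons (lf 28) (cons (lf 21) nil)) (cons (cons (lf 13) (cons (lf 18) nil)) nil)) (cons (cons (cons (lf 7) (cons (lf 28) nil)) (cons (cons (lf 12) (cons (lf 13) nil)) nil)) (cons (cons (cons (lf 21) (cons (lf 28) nil)) (cons (cons (lf 18) (cons (lf 13) nil)) nil)) (cons (cons (cons (lf 8) (cons (lf 21) nil)) (cons (cons (lf 6) (cons (lf 18) nil)) nil)) (cons (cons (cons (lf 6) (cons (lf 21) nil)) (cons (cons (lf 8) (cons (lf 18) nil)) nil)) (cons (cons (cons (lf 18) (cons (lf 28) nil)) (cons (cons (lf 21) (cons (lf 13) nil)) nil)) (cons (cons (cons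 (lf 7) (cons (lf 13) nil)) (cons (cons (lf 12) (cons (lf 28) nil)) nil)) (cons (cons (cons (lf 28) (cons (lf 18) nil)) (cons (cons (lf 13) (cons (lf 21) nil)) nil)) nil))))))))

def cert9_3_0 : Cert :=
  (cons (cons cert9_3_0_0_0 (cons cert9_3_0_0_1 (cons (sh 0x6000c0000008000) (cons (sh 0x400080000008000) (cons (sh 0xc00180000008000) (cons (sh 0x800100000008000) (cons (sh 0xa00140000008000) (cons (sh 0x200040000008000) nil)))))))) (cons (sh 0xc01980300000000) (cons (sh 0x1c00380000000) (cons (sh 0x400080000000) (cons (sh 0x1400280000000) (cons (sh 0xc00180000000) (cons (sh 0x800100000000) (cons (sh 0x1000200000000) nil))))))))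

def cert9_3_1_0_0 : Cert :=
  (cons (cons (cons (lf 28) (cons (lf 21) nil)) (cons (cons (lf 7) (cons (lf 7) nil)) nil)) (cons (cons (cons (lf 13) (cons (lf 18) nil)) (cons (cons (lf 13) (cons (lf 12) nil)) nil)) (cons (sh 0x800100000008000) (cons (sh 0xa00140000008000) (cons (sh 0x200040000008000) (cons (sh 0x6000c0000008000) (cons (sh 0x400080000008000) (cons (sh 0xc00180000008000) nil))))))))

def cert9_3_1_0_1 : Cert :=
  (cons (cons (cons (lf 14) (cons (lf 21) nil)) (cons (cons (lf 13) (cons (lf 12) nil)) nil)) (cons (cons (cons (lf 12) (cons (lf 13) nil)) (cons (cons (lf 18) (cons (lf 13) nil)) nil)) (cons (cons (cons (lf 18) (cons (lf 13) nil)) (cons (cons (lf 21) (cons (lf 4) nil)) nil)) (cons (cons (cons (lf 6) (cons (lf 18) nil)) (cons (cons (lf 13) (cons (lf 9) nil)) nil)) (cons (cons (cons (lf 8) (cons (lf 18) nil)) (cons (cons (lf 14) (cons (lf 18) nil)) nil)) (cons (cons (cons (lf 21) (cons (lf 13) nil)) (cons (cons (lf 9) (cons (lf 8) nil)) nil)) (cons (cons (cons (lf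 12) (cons (lf 28) nil)) (cons (cons (lf 9) (cons (lf 28) nil)) nil)) (cons (cons (cons (lf 13) (cons (lf 21) nil)) (cons (cons (lf 28) (cons (lf 6) nil)) nil)) nil))))))))

def cert9_3_1 : Cert :=
  (cons (cons cert9_3_1_0_0 (cons cert9_3_1_0_1 (cons (sh 0x6000c0000008000) (cons (sh 0x400080000008000) (cons (sh 0xc00180000008000) (cons (sh 0x800100000008000) (cons (sh 0xa00140000008000) (cons (sh 0x200040000008000) nil)))))))) (cons (sh 0xc01980300000f30) (cons (sh 0x1c00380000d50) (cons (sh 0x400080000ea0) (cons (sh 0x1400280000c90) (cons (sh 0xc00180000de0) (cons (sh 0x800100000fc0) (cons (sh 0x1000200000f30) nil))))))))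

def cert9_4_0_0_0 : Cert :=
  (cons (cons (cons (lf 14) (cons (lf 21) nil)) (cons (cons (lf 28) (cons (lf 21) nil)) nil)) (cons (cons (cons (lf 28) (cons (lf 21) nil)) (cons (cons (lf 14) (cons (lf 21) nil)) nil)) (cons (sh 0x800100000008000) (cons (sh 0xa00140000008000) (cons (sh 0x200040000008000) (cons (sh 0x6000c0000008000) (cons (sh 0x400080000008000) (cons (sh 0xc00180000008000) nil))))))))

def cert9_4_0_0_1 : Cert :=
  (cons (cons (cons (lf 28) (cons (lf 21) nil)) (cons (cons (lf 13) (cons (lf 18) nil)) nil)) (cons (cons (cons (lf 28) (cons (lf 7) nil)) (cons (cons (lf 13) (cons (lf 12) nil)) nil)) (cons (cons (cons (lf 21) (cons (lf 28) nil)) (cons (cons (lf 18) (cons (lf 13) nil)) nil)) (cons (cons (cons (lf 21) (cons (lf 8) nil)) (cons (cons (lf 18) (cons (lf 6) nil)) nil)) (cons (cons (cons (lf 6) (cons (lf 21) nil)) (cons (cons (lf 8) (cons (lf 18) nil)) nil)) (cons (cons (cons (lf 28) (cons (lf 18) nil)) (cons (cons (lf 13) (cons (lf 21) nil)) nil)) (cons (cons (cons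 (lf 7) (cons (lf 13) nil)) (cons (cons (lf 12) (cons (lf 28) nil)) nil)) (cons (cons (cons (lf 18) (cons (lf 28) nil)) (cons (cons (lf 21) (cons (lf 13) nil)) nil)) nil))))))))

def cert9_4_0 : Cert :=
  (cons (cons cert9_4_0_0_0 (cons cert9_4_0_0_1 (cons (sh 0x6000c0000008000) (cons (sh 0x400080000008000) (cons (sh 0xc00180000008000) (cons (sh 0x800100000008000) (cons (sh 0xa00140000008000) (cons (sh 0x200040000008000) nil)))))))) (cons (sh 0x1c00380000000) (cons (sh 0x1400280000000) (cons (sh 0x800100000000) (cons (sh 0x400080000000) (cons (sh 0xc01980300000000) (cons (sh 0x1000200000000) (cons (sh 0xc00180000000) nil))))))))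

def cert9_4_1_0_0 : Cert :=
  (cons (cons (cons (lf 28) (cons (lf 21) nil)) (cons (cons (lf 7) (cons (lf 7) nil)) nil)) (cons (cons (cons (lf 13) (cons (lf 18) nil)) (cons (cons (lf 12) (cons (lf 13) nil)) nil)) (cons (sh 0x800100000008000) (cons (sh 0xa00140000008000) (cons (sh 0x200040000008000) (cons (sh 0x6000c0000008000) (cons (sh 0x400080000008000) (cons (sh 0xc00180000008000) nil))))))))

def cert9_4_1_0_1 : Cert :=
  (cons (cons (cons (lf 14) (cons (lf 21) nil)) (cons (cons (lf 12) (cons (lf 13) nil)) nil)) (cons (cons (cons (lf 13) (cons (lf 12) nil)) (cons (cons (lf 18) (cons (lf 13) nil)) nil)) (cons (cons (cons (lf 18) (cons (lf 13) nil)) (cons (cons (lf 4) (cons (lf 21) nil)) nil)) (cons (cons (cons (lf 18) (cons (lf 6) nil)) (cons (cons (lf 13) (cons (lf 9) nil)) nil)) (cons (cons (cons (lf 8) (cons (lf 18) nil)) (cons (cons (lf 18) (cons (lf 14) nil)) nil)) (cons (cons (cons (lf 13) (cons (lf 21) nil)) (cons (cons (lf 9) (cons (lf 8) nil)) nil)) (cons (cons (cons (lf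 12) (cons (lf 28) nil)) (cons (cons (lf 28) (cons (lf 9) nil)) nil)) (cons (cons (cons (lf 21) (cons (lf 13) nil)) (cons (cons (lf 28) (cons (lf 6) nil)) nil)) nil))))))))

def cert9_4_1 : Cert :=
  (cons (cons cert9_4_1_0_0 (cons cert9_4_1_0_1 (cons (sh 0x6000c0000008000) (cons (sh 0x400080000008000) (cons (sh 0xc00180000008000) (cons (sh 0x800100000008000) (cons (sh 0xa00140000008000) (cons (sh 0x200040000008000) nil)))))))) (cons (sh 0x1c00380000de0) (cons (sh 0x1400280000e70) (cons (sh 0x800100000c90) (cons (sh 0x400080000d50) (cons (sh 0xc01980300000ea0) (cons (sh 0x1000200000ea0) (cons (sh 0xc00180000fc0) nil))))))))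

def cert9_5_0_0_0 : Cert :=
  (cons (cons (cons (lf 14) (cons (lf 21) nil)) (cons (cons (lf 28) (cons (lf 21) nil)) nil)) (cons (cons (cons (lf 28) (cons (lf 21) nil)) (cons (cons (lf 14) (cons (lf 21) nil)) nil)) (cons (sh 0x800100000008000) (cons (sh 0xa00140000008000) (cons (sh 0x200040000008000) (cons (sh 0x6000c0000008000) (cons (sh 0x400080000008000) (cons (sh 0xc00180000008000) nil))))))))

def cert9_5_0_0_1 : Cert :=
  (cons (cons (cons (lf 28) (cons (lf 21) nil)) (cons (cons (lf 13) (cons (lf 18) nil)) nil)) (cons (cons (cons (lf 7) (cons (lf 28) nil)) (cons (cons (lf 12) (cons (lf 13) nil)) nil)) (cons (cons (cons (lf 6) (cons (lf 21) nil)) (cons (cons (lf 8) (cons (lf 18) nil)) nil)) (cons (cons (cons (lf 18) (cons (lf 28) nil)) (cons (cons (lf 21) (cons (lf 13) nil)) nil)) (cons (cons (cons (lf 7) (cons (lf 13) nil)) (cons (cons (lf 12) (cons (lf 28) nil)) nil)) (cons (cons (cons (lf 28) (cons (lf 18) nil)) (cons (cons (lf 13) (cons (lf 21) nil)) nil)) (cons (cons (cons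 (lf 21) (cons (lf 28) nil)) (cons (cons (lf 18) (cons (lf 13) nil)) nil)) (cons (cons (cons (lf 8) (cons (lf 21) nil)) (cons (cons (lf 6) (cons (lf 18) nil)) nil)) nil))))))))

def cert9_5_0 : Cert :=
  (cons (cons cert9_5_0_0_0 (cons cert9_5_0_0_1 (cons (sh 0x6000c0000008000) (cons (sh 0x400080000008000) (cons (sh 0xc00180000008000) (cons (sh 0x800100000008000) (cons (sh 0xa00140000008000) (cons (sh 0x200040000008000) nil)))))))) (cons (sh 0x1000200000000) (cons (sh 0xc00180000000) (cons (sh 0x1c00380000000) (cons (sh 0xc01980300000000) (cons (sh 0x800100000000) (cons (sh 0x1400280000000) (cons (sh 0x400080000000) nil))))))))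

def cert9_5_1_0_0 : Cert :=
  (cons (cons (cons (lf 28) (cons (lf 21) nil)) (cons (cons (lf 7) (cons (lf 7) nil)) nil)) (cons (cons (cons (lf 13) (cons (lf 18) nil)) (cons (cons (lf 13) (cons (lf 12) nil)) nil)) (cons (sh 0x800100000008000) (cons (sh 0xa00140000008000) (cons (sh 0x200040000008000) (cons (sh 0x6000c0000008000) (cons (sh 0x400080000008000) (cons (sh 0xc00180000008000) nil))))))))

def cert9_5_1_0_1 : Cert :=
  (cons (cons (cons (lf 14) (cons (lf 21) nil)) (cons (cons (lf 13) (cons (lf 12) nil)) nil)) (cons (cons (cons (lf 12) (cons (lf 13) nil)) (cons (cons (lf 18) (cons (lf 13) nil)) nil)) (cons (cons (cons (lf 8) (cons (lf 18) nil)) (cons (cons (lf 14) (cons (lf 18) nil)) nil)) (cons (cons (cons (lf 21) (cons (lf 13) nil)) (cons (cons (lf 9) (cons (lf 8) nil)) nil)) (cons (cons (cons (lf 12) (cons (lf 28) nil)) (cons (cons (lf 9) (cons (lf 28) nil)) nil)) (cons (cons (cons (lf 13) (cons (lf 21) nil)) (cons (cons (lf 28) (cons (lf 6) nil)) nil)) (cons (cons (cons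 (lf 18) (cons (lf 13) nil)) (cons (cons (lf 21) (cons (lf 4) nil)) nil)) (cons (cons (cons (lf 6) (cons (lf 18) nil)) (cons (cons (lf 13) (cons (lf 9) nil)) nil)) nil))))))))

def cert9_5_1 : Cert :=
  (cons (cons cert9_5_1_0_0 (cons cert9_5_1_0_1 (cons (sh 0x6000c0000008000) (cons (sh 0x400080000008000) (cons (sh 0xc00180000008000) (cons (sh 0x800100000008000) (cons (sh 0xa00140000008000) (cons (sh 0x200040000008000) nil)))))))) (cons (sh 0x1000200000d50) (cons (sh 0xc00180000c90) (cons (sh 0x1c00380000fc0) (cons (sh 0xc01980300000d50) (cons (sh 0x800100000e70) (cons (sh 0x1400280000f30) (cons (sh 0x400080000de0) nil))))))))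

def cert9_6_0_0_0 : Cert :=
  (cons (cons (cons (lf 14) (cons (lf 21) nil)) (cons (cons (lf 28) (cons (lf 21) nil)) nil)) (cons (cons (cons (lf 28) (cons (lf 21) nil)) (cons (cons (lf 14) (cons (lf 21) nil)) nil)) (cons (sh 0x800100000008000) (cons (sh 0xa00140000008000) (cons (sh 0x200040000008000) (cons (sh 0x6000c0000008000) (cons (sh 0x400080000008000) (cons (sh 0xc00180000008000) nil))))))))

def cert9_6_0_0_1 : Cert :=
  (cons (cons (cons (lf 28) (cons (lf 21) nil)) (cons (cons (lf 13) (cons (lf 18) nil)) nil)) (cons (cons (cons (lf 7) (cons (lf 28) nil)) (cons (cons (lf 12) (cons (lf 13) nil)) nil)) (cons (cons (cons (lf 7) (cons (lf 13) nil)) (cons (cons (lf 12) (cons (lf 28) nil)) nil)) (cons (cons (cons (lf 28) (cons (lf 18) nil)) (cons (cons (lf 13) (cons (lf 21) nil)) nil)) (cons (cons (cons (lf 21) (cons (lf 28) nil)) (cons (cons (lf 18) (cons (lf 13) nil)) nil)) (cons (cons (cons (lf 8) (cons (lf 21) nil)) (cons (cons (lf 6) (cons (lf 18) nil)) nil)) (cons (cons (cons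 (lf 6) (cons (lf 21) nil)) (cons (cons (lf 8) (cons (lf 18) nil)) nil)) (cons (cons (cons (lf 18) (cons (lf 28) nil)) (cons (cons (lf 21) (cons (lf 13) nil)) nil)) nil))))))))

def cert9_6_0 : Cert :=
  (cons (cons cert9_6_0_0_0 (cons cert9_6_0_0_1 (cons (sh 0x6000c0000008000) (cons (sh 0x400080000008000) (cons (sh 0xc00180000008000) (cons (sh 0x800100000008000) (cons (sh 0xa00140000008000) (cons (sh 0x200040000008000) nil)))))))) (cons (sh 0x800100000000) (cons (sh 0x1000200000000) (cons (sh 0xc01980300000000) (cons (sh 0xc00180000000) (cons (sh 0x400080000000) (cons (sh 0x1c00380000000) (cons (sh 0x1400280000000) nil))))))))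

def cert9_6_1_0_0 : Cert :=
  (cons (cons (cons (lf 28) (cons (lf 21) nil)) (cons (cons (lf 7) (cons (lf 7) nil)) nil)) (cons (cons (cons (lf 13) (cons (lf 18) nil)) (cons (cons (lf 13) (cons (lf 12) nil)) nil)) (cons (sh 0x800100000008000) (cons (sh 0xa00140000008000) (cons (sh 0x200040000008000) (cons (sh 0x6000c0000008000) (cons (sh 0x400080000008000) (cons (sh 0xc00180000008000) nil))))))))

def cert9_6_1_0_1 : Cert :=
  (cons (cons (cons (lf 14) (cons (lf 21) nil)) (cons (cons (lf 13) (cons (lf 12) nil)) nil)) (cons (cons (cons (lf 12) (cons (lf 13) nil)) (cons (cons (lf 18) (cons (lf 13) nil)) nil)) (cons (cons (cons (lf 12) (cons (lf 28) nil)) (cons (cons (lf 9) (cons (lf 28) nil)) nil)) (cons (cons (cons (lf 13) (cons (lf 21) nil)) (cons (cons (lf 28) (cons (lf 6) nil)) nil)) (cons (cons (cons (lf 18) (cons (lf 13) nil)) (cons (cons (lf 21) (cons (lf 4) nil)) nil)) (cons (cons (cons (lf 6) (cons (lf 18) nil)) (cons (cons (lf 13) (cons (lf 9) nil)) nil)) (cons (cons (cons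 (lf 8) (cons (lf 18) nil)) (cons (cons (lf 14) (cons (lf 18) nil)) nil)) (cons (cons (cons (lf 21) (cons (lf 13) nil)) (cons (cons (lf 9) (cons (lf 8) nil)) nil)) nil))))))))

def cert9_6_1 : Cert :=
  (cons (cons cert9_6_1_0_0 (cons cert9_6_1_0_1 (cons (sh 0x6000c0000008000) (cons (sh 0x400080000008000) (cons (sh 0xc00180000008000) (cons (sh 0x800100000008000) (cons (sh 0xa00140000008000) (cons (sh 0x200040000008000) nil)))))))) (cons (sh 0x800100000f30) (cons (sh 0x1000200000de0) (cons (sh 0xc01980300000de0) (cons (sh 0xc00180000e70) (cons (sh 0x400080000fc0) (cons (sh 0x1c00380000c90) (cons (sh 0x1400280000ea0) nil))))))))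

def cert9 : Cert :=
  (cons (cons cert9_0_0 (cons cert9_0_1 nil)) (cons (cons cert9_1_0 (cons cert9_1_1 nil)) (cons (cons cert9_2_0 (cons cert9_2_1 nil)) (cons (cons cert9_3_0 (cons cert9_3_1 nil)) (cons (cons cert9_4_0 (cons cert9_4_1 nil)) (cons (cons cert9_5_0 (cons cert9_5_1 nil)) (cons (cons cert9_6_0 (cons cert9_6_1 nil)) nil)))))))

end Cfsg.Agent.InvChar.Iso3D4
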