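import Cfsg.Agent.InvChar.Iso3D4.Cert

/-! Certificate trees. -/

set_option autoImplicit false

namespace Cfsg.Agent.InvChar.Iso3D4

open Cert

def cert10_0_0_0_0 : Cert :=
  (cons (cons (cons (lf 2) (cons (lf 8) nil)) (cons (cons (lf 8) (cons (sh 0x200040000000) nil)) nil)) (cons (cons (cons (lf 3) (cons (lf 12) nil)) (cons (cons (lf 12) (cons (sh 0x200040000000) nil)) nil)) (cons (cons (cons (lf 9) (cons (lf 18) nil)) (cons (cons (lf 18) (cons (sh 0x200040000000) nil)) nil)) (cons (cons (cons (lf 7) (cons (lf 28) nil)) (cons (cons (lf 28) (cons (sh 0x200040000000) nil)) nil)) (cons (cons (cons (lf 9) (cons (lf 18) nil)) (cons (cons (lf 18) (cons (sh 0x200040000000) nil)) nil)) (cons (cons (cons (lf 7) (cons (lf 28) nil)) (cons (cons (lf 28) (cons (sh 0x200040000000) nil)) nil)) (cons (cons (cons (lf 9) (cons (lf 18) nil)) (cons (cons (lf 18) (cons (sh 0x200040000000) nil)) nil)) (cons (cons (cons (lf 7) (cons (lf 28) nil)) (cons (cons (lf 28) (cons (sh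 0x200040000000) nil)) nil)) nil))))))))

def cert10_0_0_0_1 : Cert :=
  (cons (cons (cons (lf 8) (cons (lf 4) nil)) (cons (cons (lf 7) (cons (sh 0x200040000000) nil)) nil)) (cons (cons (cons (lf 12) (cons (lf 12) nil)) (cons (cons (lf 8) (cons (sh 0x200040000000) nil)) nil)) (cons (cons (cons (lf 9) (cons (lf 18) nil)) (cons (cons (lf 13) (cons (sh 0x200040000000) nil)) nil)) (cons (cons (cons (lf 14) (cons (lf 14) nil)) (cons (cons (lf 18) (cons (sh 0x200040000000) nil)) nil)) (cons (cons (cons (lf 9) (cons (lf 18) nil)) (cons (cons (lf 13) (cons (sh 0x200040000000) nil)) nil)) (cons (cons (cons (lf 14) (cons (lf 14) nil)) (cons (cons (lf 18) (cons (sh 0x200040000000) nil)) nil)) (cons (cons (cons (lf 9) (cons (lf 18) nil)) (cons (cons (lf 13) (cons (sh 0x200040000000) nil)) nil)) (cons (cons (cons (lf 14) (cons (lf 14) nil)) (cons (cons (lf 18) (cons (sh 0x200040000000) nil)) nil)) nil))))))))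

def cert10_0_0_0_2 : Cert :=
  (cons (cons (cons (lf 4) (cons (lf 8) nil)) (cons (cons (lf 13) (cons (sh 0x200040000000) nil)) nil)) (cons (cons (cons (lf 6) (cons (lf 12) nil)) (cons (cons (lf 21) (cons (sh 0x200040000000) nil)) nil)) (cons (cons (cons (lf 9) (cons (lf 18) nil)) (cons (cons (lf 18) (cons (sh 0x200040000000) nil)) nil)) (cons (cons (cons (lf 28) (cons (lf 7) nil)) (cons (cons (lf 28) (cons (sh 0x200040000000) nil)) nil)) (cons (cons (cons (lf 9) (cons (lf 9) nil)) (cons (cons (lf 21) (cons (sh 0x200040000000) nil)) nil)) (cons (cons (cons (lf 14) (cons (lf 14) nil)) (cons (cons (lf 8) (cons (sh 0x200040000000) nil)) nil)) (cons (cons (cons (lf 18) (cons (lf 18) nil)) (cons (cons (lf 12) (cons (sh 0x200040000000) nil)) nil)) (cons (cons (cons (lf 14) (cons (lf 14) nil)) (cons (cons (lf 13) (cons (sh 0x200040000000) nil)) nil)) nil))))))))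

def cert10_0_0_0_3 : Cert :=
  (cons (cons (cons (lf 8) (cons (lf 4) nil)) (cons (cons (lf 18) (cons (sh 0x200040000000) nil)) nil)) (cons (cons (cons (lf 12) (cons (lf 12) nil)) (cons (cons (lf 13) (cons (sh 0x200040000000) nil)) nil)) (cons (cons (cons (lf 18) (cons (lf 9) nil)) (cons (cons (lf 13) (cons (sh 0x200040000000) nil)) nil)) (cons (cons (cons (lf 14) (cons (lf 14) nil)) (cons (cons (lf 18) (cons (sh 0x200040000000) nil)) nil)) (cons (cons (cons (lf 9) (cons (lf 9) nil)) (cons (cons (lf 28) (cons (sh 0x200040000000) nil)) nil)) (cons (cons (cons (lf 28) (cons (lf 14) nil)) (cons (cons (lf 12) (cons (sh 0x200040000000) nil)) nil)) (cons (cons (cons (lf 9) (cons (lf 9) nil)) (cons (cons (lf 6) (cons (sh 0x200040000000) nil)) nil)) (cons (cons (cons (lf 7) (cons (lf 28) nil)) (cons (cons (lf 21) (cons (sh 0x200040000000) nil)) nil)) nil))))))))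

def cert10_0_0_0_4 : Cert :=
  (cons (cons (cons (lf 4) (cons (lf 8) nil)) (cons (cons (lf 13) (cons (sh 0x200040000000) nil)) nil)) (cons (cons (cons (lf 6) (cons (lf 12) nil)) (cons (cons (lf 21) (cons (sh 0x200040000000) nil)) nil)) (cons (cons (cons (lf 18) (cons (lf 18) nil)) (cons (cons (lf 12) (cons (sh 0x200040000000) nil)) nil)) (cons (cons (cons (lf 14) (cons (lf 14) nil)) (cons (cons (lf 13) (cons (sh 0x200040000000) nil)) nil)) (cons (cons (cons (lf 9) (cons (lf 18) nil)) (cons (cons (lf 18) (cons (sh 0x200040000000) nil)) nil)) (cons (cons (cons (lf 28) (cons (lf 7) nil)) (cons (cons (lf 28) (cons (sh 0x200040000000) nil)) nil)) (cons (cons (cons (lf 9) (cons (lf 9) nil)) (cons (cons (lf 21) (cons (sh 0x200040000000) nil)) nil)) (cons (cons (cons (lf 14) (cons (lf 14) nil)) (cons (cons (lf 8) (cons (sh 0x200040000000) nil)) nil)) nil))))))))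

def cert10_0_0_0_5 : Cert :=
  (cons (cons (cons (lf 8) (cons (lf 4) nil)) (cons (cons (lf 18) (cons (sh 0x200040000000) nil)) nil)) (cons (cons (cons (lf 12) (cons (lf 12) nil)) (cons (cons (lf 13) (cons (sh 0x200040000000) nil)) nil)) (cons (cons (cons (lf 9) (cons (lf 9) nil)) (cons (cons (lf 6) (cons (sh 0x200040000000) nil)) nil)) (cons (cons (cons (lf 7) (cons (lf 28) nil)) (cons (cons (lf 21) (cons (sh 0x200040000000) nil)) nil)) (cons (cons (cons (lf 18) (cons (lf 9) nil)) (cons (cons (lf 13) (cons (sh 0x200040000000) nil)) nil)) (cons (cons (cons (lf 14) (cons (lf 14) nil)) (cons (cons (lf 18) (cons (sh 0x200040000000) nil)) nil)) (cons (cons (cons (lf 9) (cons (lf 9) nil)) (cons (cons (lf 28) (cons (sh 0x200040000000) nil)) nil)) (cons (cons (cons (lf 28) (cons (lf 14) nil)) (cons (cons (lf 12) (cons (sh 0x200040000000) nil)) nil)) nil))))))))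

def cert10_0_0_0_6 : Cert :=
  (cons (cons (cons (lf 4) (cons (lf 8) nil)) (cons (cons (lf 13) (cons (sh 0x200040000000) nil)) nil)) (cons (cons (cons (lf 6) (cons (lf 12) nil)) (cons (cons (lf 21) (cons (sh 0x200040000000) nil)) nil)) (cons (cons (cons (lf 9) (cons (lf 9) nil)) (cons (cons (lf 21) (cons (sh 0x200040000000) nil)) nil)) (cons (cons (cons (lf 14) (cons (lf 14) nil)) (cons (cons (lf 8) (cons (sh 0x200040000000) nil)) nil)) (cons (cons (cons (lf 18) (cons (lf 18) nil)) (cons (cons (lf 12) (cons (sh 0x200040000000) nil)) nil)) (cons (cons (cons (lf 14) (cons (lf 14) nil)) (cons (cons (lf 13) (cons (sh 0x200040000000) nil)) nil)) (cons (cons (cons (lf 9) (cons (lf 18) nil)) (cons (cons (lf 18) (cons (sh 0x200040000000) nil)) nil)) (cons (cons (cons (lf 28) (cons (lf 7) nil)) (cons (cons (lf 28) (cons (sh 0x200040000000) nil)) nil)) nil))))))))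

def cert10_0_0_0_7 : Cert :=
  (cons (cons (cons (lf 8) (cons (lf 4) nil)) (cons (cons (lf 18) (cons (sh 0x200040000000) nil)) nil)) (cons (cons (cons (lf 12) (cons (lf 12) nil)) (cons (cons (lf 13) (cons (sh 0x200040000000) nil)) nil)) (cons (cons (cons (lf 9) (cons (lf 9) nil)) (cons (cons (lf 28) (cons (sh 0x200040000000) nil)) nil)) (cons (cons (cons (lf 28) (cons (lf 14) nil)) (cons (cons (lf 12) (cons (sh 0x200040000000) nil)) nil)) (cons (cons (cons (lf 9) (cons (lf 9) nil)) (cons (cons (lf 6) (cons (sh 0x200040000000) nil)) nil)) (cons (cons (cons (lf 7) (cons (lf 28) nil)) (cons (cons (lf 21) (cons (sh 0x200040000000) nil)) nil)) (cons (cons (cons (lf 18) (cons (lf 9) nil)) (cons (cons (lf 13) (cons (sh 0x200040000000) nil)) nil)) (cons (cons (cons (lf 14) (cons (lf 14) nil)) (cons (cons (lf 18) (cons (sh 0x200040000000) nil)) nil)) nil))))))))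

def cert10_0_0_1_0 : Cert :=
  (cons (cons (cons (lf 8) (cons (lf 7) nil)) (cons (cons (lf 4) (cons (lf 7) nil)) nil)) (cons (cons (cons (lf 12) (cons (lf 8) nil)) (cons (cons (lf 12) (cons (lf 8) nil)) nil)) (cons (cons (cons (lf 9) (cons (lf 13) nil)) (cons (cons (lf 18) (cons (lf 13) nil)) nil)) (cons (cons (cons (lf 14) (cons (lf 18) nil)) (cons (cons (lf 14) (cons (lf 18) nil)) nil)) (cons (cons (cons (lf 9) (cons (lf 13) nil)) (cons (cons (lf 18) (cons (lf 13) nil)) nil)) (cons (cons (cons (lf 14) (cons (lf 18) nil)) (cons (cons (lf 14) (cons (lf 18) nil)) nil)) (cons (cons (cons (lf 9) (cons (lf 13) nil)) (cons (cons (lf 18) (cons (lf 13) nil)) nil)) (cons (cons (cons (lf 14) (cons (lf 18) nil)) (cons (cons (lf 14) (cons (lf 18) nil)) nil)) nil))))))))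

def cert10_0_0_1_2 : Cert :=
  (cons (cons (cons (lf 13) (cons (lf 9) nil)) (cons (cons (lf 6) (cons (lf 12) nil)) nil)) (cons (cons (cons (lf 12) (cons (lf 8) nil)) (cons (cons (lf 18) (cons (lf 14) nil)) nil)) (cons (cons (cons (lf 9) (cons (lf 13) nil)) (cons (cons (lf 12) (cons (lf 6) nil)) nil)) (cons (cons (cons (lf 14) (cons (lf 18) nil)) (cons (cons (lf 8) (cons (lf 12) nil)) nil)) (cons (cons (cons (lf 18) (cons (lf 13) nil)) (cons (cons (lf 9) (cons (lf 13) nil)) nil)) (cons (cons (cons (lf 8) (cons (lf 6) nil)) (cons (cons (lf 13) (cons (lf 21) nil)) nil)) (cons (cons (cons (lf 18) (cons (lf 13) nil)) (cons (cons (lf 9) (cons (lf 13) nil)) nil)) (cons (cons (cons (lf 13) (cons (lf 21) nil)) (cons (cons (lf 8) (cons (lf 6) nil)) nil)) nil))))))))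

def cert10_0_0_1_4 : Cert :=
  (cons (cons (cons (lf 13) (cons (lf 9) nil)) (cons (cons (lf 6) (cons (lf 12) nil)) nil)) (cons (cons (cons (lf 12) (cons (lf 8) nil)) (cons (cons (lf 18) (cons (lf 14) nil)) nil)) (cons (cons (cons (lf 18) (cons (lf 13) nil)) (cons (cons (lf 9) (cons (lf 13) nil)) nil)) (cons (cons (cons (lf 13) (cons (lf 21) nil)) (cons (cons (lf 8) (cons (lf 6) nil)) nil)) (cons (cons (cons (lf 9) (cons (lf 13) nil)) (cons (cons (lf 12) (cons (lf 6) nil)) nil)) (cons (cons (cons (lf 14) (cons (lf 18) nil)) (cons (cons (lf 8) (cons (lf 12) nil)) nil)) (cons (cons (cons (lf 18) (cons (lf 13) nil)) (cons (cons (lf 9) (cons (lf 13) nil)) nil)) (cons (cons (cons (lf 8) (cons (lf 6) nil)) (cons (cons (lf 13) (cons (lf 21) nil)) nil)) nil))))))))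

def cert10_0_0_1_6 : Cert :=
  (cons (cons (cons (lf 13) (cons (lf 9) nil)) (cons (cons (lf 6) (cons (lf 12) nil)) nil)) (cons (cons (cons (lf 12) (cons (lf 8) nil)) (cons (cons (lf 18) (cons (lf 14) nil)) nil)) (cons (cons (cons (lf 18) (cons (lf 13) nil)) (cons (cons (lf 9) (cons (lf 13) nil)) nil)) (cons (cons (cons (lf 8) (cons (lf 6) nil)) (cons (cons (lf 13) (cons (lf 21) nil)) nil)) (cons (cons (cons (lf 18) (cons (lf 13) nil)) (cons (cons (lf 9) (cons (lf 13) nil)) nil)) (cons (cons (cons (lf 13) (cons (lf 21) nil)) (cons (cons (lf 8) (cons (lf 6) nil)) nil)) (cons (cons (cons (lf 9) (cons (lf 13) nil)) (cons (cons (lf 12) (cons (lf 6) nil)) nil)) (cons (cons (cons (lf 14) (cons (lf 18) nil)) (cons (cons (lf 8) (cons (lf 12) nil)) nil)) nil))))))))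

def cert10_0_0_2_0 : Cert :=
  (cons (cons (cons (lf 4) (cons (lf 13) nil)) (cons (cons (lf 8) (cons (lf 13) nil)) nil)) (cons (cons (cons (lf 6) (cons (lf 21) nil)) (cons (cons (lf 12) (cons (lf 21) nil)) nil)) (cons (cons (cons (lf 9) (cons (lf 18) nil)) (cons (cons (lf 18) (cons (lf 18) nil)) nil)) (cons (cons (cons (lf 28) (cons (lf 28) nil)) (cons (cons (lf 7) (cons (lf 28) nil)) nil)) (cons (cons (cons (lf 9) (cons (lf 21) nil)) (cons (cons (lf 9) (cons (lf 21) nil)) nil)) (cons (cons (cons (lf 14) (cons (lf 8) nil)) (cons (cons (lf 14) (cons (lf 8) nil)) nil)) (cons (cons (cons (lf 18) (cons (lf 12) nil)) (cons (cons (lf 18) (cons (lf 12) nil)) nil)) (cons (cons (cons (lf 14) (cons (lf 13) nil)) (cons (cons (lf 14) (cons (lf 13) nil)) nil)) nil))))))))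

def cert10_0_0_2_1 : Cert :=
  (cons (cons (cons (lf 13) (cons (lf 6) nil)) (cons (cons (lf 9) (cons (lf 12) nil)) nil)) (cons (cons (cons (lf 18) (cons (lf 12) nil)) (cons (cons (lf 14) (cons (lf 8) nil)) nil)) (cons (cons (cons (lf 9) (cons (lf 12) nil)) (cons (cons (lf 13) (cons (lf 6) nil)) nil)) (cons (cons (cons (lf 8) (cons (lf 14) nil)) (cons (cons (lf 12) (cons (lf 18) nil)) nil)) (cons (cons (cons (lf 13) (cons (lf 13) nil)) (cons (cons (lf 18) (cons (lf 9) nil)) nil)) (cons (cons (cons (lf 21) (cons (lf 6) nil)) (cons (cons (lf 13) (cons (lf 8) nil)) nil)) (cons (cons (cons (lf 13) (cons (lf 13) nil)) (cons (cons (lf 18) (cons (lf 9) nil)) nil)) (cons (cons (cons (lf 6) (cons (lf 21) nil)) (cons (cons (lf 8) (cons (lf 13) nil)) nil)) nil))))))))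

def cert10_0_0_2_4 : Cert :=
  (cons (cons (cons (lf 12) (cons (lf 21) nil)) (cons (cons (lf 9) (cons (lf 18) nil)) nil)) (cons (cons (cons (lf 21) (cons (lf 12) nil)) (cons (cons (lf 18) (cons (lf 9) nil)) nil)) (cons (cons (cons (lf 4) (cons (lf 13) nil)) (cons (cons (lf 13) (cons (lf 13) nil)) nil)) (cons (cons (cons (lf 4) (cons (lf 13) nil)) (cons (cons (lf 13) (cons (lf 13) nil)) nil)) (cons (cons (cons (lf 12) (cons (lf 9) nil)) (cons (cons (lf 18) (cons (lf 21) nil)) nil)) (cons (cons (cons (lf 21) (cons (lf 18) nil)) (cons (cons (lf 9) (cons (lf 12) nil)) nil)) (cons (cons (cons (lf 12) (cons (lf 18) nil)) (cons (cons (lf 21) (cons (lf 9) nil)) nil)) (cons (cons (cons (lf 21) (cons (lf 9) nil)) (cons (cons (lf 12) (cons (lf 18) nil)) nil)) nil))))))))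

def cert10_0_0_2_5 : Cert :=
  (cons (cons (cons (lf 18) (cons (lf 12) nil)) (cons (cons (lf 13) (cons (lf 14) nil)) nil)) (cons (cons (cons (lf 12) (cons (lf 9) nil)) (cons (cons (lf 13) (cons (lf 28) nil)) nil)) (cons (cons (cons (lf 28) (cons (lf 13) nil)) (cons (cons (lf 9) (cons (lf 12) nil)) nil)) (cons (cons (cons (lf 13) (cons (lf 14) nil)) (cons (cons (lf 18) (cons (lf 12) nil)) nil)) (cons (cons (cons (lf 4) (cons (lf 13) nil)) (cons (cons (lf 18) (cons (lf 18) nil)) nil)) (cons (cons (cons (lf 13) (cons (lf 13) nil)) (cons (cons (lf 21) (cons (lf 6) nil)) nil)) (cons (cons (cons (lf 13) (cons (lf 13) nil)) (cons (cons (lf 6) (cons (lf 21) nil)) nil)) (cons (cons (cons (lf 4) (cons (lf 13) nil)) (cons (cons (lf 18) (cons (lf 18) nil)) nil)) nil))))))))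

def cert10_0_0_3_0 : Cert :=
  (cons (cons (cons (lf 8) (cons (lf 18) nil)) (cons (cons (lf 4) (cons (lf 18) nil)) nil)) (cons (cons (cons (lf 12) (cons (lf 13) nil)) (cons (cons (lf 12) (cons (lf 13) nil)) nil)) (cons (cons (cons (lf 18) (cons (lf 13) nil)) (cons (cons (lf 9) (cons (lf 13) nil)) nil)) (cons (cons (cons (lf 14) (cons (lf 18) nil)) (cons (cons (lf 14) (cons (lf 18) nil)) nil)) (cons (cons (cons (lf 9) (cons (lf 28) nil)) (cons (cons (lf 9) (cons (lf 28) nil)) nil)) (cons (cons (cons (lf 28) (cons (lf 12) nil)) (cons (cons (lf 14) (cons (lf 12) nil)) nil)) (cons (cons (cons (lf 9) (cons (lf 6) nil)) (cons (cons (lf 9) (cons (lf 6) nil)) nil)) (cons (cons (cons (lf 7) (cons (lf 21) nil)) (cons (cons (lf 28) (cons (lf 21) nil)) nil)) nil))))))))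

def cert10_0_0_3_1 : Cert :=
  (cons (cons (cons (lf 14) (cons (lf 12) nil)) (cons (cons (lf 18) (cons (lf 8) nil)) nil)) (cons (cons (cons (lf 9) (cons (lf 6) nil)) (cons (cons (lf 13) (cons (lf 12) nil)) nil)) (cons (cons (cons (lf 12) (cons (lf 14) nil)) (cons (cons (lf 8) (cons (lf 18) nil)) nil)) (cons (cons (cons (lf 13) (cons (lf 12) nil)) (cons (cons (lf 9) (cons (lf 6) nil)) nil)) (cons (cons (cons (lf 13) (cons (lf 6) nil)) (cons (cons (lf 21) (cons (lf 8) nil)) nil)) (cons (cons (cons (lf 18) (cons (lf 13) nil)) (cons (cons (lf 13) (cons (lf 9) nil)) nil)) (cons (cons (cons (lf 8) (cons (lf 21) nil)) (cons (cons (lf 6) (cons (lf 13) nil)) nil)) (cons (cons (cons (lf 18) (cons (lf 13) nil)) (cons (cons (lf 13) (cons (lf 9) nil)) nil)) nil))))))))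

def cert10_0_0_3_4 : Cert :=
  (cons (cons (cons (lf 21) (cons (lf 13) nil)) (cons (cons (lf 6) (cons (lf 13) nil)) nil)) (cons (cons (cons (lf 18) (cons (lf 4) nil)) (cons (cons (lf 18) (cons (lf 13) nil)) nil)) (cons (cons (cons (lf 14) (cons (lf 18) nil)) (cons (cons (lf 13) (cons (lf 12) nil)) nil)) (cons (cons (cons (lf 28) (cons (lf 12) nil)) (cons (cons (lf 13) (cons (lf 9) nil)) nil)) (cons (cons (cons (lf 18) (cons (lf 4) nil)) (cons (cons (lf 18) (cons (lf 13) nil)) nil)) (cons (cons (cons (lf 6) (cons (lf 13) nil)) (cons (cons (lf 21) (cons (lf 13) nil)) nil)) (cons (cons (cons (lf 12) (cons (lf 28) nil)) (cons (cons (lf 9) (cons (lf 13) nil)) nil)) (cons (cons (cons (lf 12) (cons (lf 13) nil)) (cons (cons (lf 18) (cons (lf 14) nil)) nil)) nil))))))))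

def cert10_0_0_3_5 : Cert :=
  (cons (cons (cons (lf 9) (cons (lf 28) nil)) (cons (cons (lf 13) (cons (lf 12) nil)) nil)) (cons (cons (cons (lf 12) (cons (lf 14) nil)) (cons (cons (lf 13) (cons (lf 18) nil)) nil)) (cons (cons (cons (lf 13) (cons (lf 6) nil)) (cons (cons (lf 21) (cons (lf 13) nil)) nil)) (cons (cons (cons (lf 13) (cons (lf 18) nil)) (cons (cons (lf 18) (cons (lf 4) nil)) nil)) (cons (cons (cons (lf 13) (cons (lf 18) nil)) (cons (cons (lf 18) (cons (lf 4) nil)) nil)) (cons (cons (cons (lf 13) (cons (lf 21) nil)) (cons (cons (lf 6) (cons (lf 13) nil)) nil)) (cons (cons (cons (lf 14) (cons (lf 12) nil)) (cons (cons (lf 18) (cons (lf 13) nil)) nil)) (cons (cons (cons (lf 13) (cons (lf 12) nil)) (cons (cons (lf 9) (cons (lf 28) nil)) nil)) nil))))))))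

def cert10_0_0_4_0 : Cert :=
  (cons (cons (cons (lf 4) (cons (lf 13) nil)) (cons (cons (lf 8) (cons (lf 13) nil)) nil)) (cons (cons (cons (lf 6) (cons (lf 21) nil)) (cons (cons (lf 12) (cons (lf 21) nil)) nil)) (cons (cons (cons (lf 18) (cons (lf 12) nil)) (cons (cons (lf 18) (cons (lf 12) nil)) nil)) (cons (cons (cons (lf 14) (cons (lf 13) nil)) (cons (cons (lf 14) (cons (lf 13) nil)) nil)) (cons (cons (cons (lf 9) (cons (lf 18) nil)) (cons (cons (lf 18) (cons (lf 18) nil)) nil)) (cons (cons (cons (lf 28) (cons (lf 28) nil)) (cons (cons (lf 7) (cons (lf 28) nil)) nil)) (cons (cons (cons (lf 9) (cons (lf 21) nil)) (cons (cons (lf 9) (cons (lf 21) nil)) nil)) (cons (cons (cons (lf 14) (cons (lf 8) nil)) (cons (cons (lf 14) (cons (lf 8) nil)) nil)) nil))))))))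

def cert10_0_0_4_1 : Cert :=
  (cons (cons (cons (lf 13) (cons (lf 6) nil)) (cons (cons (lf 9) (cons (lf 12) nil)) nil)) (cons (cons (cons (lf 18) (cons (lf 12) nil)) (cons (cons (lf 14) (cons (lf 8) nil)) nil)) (cons (cons (cons (lf 13) (cons (lf 13) nil)) (cons (cons (lf 18) (cons (lf 9) nil)) nil)) (cons (cons (cons (lf 6) (cons (lf 21) nil)) (cons (cons (lf 8) (cons (lf 13) nil)) nil)) (cons (cons (cons (lf 9) (cons (lf 12) nil)) (cons (cons (lf 13) (cons (lf 6) nil)) nil)) (cons (cons (cons (lf 8) (cons (lf 14) nil)) (cons (cons (lf 12) (cons (lf 18) nil)) nil)) (cons (cons (cons (lf 13) (cons (lf 13) nil)) (cons (cons (lf 18) (cons (lf 9) nil)) nil)) (cons (cons (cons (lf 21) (cons (lf 6) nil)) (cons (cons (lf 13) (cons (lf 8) nil)) nil)) nil))))))))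

def cert10_0_0_4_2 : Cert :=
  (cons (cons (cons (lf 12) (cons (lf 9) nil)) (cons (cons (lf 21) (cons (lf 18) nil)) nil)) (cons (cons (cons (lf 21) (cons (lf 18) nil)) (cons (cons (lf 12) (cons (lf 9) nil)) nil)) (cons (cons (cons (lf 13) (cons (lf 13) nil)) (cons (cons (lf 4) (cons (lf 13) nil)) nil)) (cons (cons (cons (lf 13) (cons (lf 13) nil)) (cons (cons (lf 4) (cons (lf 13) nil)) nil)) (cons (cons (cons (lf 18) (cons (lf 12) nil)) (cons (cons (lf 21) (cons (lf 9) nil)) nil)) (cons (cons (cons (lf 9) (cons (lf 21) nil)) (cons (cons (lf 12) (cons (lf 18) nil)) nil)) (cons (cons (cons (lf 9) (cons (lf 18) nil)) (cons (cons (lf 21) (cons (lf 12) nil)) nil)) (cons (cons (cons (lf 18) (cons (lf 9) nil)) (cons (cons (lf 12) (cons (lf 21) nil)) nil)) nil))))))))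

def cert10_0_0_4_3 : Cert :=
  (cons (cons (cons (lf 21) (cons (lf 6) nil)) (cons (cons (lf 13) (cons (lf 13) nil)) nil)) (cons (cons (cons (lf 18) (cons (lf 18) nil)) (cons (cons (lf 13) (cons (lf 4) nil)) nil)) (cons (cons (cons (lf 18) (cons (lf 12) nil)) (cons (cons (lf 14) (cons (lf 13) nil)) nil)) (cons (cons (cons (lf 9) (cons (lf 12) nil)) (cons (cons (lf 13) (cons (lf 28) nil)) nil)) (cons (cons (cons (lf 18) (cons (lf 18) nil)) (cons (cons (lf 13) (cons (lf 4) nil)) nil)) (cons (cons (cons (lf 6) (cons (lf 21) nil)) (cons (cons (lf 13) (cons (lf 13) nil)) nil)) (cons (cons (cons (lf 13) (cons (lf 28) nil)) (cons (cons (lf 9) (cons (lf 12) nil)) nil)) (cons (cons (cons (lf 13) (cons (lf 14) nil)) (cons (cons (lf 12) (cons (lf 18) nil)) nil)) nil))))))))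

def cert10_0_0_5_0 : Cert :=
  (cons (cons (cons (lf 8) (cons (lf 18) nil)) (cons (cons (lf 4) (cons (lf 18) nil)) nil)) (cons (cons (cons (lf 12) (cons (lf 13) nil)) (cons (cons (lf 12) (cons (lf 13) nil)) nil)) (cons (cons (cons (lf 9) (cons (lf 6) nil)) (cons (cons (lf 9) (cons (lf 6) nil)) nil)) (cons (cons (cons (lf 7) (cons (lf 21) nil)) (cons (cons (lf 28) (cons (lf 21) nil)) nil)) (cons (cons (cons (lf 18) (cons (lf 13) nil)) (cons (cons (lf 9) (cons (lf 13) nil)) nil)) (cons (cons (cons (lf 14) (cons (lf 18) nil)) (cons (cons (lf 14) (cons (lf 18) nil)) nil)) (cons (cons (cons (lf 9) (cons (lf 28) nil)) (cons (cons (lf 9) (cons (lf 28) nil)) nil)) (cons (cons (cons (lf 28) (cons (lf 12) nil)) (cons (cons (lf 14) (cons (lf 12) nil)) nil)) nil))))))))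

def cert10_0_0_5_1 : Cert :=
  (cons (cons (cons (lf 14) (cons (lf 12) nil)) (cons (cons (lf 18) (cons (lf 8) nil)) nil)) (cons (cons (cons (lf 9) (cons (lf 6) nil)) (cons (cons (lf 13) (cons (lf 12) nil)) nil)) (cons (cons (cons (lf 8) (cons (lf 21) nil)) (cons (cons (lf 6) (cons (lf 13) nil)) nil)) (cons (cons (cons (lf 18) (cons (lf 13) nil)) (cons (cons (lf 13) (cons (lf 9) nil)) nil)) (cons (cons (cons (lf 12) (cons (lf 14) nil)) (cons (cons (lf 8) (cons (lf 18) nil)) nil)) (cons (cons (cons (lf 13) (cons (lf 12) nil)) (cons (cons (lf 9) (cons (lf 6) nil)) nil)) (cons (cons (cons (lf 13) (cons (lf 6) nil)) (cons (cons (lf 21) (cons (lf 8) nil)) nil)) (cons (cons (cons (lf 18) (cons (lf 13) nil)) (cons (cons (lf 13) (cons (lf 9) nil)) nil)) nil))))))))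

def cert10_0_0_5_2 : Cert :=
  (cons (cons (cons (lf 18) (cons (lf 13) nil)) (cons (cons (lf 12) (cons (lf 14) nil)) nil)) (cons (cons (cons (lf 9) (cons (lf 28) nil)) (cons (cons (lf 12) (cons (lf 13) nil)) nil)) (cons (cons (cons (lf 13) (cons (lf 12) nil)) (cons (cons (lf 28) (cons (lf 9) nil)) nil)) (cons (cons (cons (lf 13) (cons (lf 18) nil)) (cons (cons (lf 14) (cons (lf 12) nil)) nil)) (cons (cons (cons (lf 18) (cons (lf 4) nil)) (cons (cons (lf 18) (cons (lf 13) nil)) nil)) (cons (cons (cons (lf 6) (cons (lf 13) nil)) (cons (cons (lf 21) (cons (lf 13) nil)) nil)) (cons (cons (cons (lf 21) (cons (lf 13) nil)) (cons (cons (lf 6) (cons (lf 13) nil)) nil)) (cons (cons (cons (lf 18) (cons (lf 4) nil)) (cons (cons (lf 18) (cons (lf 13) nil)) nil)) nil))))))))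

def cert10_0_0_5_3 : Cert :=
  (cons (cons (cons (lf 9) (cons (lf 13) nil)) (cons (cons (lf 28) (cons (lf 12) nil)) nil)) (cons (cons (cons (lf 18) (cons (lf 14) nil)) (cons (cons (lf 13) (cons (lf 12) nil)) nil)) (cons (cons (cons (lf 6) (cons (lf 13) nil)) (cons (cons (lf 13) (cons (lf 21) nil)) nil)) (cons (cons (cons (lf 18) (cons (lf 13) nil)) (cons (cons (lf 4) (cons (lf 18) nil)) nil)) (cons (cons (cons (lf 18) (cons (lf 13) nil)) (cons (cons (lf 4) (cons (lf 18) nil)) nil)) (cons (cons (cons (lf 21) (cons (lf 13) nil)) (cons (cons (lf 13) (cons (lf 6) nil)) nil)) (cons (cons (cons (lf 13) (cons (lf 12) nil)) (cons (cons (lf 18) (cons (lf 14) nil)) nil)) (cons (cons (cons (lf 13) (cons (lf 9) nil)) (cons (cons (lf 12) (cons (lf 28) nil)) nil)) nil))))))))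

def cert10_0_0_6_0 : Cert :=
  (cons (cons (cons (lf 4) (cons (lf 13) nil)) (cons (cons (lf 8) (cons (lf 13) nil)) nil)) (cons (cons (cons (lf 6) (cons (lf 21) nil)) (cons (cons (lf 12) (cons (lf 21) nil)) nil)) (cons (cons (cons (lf 9) (cons (lf 21) nil)) (cons (cons (lf 9) (cons (lf 21) nil)) nil)) (cons (cons (cons (lf 14) (cons (lf 8) nil)) (cons (cons (lf 14) (cons (lf 8) nil)) nil)) (cons (cons (cons (lf 18) (cons (lf 12) nil)) (cons (cons (lf 18) (cons (lf 12) nil)) nil)) (cons (cons (cons (lf 14) (cons (lf 13) nil)) (cons (cons (lf 14) (cons (lf 13) nil)) nil)) (cons (cons (cons (lf 9) (cons (lf 18) nil)) (cons (cons (lf 18) (cons (lf 18) nil)) nil)) (cons (cons (cons (lf 28) (cons (lf 28) nil)) (cons (cons (lf 7) (cons (lf 28) nil)) nil)) nil))))))))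

def cert10_0_0_6_1 : Cert :=
  (cons (cons (cons (lf 13) (cons (lf 6) nil)) (cons (cons (lf 9) (cons (lf 12) nil)) nil)) (cons (cons (cons (lf 18) (cons (lf 12) nil)) (cons (cons (lf 14) (cons (lf 8) nil)) nil)) (cons (cons (cons (lf 13) (cons (lf 13) nil)) (cons (cons (lf 18) (cons (lf 9) nil)) nil)) (cons (cons (cons (lf 21) (cons (lf 6) nil)) (cons (cons (lf 13) (cons (lf 8) nil)) nil)) (cons (cons (cons (lf 13) (cons (lf 13) nil)) (cons (cons (lf 18) (cons (lf 9) nil)) nil)) (cons (cons (cons (lf 6) (cons (lf 21) nil)) (cons (cons (lf 8) (cons (lf 13) nil)) nil)) (cons (cons (cons (lf 9) (cons (lf 12) nil)) (cons (cons (lf 13) (cons (lf 6) nil)) nil)) (cons (cons (cons (lf 8) (cons (lf 14) nil)) (cons (cons (lf 12) (cons (lf 18) nil)) nil)) nil))))))))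

def cert10_0_0_6_2 : Cert :=
  (cons (cons (cons (lf 12) (cons (lf 21) nil)) (cons (cons (lf 9) (cons (lf 18) nil)) nil)) (cons (cons (cons (lf 21) (cons (lf 12) nil)) (cons (cons (lf 18) (cons (lf 9) nil)) nil)) (cons (cons (cons (lf 12) (cons (lf 9) nil)) (cons (cons (lf 18) (cons (lf 21) nil)) nil)) (cons (cons (cons (lf 21) (cons (lf 18) nil)) (cons (cons (lf 9) (cons (lf 12) nil)) nil)) (cons (cons (cons (lf 12) (cons (lf 18) nil)) (cons (cons (lf 21) (cons (lf 9) nil)) nil)) (cons (cons (cons (lf 21) (cons (lf 9) nil)) (cons (cons (lf 12) (cons (lf 18) nil)) nil)) (cons (cons (cons (lf 4) (cons (lf 13) nil)) (cons (cons (lf 13) (cons (lf 13) nil)) nil)) (cons (cons (cons (lf 4) (cons (lf 13) nil)) (cons (cons (lf 13) (cons (lf 13) nil)) nil)) nil))))))))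

def cert10_0_0_6_3 : Cert :=
  (cons (cons (cons (lf 18) (cons (lf 12) nil)) (cons (cons (lf 13) (cons (lf 14) nil)) nil)) (cons (cons (cons (lf 12) (cons (lf 9) nil)) (cons (cons (lf 13) (cons (lf 28) nil)) nil)) (cons (cons (cons (lf 4) (cons (lf 13) nil)) (cons (cons (lf 18) (cons (lf 18) nil)) nil)) (cons (cons (cons (lf 13) (cons (lf 13) nil)) (cons (cons (lf 21) (cons (lf 6) nil)) nil)) (cons (cons (cons (lf 13) (cons (lf 13) nil)) (cons (cons (lf 6) (cons (lf 21) nil)) nil)) (cons (cons (cons (lf 4) (cons (lf 13) nil)) (cons (cons (lf 18) (cons (lf 18) nil)) nil)) (cons (cons (cons (lf 28) (cons (lf 13) nil)) (cons (cons (lf 9) (cons (lf 12) nil)) nil)) (cons (cons (cons (lf 13) (cons (lf 14) nil)) (cons (cons (lf 18) (cons (lf 12) nil)) nil)) nil))))))))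

def cert10_0_0_7_0 : Cert :=
  (cons (cons (cons (lf 8) (cons (lf 18) nil)) (cons (cons (lf 4) (cons (lf 18) nil)) nil)) (cons (cons (cons (lf 12) (cons (lf 13) nil)) (cons (cons (lf 12) (cons (lf 13) nil)) nil)) (cons (cons (cons (lf 9) (cons (lf 28) nil)) (cons (cons (lf 9) (cons (lf 28) nil)) nil)) (cons (cons (cons (lf 28) (cons (lf 12) nil)) (cons (cons (lf 14) (cons (lf 12) nil)) nil)) (cons (cons (cons (lf 9) (cons (lf 6) nil)) (cons (cons (lf 9) (cons (lf 6) nil)) nil)) (cons (cons (cons (lf 7) (cons (lf 21) nil)) (cons (cons (lf 28) (cons (lf 21) nil)) nil)) (cons (cons (cons (lf 18) (cons (lf 13) nil)) (cons (cons (lf 9) (cons (lf 13) nil)) nil)) (cons (cons (cons (lf 14) (cons (lf 18) nil)) (cons (cons (lf 14) (cons (lf 18) nil)) nil)) nil))))))))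

def cert10_0_0_7_1 : Cert :=
  (cons (cons (cons (lf 14) (cons (lf 12) nil)) (cons (cons (lf 18) (cons (lf 8) nil)) nil)) (cons (cons (cons (lf 9) (cons (lf 6) nil)) (cons (cons (lf 13) (cons (lf 12) nil)) nil)) (cons (cons (cons (lf 13) (cons (lf 6) nil)) (cons (cons (lf 21) (cons (lf 8) nil)) nil)) (cons (cons (cons (lf 18) (cons (lf 13) nil)) (cons (cons (lf 13) (cons (lf 9) nil)) nil)) (cons (cons (cons (lf 8) (cons (lf 21) nil)) (cons (cons (lf 6) (cons (lf 13) nil)) nil)) (cons (cons (cons (lf 18) (cons (lf 13) nil)) (cons (cons (lf 13) (cons (lf 9) nil)) nil)) (cons (cons (cons (lf 12) (cons (lf 14) nil)) (cons (cons (lf 8) (cons (lf 18) nil)) nil)) (cons (cons (cons (lf 13) (cons (lf 12) nil)) (cons (cons (lf 9) (cons (lf 6) nil)) nil)) nil))))))))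

def cert10_0_0_7_2 : Cert :=
  (cons (cons (cons (lf 21) (cons (lf 13) nil)) (cons (cons (lf 6) (cons (lf 13) nil)) nil)) (cons (cons (cons (lf 18) (cons (lf 4) nil)) (cons (cons (lf 18) (cons (lf 13) nil)) nil)) (cons (cons (cons (lf 18) (cons (lf 4) nil)) (cons (cons (lf 18) (cons (lf 13) nil)) nil)) (cons (cons (cons (lf 6) (cons (lf 13) nil)) (cons (cons (lf 21) (cons (lf 13) nil)) nil)) (cons (cons (cons (lf 12) (cons (lf 28) nil)) (cons (cons (lf 9) (cons (lf 13) nil)) nil)) (cons (cons (cons (lf 12) (cons (lf 13) nil)) (cons (cons (lf 18) (cons (lf 14) nil)) nil)) (cons (cons (cons (lf 14) (cons (lf 18) nil)) (cons (cons (lf 13) (cons (lf 12) nil)) nil)) (cons (cons (cons (lf 28) (cons (lf 12) nil)) (cons (cons (lf 13) (cons (lf 9) nil)) nil)) nil))))))))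

def cert10_0_0_7_3 : Cert :=
  (cons (cons (cons (lf 9) (cons (lf 28) nil)) (cons (cons (lf 13) (cons (lf 12) nil)) nil)) (cons (cons (cons (lf 12) (cons (lf 14) nil)) (cons (cons (lf 13) (cons (lf 18) nil)) nil)) (cons (cons (cons (lf 13) (cons (lf 18) nil)) (cons (cons (lf 18) (cons (lf 4) nil)) nil)) (cons (cons (cons (lf 13) (cons (lf 21) nil)) (cons (cons (lf 6) (cons (lf 13) nil)) nil)) (cons (cons (cons (lf 14) (cons (lf 12) nil)) (cons (cons (lf 18) (cons (lf 13) nil)) nil)) (cons (cons (cons (lf 13) (cons (lf 12) nil)) (cons (cons (lf 9) (cons (lf 28) nil)) nil)) (cons (cons (cons (lf 13) (cons (lf 6) nil)) (cons (cons (lf 21) (cons (lf 13) nil)) nil)) (cons (cons (cons (lf 13) (cons (lf 18) nil)) (cons (cons (lf 18) (cons (lf 4) nil)) nil)) nil))))))))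

def cert10_0_0 : Cert :=
  (cons (cons cert10_0_0_0_0 (cons cert10_0_0_0_1 (cons cert10_0_0_0_2 (cons cert10_0_0_0_3 (cons cert10_0_0_0_4 (cons cert10_0_0_0_5 (cons cert10_0_0_0_6 (cons cert10_0_0_0_7 nil)))))))) (cons (cons cert10_0_0_1_0 (cons (sh 0x200040000c80) (cons cert10_0_0_1_2 (cons (sh 0x200040010c80) (cons cert10_0_0_1_4 (cons (sh 0x200040020c80) (cons cert10_0_0_1_6 (cons (sh 0x200040030c80) nil)))))))) (cons (cons cert10_0_0_2_0 (cons cert10_0_0_2_1 (cons (sh 0x200040000e80) (cons (sh 0x200040008680) (cons cert10_0_0_2_4 (cons cert10_0_0_2_5 (cons (sh 0x200040020e80) (cons (sh 0x200040028680) nil)))))))) (cons (cons cert10_0_0_3_0 (cons cert10_0_0_3_1 (cons (sh 0x200040008f00) (cons (sh 0x200040000f00) (cons cert10_0_0_3_4 (cons cert10_0_0_3_5 (cons (sh 0x200040028700) (cons (sh 0x200040020700) nil)))))))) (cons (cons cert10_0_0_4_0 (cons cert10_0_0_4_1 (cons cert10_0_0_4_2 (cons cert10_0_0_4_3 (cons (sh 0x200040000f80) (cons (sh 0x200040008780)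 (cons (sh 0x200040010780) (cons (sh 0x200040018f80) nil)))))))) (cons (cons cert10_0_0_5_0 (cons cert10_0_0_5_1 (cons cert10_0_0_5_2 (cons cert10_0_0_5_3 (cons (sh 0x200040008d00) (cons (sh 0x200040000d00) (cons (sh 0x200040018d00) (cons (sh 0x200040010d00) nil)))))))) (cons (cons cert10_0_0_6_0 (cons cert10_0_0_6_1 (cons cert10_0_0_6_2 (cons cert10_0_0_6_3 (cons (sh 0x200040010d80) (cons (sh 0x200040018580) (cons (sh 0x200040000d80) (cons (sh 0x200040008580) nil)))))))) (cons (cons cert10_0_0_7_0 (cons cert10_0_0_7_1 (cons cert10_0_0_7_2 (cons cert10_0_0_7_3 (cons (sh 0x200040018600) (cons (sh 0x200040010600) (cons (sh 0x200040008e00) (cons (sh 0x200040000e00) nil)))))))) nil))))))))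

def cert10_0_1_0_0 : Cert :=
  (cons (cons (cons (lf 2) (cons (lf 8) nil)) (cons (cons (lf 6) (cons (sh 0x200040000000) nil)) nil)) (cons (cons (cons (lf 6) (cons (lf 12) nil)) (cons (cons (lf 7) (cons (sh 0x200040000000) nil)) nil)) (cons (cons (cons (lf 18) (cons (lf 9) nil)) (cons (cons (lf 21) (cons (sh 0x200040000000) nil)) nil)) (cons (cons (cons (lf 14) (cons (lf 28) nil)) (cons (cons (lf 13) (cons (sh 0x200040000000) nil)) nil)) (cons (cons (cons (lf 18) (cons (lf 9) nil)) (cons (cons (lf 21) (cons (sh 0x200040000000) nil)) nil)) (cons (cons (cons (lf 14) (cons (lf 28) nil)) (cons (cons (lf 13) (cons (sh 0x200040000000) nil)) nil)) (cons (cons (cons (lf 18) (cons (lf 9) nil)) (cons (cons (lf 21) (cons (sh 0x200040000000) nil)) nil)) (cons (cons (cons (lf 14) (cons (lf 28) nil)) (cons (cons (lf 13) (cons (sh 0x200040000000) nil)) nil)) nil))))))))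

def cert10_0_1_0_1 : Cert :=
  (cons (cons (cons (lf 8) (cons (lf 4) nil)) (cons (cons (lf 12) (cons (sh 0x200040000000) nil)) nil)) (cons (cons (cons (lf 12) (cons (lf 12) nil)) (cons (cons (lf 6) (cons (sh 0x200040000000) nil)) nil)) (cons (cons (cons (lf 18) (cons (lf 9) nil)) (cons (cons (lf 28) (cons (sh 0x200040000000) nil)) nil)) (cons (cons (cons (lf 14) (cons (lf 14) nil)) (cons (cons (lf 21) (cons (sh 0x200040000000) nil)) nil)) (cons (cons (cons (lf 18) (cons (lf 9) nil)) (cons (cons (lf 28) (cons (sh 0x200040000000) nil)) nil)) (cons (cons (cons (lf 14) (cons (lf 14) nil)) (cons (cons (lf 21) (cons (sh 0x200040000000) nil)) nil)) (cons (cons (cons (lf 18) (cons (lf 9) nil)) (cons (cons (lf 28) (cons (sh 0x200040000000) nil)) nil)) (cons (cons (cons (lf 14) (cons (lf 14) nil)) (cons (cons (lf 21) (cons (sh 0x200040000000) nil)) nil)) nil))))))))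

def cert10_0_1_0_2 : Cert :=
  (cons (cons (cons (lf 4) (cons (lf 8) nil)) (cons (cons (lf 28) (cons (sh 0x200040000000) nil)) nil)) (cons (cons (cons (lf 3) (cons (lf 12) nil)) (cons (cons (lf 18) (cons (sh 0x200040000000) nil)) nil)) (cons (cons (cons (lf 18) (cons (lf 9) nil)) (cons (cons (lf 21) (cons (sh 0x200040000000) nil)) nil)) (cons (cons (cons (lf 28) (cons (lf 14) nil)) (cons (cons (lf 13) (cons (sh 0x200040000000) nil)) nil)) (cons (cons (cons (lf 18) (cons (lf 18) nil)) (cons (cons (lf 18) (cons (sh 0x200040000000) nil)) nil)) (cons (cons (cons (lf 14) (cons (lf 14) nil)) (cons (cons (lf 6) (cons (sh 0x200040000000) nil)) nil)) (cons (cons (cons (lf 9) (cons (lf 9) nil)) (cons (cons (lf 7) (cons (sh 0x200040000000) nil)) nil)) (cons (cons (cons (lf 14) (cons (lf 14) nil)) (cons (cons (lf 28) (cons (sh 0x200040000000) nil)) nil)) nil))))))))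

def cert10_0_1_0_3 : Cert :=
  (cons (cons (cons (lf 8) (cons (lf 4) nil)) (cons (cons (lf 21) (cons (sh 0x200040000000) nil)) nil)) (cons (cons (cons (lf 12) (cons (lf 12) nil)) (cons (cons (lf 28) (cons (sh 0x200040000000) nil)) nil)) (cons (cons (cons (lf 9) (cons (lf 18) nil)) (cons (cons (lf 28) (cons (sh 0x200040000000) nil)) nil)) (cons (cons (cons (lf 14) (cons (lf 14) nil)) (cons (cons (lf 21) (cons (sh 0x200040000000) nil)) nil)) (cons (cons (cons (lf 18) (cons (lf 18) nil)) (cons (cons (lf 13) (cons (sh 0x200040000000) nil)) nil)) (cons (cons (cons (lf 28) (cons (lf 7) nil)) (cons (cons (lf 7) (cons (sh 0x200040000000) nil)) nil)) (cons (cons (cons (lf 18) (cons (lf 18) nil)) (cons (cons (lf 8) (cons (sh 0x200040000000) nil)) nil)) (cons (cons (cons (lf 14) (cons (lf 28) nil)) (cons (cons (lf 18) (cons (sh 0x200040000000) nil)) nil)) nil))))))))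

def cert10_0_1_0_4 : Cert :=
  (cons (cons (cons (lf 4) (cons (lf 8) nil)) (cons (cons (lf 28) (cons (sh 0x200040000000) nil)) nil)) (cons (cons (cons (lf 3) (cons (lf 12) nil)) (cons (cons (lf 18) (cons (sh 0x200040000000) nil)) nil)) (cons (cons (cons (lf 9) (cons (lf 9) nil)) (cons (cons (lf 7) (cons (sh 0x200040000000) nil)) nil)) (cons (cons (cons (lf 14) (cons (lf 14) nil)) (cons (cons (lf 28) (cons (sh 0x200040000000) nil)) nil)) (cons (cons (cons (lf 18) (cons (lf 9) nil)) (cons (cons (lf 21) (cons (sh 0x200040000000) nil)) nil)) (cons (cons (cons (lf 28) (cons (lf 14) nil)) (cons (cons (lf 13) (cons (sh 0x200040000000) nil)) nil)) (cons (cons (cons (lf 18) (cons (lf 18) nil)) (cons (cons (lf 18) (cons (sh 0x200040000000) nil)) nil)) (cons (cons (cons (lf 14) (cons (lf 14) nil)) (cons (cons (lf 6) (cons (sh 0x200040000000) nil)) nil)) nil))))))))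

def cert10_0_1_0_5 : Cert :=
  (cons (cons (cons (lf 8) (cons (lf 4) nil)) (cons (cons (lf 21) (cons (sh 0x200040000000) nil)) nil)) (cons (cons (cons (lf 12) (cons (lf 12) nil)) (cons (cons (lf 28) (cons (sh 0x200040000000) nil)) nil)) (cons (cons (cons (lf 18) (cons (lf 18) nil)) (cons (cons (lf 8) (cons (sh 0x200040000000) nil)) nil)) (cons (cons (cons (lf 14) (cons (lf 28) nil)) (cons (cons (lf 18) (cons (sh 0x200040000000) nil)) nil)) (cons (cons (cons (lf 9) (cons (lf 18) nil)) (cons (cons (lf 28) (cons (sh 0x200040000000) nil)) nil)) (cons (cons (cons (lf 14) (cons (lf 14) nil)) (cons (cons (lf 21) (cons (sh 0x200040000000) nil)) nil)) (cons (cons (cons (lf 18) (cons (lf 18) nil)) (cons (cons (lf 13) (cons (sh 0x200040000000) nil)) nil)) (cons (cons (cons (lf 28) (cons (lf 7) nil)) (cons (cons (lf 7) (cons (sh 0x200040000000) nil)) nil)) nil))))))))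

def cert10_0_1_0_6 : Cert :=
  (cons (cons (cons (lf 4) (cons (lf 8) nil)) (cons (cons (lf 28) (cons (sh 0x200040000000) nil)) nil)) (cons (cons (cons (lf 3) (cons (lf 12) nil)) (cons (cons (lf 18) (cons (sh 0x200040000000) nil)) nil)) (cons (cons (cons (lf 18) (cons (lf 18) nil)) (cons (cons (lf 18) (cons (sh 0x200040000000) nil)) nil)) (cons (cons (cons (lf 14) (cons (lf 14) nil)) (cons (cons (lf 6) (cons (sh 0x200040000000) nil)) nil)) (cons (cons (cons (lf 9) (cons (lf 9) nil)) (cons (cons (lf 7) (cons (sh 0x200040000000) nil)) nil)) (cons (cons (cons (lf 14) (cons (lf 14) nil)) (cons (cons (lf 28) (cons (sh 0x200040000000) nil)) nil)) (cons (cons (cons (lf 18) (cons (lf 9) nil)) (cons (cons (lf 21) (cons (sh 0x200040000000) nil)) nil)) (cons (cons (cons (lf 28) (cons (lf 14) nil)) (cons (cons (lf 13) (cons (sh 0x200040000000) nil)) nil)) nil))))))))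

def cert10_0_1_0_7 : Cert :=
  (cons (cons (cons (lf 8) (cons (lf 4) nil)) (cons (cons (lf 21) (cons (sh 0x200040000000) nil)) nil)) (cons (cons (cons (lf 12) (cons (lf 12) nil)) (cons (cons (lf 28) (cons (sh 0x200040000000) nil)) nil)) (cons (cons (cons (lf 18) (cons (lf 18) nil)) (cons (cons (lf 13) (cons (sh 0x200040000000) nil)) nil)) (cons (cons (cons (lf 28) (cons (lf 7) nil)) (cons (cons (lf 7) (cons (sh 0x200040000000) nil)) nil)) (cons (cons (cons (lf 18) (cons (lf 18) nil)) (cons (cons (lf 8) (cons (sh 0x200040000000) nil)) nil)) (cons (cons (cons (lf 14) (cons (lf 28) nil)) (cons (cons (lf 18) (cons (sh 0x200040000000) nil)) nil)) (cons (cons (cons (lf 9) (cons (lf 18) nil)) (cons (cons (lf 28) (cons (sh 0x200040000000) nil)) nil)) (cons (cons (cons (lf 14) (cons (lf 14) nil)) (cons (cons (lf 21) (cons (sh 0x200040000000) nil)) nil)) nil))))))))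

def cert10_0_1_1_0 : Cert :=
  (cons (cons (cons (lf 6) (cons (lf 8) nil)) (cons (cons (lf 7) (cons (lf 3) nil)) nil)) (cons (cons (cons (lf 6) (cons (lf 12) nil)) (cons (cons (lf 6) (cons (lf 12) nil)) nil)) (cons (cons (cons (lf 13) (cons (lf 21) nil)) (cons (cons (lf 14) (cons (lf 18) nil)) nil)) (cons (cons (cons (lf 18) (cons (lf 13) nil)) (cons (cons (lf 18) (cons (lf 13) nil)) nil)) (cons (cons (cons (lf 13) (cons (lf 21) nil)) (cons (cons (lf 14) (cons (lf 18) nil)) nil)) (cons (cons (cons (lf 18) (cons (lf 13) nil)) (cons (cons (lf 18) (cons (lf 13) nil)) nil)) (cons (cons (cons (lf 13) (cons (lf 21) nil)) (cons (cons (lf 14) (cons (lf 18) nil)) nil)) (cons (cons (cons (lf 18) (cons (lf 13) nil)) (cons (cons (lf 18) (cons (lf 13) nil)) nil)) nil))))))))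

def cert10_0_1_1_2 : Cert :=
  (cons (cons (cons (lf 21) (cons (lf 13) nil)) (cons (cons (lf 12) (cons (lf 8) nil)) nil)) (cons (cons (cons (lf 6) (cons (lf 12) nil)) (cons (cons (lf 13) (cons (lf 18) nil)) nil)) (cons (cons (cons (lf 13) (cons (lf 21) nil)) (cons (cons (lf 8) (cons (lf 12) nil)) nil)) (cons (cons (cons (lf 18) (cons (lf 13) nil)) (cons (cons (lf 12) (cons (lf 6) nil)) nil)) (cons (cons (cons (lf 14) (cons (lf 18) nil)) (cons (cons (lf 13) (cons (lf 21) nil)) nil)) (cons (cons (cons (lf 7) (cons (lf 8) nil)) (cons (cons (lf 9) (cons (lf 13) nil)) nil)) (cons (cons (cons (lf 14) (cons (lf 18) nil)) (cons (cons (lf 13) (cons (lf 21) nil)) nil)) (cons (cons (cons (lf 9) (cons (lf 13) nil)) (cons (cons (lf 7) (cons (lf 8) nil)) nil)) nil))))))))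

def cert10_0_1_1_4 : Cert :=
  (cons (cons (cons (lf 21) (cons (lf 13) nil)) (cons (cons (lf 12) (cons (lf 8) nil)) nil)) (cons (cons (cons (lf 6) (cons (lf 12) nil)) (cons (cons (lf 13) (cons (lf 18) nil)) nil)) (cons (cons (cons (lf 14) (cons (lf 18) nil)) (cons (cons (lf 13) (cons (lf 21) nil)) nil)) (cons (cons (cons (lf 9) (cons (lf 13) nil)) (cons (cons (lf 7) (cons (lf 8) nil)) nil)) (cons (cons (cons (lf 13) (cons (lf 21) nil)) (cons (cons (lf 8) (cons (lf 12) nil)) nil)) (cons (cons (cons (lf 18) (cons (lf 13) nil)) (cons (cons (lf 12) (cons (lf 6) nil)) nil)) (cons (cons (cons (lf 14) (cons (lf 18) nil)) (cons (cons (lf 13) (cons (lf 21) nil)) nil)) (cons (cons (cons (lf 7) (cons (lf 8) nil)) (cons (cons (lf 9) (cons (lf 13) nil)) nil)) nil))))))))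

def cert10_0_1_1_6 : Cert :=
  (cons (cons (cons (lf 21) (cons (lf 13) nil)) (cons (cons (lf 12) (cons (lf 8) nil)) nil)) (cons (cons (cons (lf 6) (cons (lf 12) nil)) (cons (cons (lf 13) (cons (lf 18) nil)) nil)) (cons (cons (cons (lf 14) (cons (lf 18) nil)) (cons (cons (lf 13) (cons (lf 21) nil)) nil)) (cons (cons (cons (lf 7) (cons (lf 8) nil)) (cons (cons (lf 9) (cons (lf 13) nil)) nil)) (cons (cons (cons (lf 14) (cons (lf 18) nil)) (cons (cons (lf 13) (cons (lf 21) nil)) nil)) (cons (cons (cons (lf 9) (cons (lf 13) nil)) (cons (cons (lf 7) (cons (lf 8) nil)) nil)) (cons (cons (cons (lf 13) (cons (lf 21) nil)) (cons (cons (lf 8) (cons (lf 12) nil)) nil)) (cons (cons (cons (lf 18) (cons (lf 13) nil)) (cons (cons (lf 12) (cons (lf 6) nil)) nil)) nil))))))))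

def cert10_0_1_2_0 : Cert :=
  (cons (cons (cons (lf 18) (cons (lf 21) nil)) (cons (cons (lf 21) (cons (lf 9) nil)) nil)) (cons (cons (cons (lf 13) (cons (lf 28) nil)) (cons (cons (lf 14) (cons (lf 13) nil)) nil)) (cons (cons (cons (lf 6) (cons (lf 13) nil)) (cons (cons (lf 8) (cons (lf 14) nil)) nil)) (cons (cons (cons (lf 9) (cons (lf 12) nil)) (cons (cons (lf 21) (cons (lf 7) nil)) nil)) (cons (cons (cons (lf 13) (cons (lf 8) nil)) (cons (cons (lf 13) (cons (lf 8) nil)) nil)) (cons (cons (cons (lf 18) (cons (lf 18) nil)) (cons (cons (lf 18) (cons (lf 18) nil)) nil)) (cons (cons (cons (lf 13) (cons (lf 13) nil)) (cons (cons (lf 13) (cons (lf 13) nil)) nil)) (cons (cons (cons (lf 12) (cons (lf 21) nil)) (cons (cons (lf 12) (cons (lf 21) nil)) nil)) nil))))))))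

def cert10_0_1_2_1 : Cert :=
  (cons (cons (cons (lf 18) (cons (lf 9) nil)) (cons (cons (lf 28) (cons (lf 28) nil)) nil)) (cons (cons (cons (lf 13) (cons (lf 13) nil)) (cons (cons (lf 18) (cons (lf 18) nil)) nil)) (cons (cons (cons (lf 28) (cons (lf 28) nil)) (cons (cons (lf 18) (cons (lf 9) nil)) nil)) (cons (cons (cons (lf 18) (cons (lf 18) nil)) (cons (cons (lf 13) (cons (lf 13) nil)) nil)) (cons (cons (cons (lf 18) (cons (lf 12) nil)) (cons (cons (lf 13) (cons (lf 6) nil)) nil)) (cons (cons (cons (lf 28) (cons (lf 13) nil)) (cons (cons (lf 9) (cons (lf 21) nil)) nil)) (cons (cons (cons (lf 18) (cons (lf 12) nil)) (cons (cons (lf 13) (cons (lf 6) nil)) nil)) (cons (cons (cons (lf 13) (cons (lf 28) nil)) (cons (cons (lf 21) (cons (lf 9) nil)) nil)) nil))))))))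

def cert10_0_1_2_4 : Cert :=
  (cons (cons (cons (lf 14) (cons (lf 13) nil)) (cons (cons (lf 6) (cons (lf 13) nil)) nil)) (cons (cons (cons (lf 13) (cons (lf 14) nil)) (cons (cons (lf 13) (cons (lf 6) nil)) nil)) (cons (cons (cons (lf 18) (cons (lf 21) nil)) (cons (cons (lf 12) (cons (lf 18) nil)) nil)) (cons (cons (cons (lf 18) (cons (lf 21) nil)) (cons (cons (lf 12) (cons (lf 18) nil)) nil)) (cons (cons (cons (lf 28) (cons (lf 28) nil)) (cons (cons (lf 4) (cons (lf 13) nil)) nil)) (cons (cons (cons (lf 13) (cons (lf 4) nil)) (cons (cons (lf 28) (cons (lf 28) nil)) nil)) (cons (cons (cons (lf 13) (cons (lf 13) nil)) (cons (cons (lf 8) (cons (lf 13) nil)) nil)) (cons (cons (cons (lf 8) (cons (lf 13) nil)) (cons (cons (lf 13) (cons (lf 13) nil)) nil)) nil))))))))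

def cert10_0_1_2_5 : Cert :=
  (cons (cons (cons (lf 13) (cons (lf 13) nil)) (cons (cons (lf 21) (cons (lf 12) nil)) nil)) (cons (cons (cons (lf 28) (cons (lf 28) nil)) (cons (cons (lf 6) (cons (lf 21) nil)) nil)) (cons (cons (cons (lf 21) (cons (lf 6) nil)) (cons (cons (lf 28) (cons (lf 28) nil)) nil)) (cons (cons (cons (lf 21) (cons (lf 12) nil)) (cons (cons (lf 13) (cons (lf 13) nil)) nil)) (cons (cons (cons (lf 18) (cons (lf 21) nil)) (cons (cons (lf 8) (cons (lf 14) nil)) nil)) (cons (cons (cons (lf 18) (cons (lf 12) nil)) (cons (cons (lf 28) (cons (lf 13) nil)) nil)) (cons (cons (cons (lf 12) (cons (lf 18) nil)) (cons (cons (lf 13) (cons (lf 28) nil)) nil)) (cons (cons (cons (lf 18) (cons (lf 21) nil)) (cons (cons (lf 8) (cons (lf 14) nil)) nil)) nil))))))))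

def cert10_0_1_3_0 : Cert :=
  (cons (cons (cons (lf 14) (cons (lf 18) nil)) (cons (cons (lf 13) (cons (lf 21) nil)) nil)) (cons (cons (cons (lf 18) (cons (lf 13) nil)) (cons (cons (lf 18) (cons (lf 13) nil)) nil)) (cons (cons (cons (lf 9) (cons (lf 6) nil)) (cons (cons (lf 21) (cons (lf 8) nil)) nil)) (cons (cons (cons (lf 8) (cons (lf 18) nil)) (cons (cons (lf 8) (cons (lf 18) nil)) nil)) (cons (cons (cons (lf 12) (cons (lf 28) nil)) (cons (cons (lf 12) (cons (lf 28) nil)) nil)) (cons (cons (cons (lf 28) (cons (lf 9) nil)) (cons (cons (lf 13) (cons (lf 21) nil)) nil)) (cons (cons (cons (lf 18) (cons (lf 13) nil)) (cons (cons (lf 18) (cons (lf 13) nil)) nil)) (cons (cons (cons (lf 28) (cons (lf 7) nil)) (cons (cons (lf 13) (cons (lf 6) nil)) nil)) nil))))))))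

def cert10_0_1_3_1 : Cert :=
  (cons (cons (cons (lf 13) (cons (lf 21) nil)) (cons (cons (lf 18) (cons (lf 14) nil)) nil)) (cons (cons (cons (lf 18) (cons (lf 13) nil)) (cons (cons (lf 13) (cons (lf 18) nil)) nil)) (cons (cons (cons (lf 21) (cons (lf 13) nil)) (cons (cons (lf 14) (cons (lf 18) nil)) nil)) (cons (cons (cons (lf 13) (cons (lf 18) nil)) (cons (cons (lf 18) (cons (lf 13) nil)) nil)) (cons (cons (cons (lf 28) (cons (lf 21) nil)) (cons (cons (lf 9) (cons (lf 13) nil)) nil)) (cons (cons (cons (lf 12) (cons (lf 13) nil)) (cons (cons (lf 8) (cons (lf 21) nil)) nil)) (cons (cons (cons (lf 13) (cons (lf 9) nil)) (cons (cons (lf 21) (cons (lf 28) nil)) nil)) (cons (cons (cons (lf 12) (cons (lf 13) nil)) (cons (cons (lf 8) (cons (lf 21) nil)) nil)) nil))))))))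

def cert10_0_1_3_4 : Cert :=
  (cons (cons (cons (lf 18) (cons (lf 4) nil)) (cons (cons (lf 21) (cons (lf 28) nil)) nil)) (cons (cons (cons (lf 21) (cons (lf 13) nil)) (cons (cons (lf 12) (cons (lf 13) nil)) nil)) (cons (cons (cons (lf 8) (cons (lf 18) nil)) (cons (cons (lf 13) (cons (lf 18) nil)) nil)) (cons (cons (cons (lf 28) (cons (lf 9) nil)) (cons (cons (lf 8) (cons (lf 21) nil)) nil)) (cons (cons (cons (lf 21) (cons (lf 13) nil)) (cons (cons (lf 12) (cons (lf 13) nil)) nil)) (cons (cons (cons (lf 21) (cons (lf 28) nil)) (cons (cons (lf 18) (cons (lf 4) nil)) nil)) (cons (cons (cons (lf 9) (cons (lf 28) nil)) (cons (cons (lf 21) (cons (lf 8) nil)) nil)) (cons (cons (cons (lf 18) (cons (lf 13) nil)) (cons (cons (lf 18) (cons (lf 8) nil)) nil)) nil))))))))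

def cert10_0_1_3_5 : Cert :=
  (cons (cons (cons (lf 12) (cons (lf 28) nil)) (cons (cons (lf 13) (cons (lf 18) nil)) nil)) (cons (cons (cons (lf 21) (cons (lf 13) nil)) (cons (cons (lf 13) (cons (lf 12) nil)) nil)) (cons (cons (cons (lf 28) (cons (lf 21) nil)) (cons (cons (lf 12) (cons (lf 14) nil)) nil)) (cons (cons (cons (lf 6) (cons (lf 9) nil)) (cons (cons (lf 21) (cons (lf 13) nil)) nil)) (cons (cons (cons (lf 6) (cons (lf 9) nil)) (cons (cons (lf 21) (cons (lf 13) nil)) nil)) (cons (cons (cons (lf 14) (cons (lf 12) nil)) (cons (cons (lf 21) (cons (lf 28) nil)) nil)) (cons (cons (cons (lf 13) (cons (lf 21) nil)) (cons (cons (lf 12) (cons (lf 13) nil)) nil)) (cons (cons (cons (lf 13) (cons (lf 18) nil)) (cons (cons (lf 12) (cons (lf 28) nil)) nil)) nil))))))))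

def cert10_0_1_4_0 : Cert :=
  (cons (cons (cons (lf 18) (cons (lf 21) nil)) (cons (cons (lf 21) (cons (lf 9) nil)) nil)) (cons (cons (cons (lf 13) (cons (lf 28) nil)) (cons (cons (lf 14) (cons (lf 13) nil)) nil)) (cons (cons (cons (lf 13) (cons (lf 13) nil)) (cons (cons (lf 13) (cons (lf 13) nil)) nil)) (cons (cons (cons (lf 12) (cons (lf 21) nil)) (cons (cons (lf 12) (cons (lf 21) nil)) nil)) (cons (cons (cons (lf 6) (cons (lf 13) nil)) (cons (cons (lf 8) (cons (lf 14) nil)) nil)) (cons (cons (cons (lf 9) (cons (lf 12) nil)) (cons (cons (lf 21) (cons (lf 7) nil)) nil)) (cons (cons (cons (lf 13) (cons (lf 8) nil)) (cons (cons (lf 13) (cons (lf 8) nil)) nil)) (cons (cons (cons (lf 18) (cons (lf 18) nil)) (cons (cons (lf 18) (cons (lf 18) nil)) nil)) nil))))))))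

def cert10_0_1_4_1 : Cert :=
  (cons (cons (cons (lf 18) (cons (lf 9) nil)) (cons (cons (lf 28) (cons (lf 28) nil)) nil)) (cons (cons (cons (lf 13) (cons (lf 13) nil)) (cons (cons (lf 18) (cons (lf 18) nil)) nil)) (cons (cons (cons (lf 18) (cons (lf 12) nil)) (cons (cons (lf 13) (cons (lf 6) nil)) nil)) (cons (cons (cons (lf 13) (cons (lf 28) nil)) (cons (cons (lf 21) (cons (lf 9) nil)) nil)) (cons (cons (cons (lf 28) (cons (lf 28) nil)) (cons (cons (lf 18) (cons (lf 9) nil)) nil)) (cons (cons (cons (lf 18) (cons (lf 18) nil)) (cons (cons (lf 13) (cons (lf 13) nil)) nil)) (cons (cons (cons (lf 18) (cons (lf 12) nil)) (cons (cons (lf 13) (cons (lf 6) nil)) nil)) (cons (cons (cons (lf 28) (cons (lf 13) nil)) (cons (cons (lf 9) (cons (lf 21) nil)) nil)) nil))))))))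

def cert10_0_1_4_2 : Cert :=
  (cons (cons (cons (lf 28) (cons (lf 28) nil)) (cons (cons (lf 13) (cons (lf 4) nil)) nil)) (cons (cons (cons (lf 13) (cons (lf 4) nil)) (cons (cons (lf 28) (cons (lf 28) nil)) nil)) (cons (cons (cons (lf 18) (cons (lf 12) nil)) (cons (cons (lf 18) (cons (lf 21) nil)) nil)) (cons (cons (cons (lf 18) (cons (lf 12) nil)) (cons (cons (lf 18) (cons (lf 21) nil)) nil)) (cons (cons (cons (lf 13) (cons (lf 13) nil)) (cons (cons (lf 8) (cons (lf 13) nil)) nil)) (cons (cons (cons (lf 13) (cons (lf 8) nil)) (cons (cons (lf 13) (cons (lf 13) nil)) nil)) (cons (cons (cons (lf 6) (cons (lf 13) nil)) (cons (cons (lf 13) (cons (lf 14) nil)) nil)) (cons (cons (cons (lf 13) (cons (lf 6) nil)) (cons (cons (lf 14) (cons (lf 13) nil)) nil)) nil))))))))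

def cert10_0_1_4_3 : Cert :=
  (cons (cons (cons (lf 28) (cons (lf 13) nil)) (cons (cons (lf 12) (cons (lf 18) nil)) nil)) (cons (cons (cons (lf 8) (cons (lf 14) nil)) (cons (cons (lf 21) (cons (lf 18) nil)) nil)) (cons (cons (cons (lf 13) (cons (lf 13) nil)) (cons (cons (lf 12) (cons (lf 21) nil)) nil)) (cons (cons (cons (lf 28) (cons (lf 28) nil)) (cons (cons (lf 6) (cons (lf 21) nil)) nil)) (cons (cons (cons (lf 8) (cons (lf 14) nil)) (cons (cons (lf 21) (cons (lf 18) nil)) nil)) (cons (cons (cons (lf 13) (cons (lf 28) nil)) (cons (cons (lf 18) (cons (lf 12) nil)) nil)) (cons (cons (cons (lf 6) (cons (lf 21) nil)) (cons (cons (lf 28) (cons (lf 28) nil)) nil)) (cons (cons (cons (lf 21) (cons (lf 12) nil)) (cons (cons (lf 13) (cons (lf 13) nil)) nil)) nil))))))))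

def cert10_0_1_5_0 : Cert :=
  (cons (cons (cons (lf 14) (cons (lf 18) nil)) (cons (cons (lf 13) (cons (lf 21) nil)) nil)) (cons (cons (cons (lf 18) (cons (lf 13) nil)) (cons (cons (lf 18) (cons (lf 13) nil)) nil)) (cons (cons (cons (lf 18) (cons (lf 13) nil)) (cons (cons (lf 18) (cons (lf 13) nil)) nil)) (cons (cons (cons (lf 28) (cons (lf 7) nil)) (cons (cons (lf 13) (cons (lf 6) nil)) nil)) (cons (cons (cons (lf 9) (cons (lf 6) nil)) (cons (cons (lf 21) (cons (lf 8) nil)) nil)) (cons (cons (cons (lf 8) (cons (lf 18) nil)) (cons (cons (lf 8) (cons (lf 18) nil)) nil)) (cons (cons (cons (lf 12) (cons (lf 28) nil)) (cons (cons (lf 12) (cons (lf 28) nil)) nil)) (cons (cons (cons (lf 28) (cons (lf 9) nil)) (cons (cons (lf 13) (cons (lf 21) nil)) nil)) nil))))))))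

def cert10_0_1_5_1 : Cert :=
  (cons (cons (cons (lf 13) (cons (lf 21) nil)) (cons (cons (lf 18) (cons (lf 14) nil)) nil)) (cons (cons (cons (lf 18) (cons (lf 13) nil)) (cons (cons (lf 13) (cons (lf 18) nil)) nil)) (cons (cons (cons (lf 13) (cons (lf 9) nil)) (cons (cons (lf 21) (cons (lf 28) nil)) nil)) (cons (cons (cons (lf 12) (cons (lf 13) nil)) (cons (cons (lf 8) (cons (lf 21) nil)) nil)) (cons (cons (cons (lf 21) (cons (lf 13) nil)) (cons (cons (lf 14) (cons (lf 18) nil)) nil)) (cons (cons (cons (lf 13) (cons (lf 18) nil)) (cons (cons (lf 18) (cons (lf 13) nil)) nil)) (cons (cons (cons (lf 28) (cons (lf 21) nil)) (cons (cons (lf 9) (cons (lf 13) nil)) nil)) (cons (cons (cons (lf 12) (cons (lf 13) nil)) (cons (cons (lf 8) (cons (lf 21) nil)) nil)) nil))))))))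

def cert10_0_1_5_2 : Cert :=
  (cons (cons (cons (lf 12) (cons (lf 13) nil)) (cons (cons (lf 21) (cons (lf 13) nil)) nil)) (cons (cons (cons (lf 12) (cons (lf 28) nil)) (cons (cons (lf 18) (cons (lf 13) nil)) nil)) (cons (cons (cons (lf 13) (cons (lf 18) nil)) (cons (cons (lf 28) (cons (lf 12) nil)) nil)) (cons (cons (cons (lf 13) (cons (lf 12) nil)) (cons (cons (lf 13) (cons (lf 21) nil)) nil)) (cons (cons (cons (lf 21) (cons (lf 13) nil)) (cons (cons (lf 9) (cons (lf 6) nil)) nil)) (cons (cons (cons (lf 21) (cons (lf 28) nil)) (cons (cons (lf 12) (cons (lf 14) nil)) nil)) (cons (cons (cons (lf 12) (cons (lf 14) nil)) (cons (cons (lf 21) (cons (lf 28) nil)) nil)) (cons (cons (cons (lf 21) (cons (lf 13) nil)) (cons (cons (lf 9) (cons (lf 6) nil)) nil)) nil))))))))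

def cert10_0_1_5_3 : Cert :=
  (cons (cons (cons (lf 21) (cons (lf 8) nil)) (cons (cons (lf 28) (cons (lf 9) nil)) nil)) (cons (cons (cons (lf 18) (cons (lf 8) nil)) (cons (cons (lf 13) (cons (lf 18) nil)) nil)) (cons (cons (cons (lf 21) (cons (lf 28) nil)) (cons (cons (lf 4) (cons (lf 18) nil)) nil)) (cons (cons (cons (lf 12) (cons (lf 13) nil)) (cons (cons (lf 13) (cons (lf 21) nil)) nil)) (cons (cons (cons (lf 12) (cons (lf 13) nil)) (cons (cons (lf 13) (cons (lf 21) nil)) nil)) (cons (cons (cons (lf 18) (cons (lf 4) nil)) (cons (cons (lf 28) (cons (lf 21) nil)) nil)) (cons (cons (cons (lf 13) (cons (lf 18) nil)) (cons (cons (lf 18) (cons (lf 8) nil)) nil)) (cons (cons (cons (lf 8) (cons (lf 21) nil)) (cons (cons (lf 9) (cons (lf 28) nil)) nil)) nil))))))))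

def cert10_0_1_6_0 : Cert :=
  (cons (cons (cons (lf 18) (cons (lf 21) nil)) (cons (cons (lf 21) (cons (lf 9) nil)) nil)) (cons (cons (cons (lf 13) (cons (lf 28) nil)) (cons (cons (lf 14) (cons (lf 13) nil)) nil)) (cons (cons (cons (lf 13) (cons (lf 8) nil)) (cons (cons (lf 13) (cons (lf 8) nil)) nil)) (cons (cons (cons (lf 18) (cons (lf 18) nil)) (cons (cons (lf 18) (cons (lf 18) nil)) nil)) (cons (cons (cons (lf 13) (cons (lf 13) nil)) (cons (cons (lf 13) (cons (lf 13) nil)) nil)) (cons (cons (cons (lf 12) (cons (lf 21) nil)) (cons (cons (lf 12) (cons (lf 21) nil)) nil)) (cons (cons (cons (lf 6) (cons (lf 13) nil)) (cons (cons (lf 8) (cons (lf 14) nil)) nil)) (cons (cons (cons (lf 9) (cons (lf 12) nil)) (cons (cons (lf 21) (cons (lf 7) nil)) nil)) nil))))))))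

def cert10_0_1_6_1 : Cert :=
  (cons (cons (cons (lf 18) (cons (lf 9) nil)) (cons (cons (lf 28) (cons (lf 28) nil)) nil)) (cons (cons (cons (lf 13) (cons (lf 13) nil)) (cons (cons (lf 18) (cons (lf 18) nil)) nil)) (cons (cons (cons (lf 18) (cons (lf 12) nil)) (cons (cons (lf 13) (cons (lf 6) nil)) nil)) (cons (cons (cons (lf 28) (cons (lf 13) nil)) (cons (cons (lf 9) (cons (lf 21) nil)) nil)) (cons (cons (cons (lf 18) (cons (lf 12) nil)) (cons (cons (lf 13) (cons (lf 6) nil)) nil)) (cons (cons (cons (lf 13) (cons (lf 28) nil)) (cons (cons (lf 21) (cons (lf 9) nil)) nil)) (cons (cons (cons (lf 28) (cons (lf 28) nil)) (cons (cons (lf 18) (cons (lf 9) nil)) nil)) (cons (cons (cons (lf 18) (cons (lf 18) nil)) (cons (cons (lf 13) (cons (lf 13) nil)) nil)) nil))))))))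

def cert10_0_1_6_2 : Cert :=
  (cons (cons (cons (lf 14) (cons (lf 13) nil)) (cons (cons (lf 6) (cons (lf 13) nil)) nil)) (cons (cons (cons (lf 13) (cons (lf 14) nil)) (cons (cons (lf 13) (cons (lf 6) nil)) nil)) (cons (cons (cons (lf 28) (cons (lf 28) nil)) (cons (cons (lf 4) (cons (lf 13) nil)) nil)) (cons (cons (cons (lf 13) (cons (lf 4) nil)) (cons (cons (lf 28) (cons (lf 28) nil)) nil)) (cons (cons (cons (lf 13) (cons (lf 13) nil)) (cons (cons (lf 8) (cons (lf 13) nil)) nil)) (cons (cons (cons (lf 8) (cons (lf 13) nil)) (cons (cons (lf 13) (cons (lf 13) nil)) nil)) (cons (cons (cons (lf 18) (cons (lf 21) nil)) (cons (cons (lf 12) (cons (lf 18) nil)) nil)) (cons (cons (cons (lf 18) (cons (lf 21) nil)) (cons (cons (lf 12) (cons (lf 18) nil)) nil)) nil))))))))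

def cert10_0_1_6_3 : Cert :=
  (cons (cons (cons (lf 13) (cons (lf 13) nil)) (cons (cons (lf 21) (cons (lf 12) nil)) nil)) (cons (cons (cons (lf 28) (cons (lf 28) nil)) (cons (cons (lf 6) (cons (lf 21) nil)) nil)) (cons (cons (cons (lf 18) (cons (lf 21) nil)) (cons (cons (lf 8) (cons (lf 14) nil)) nil)) (cons (cons (cons (lf 18) (cons (lf 12) nil)) (cons (cons (lf 28) (cons (lf 13) nil)) nil)) (cons (cons (cons (lf 12) (cons (lf 18) nil)) (cons (cons (lf 13) (cons (lf 28) nil)) nil)) (cons (cons (cons (lf 18) (cons (lf 21) nil)) (cons (cons (lf 8) (cons (lf 14) nil)) nil)) (cons (cons (cons (lf 21) (cons (lf 6) nil)) (cons (cons (lf 28) (cons (lf 28) nil)) nil)) (cons (cons (cons (lf 21) (cons (lf 12) nil)) (cons (cons (lf 13) (cons (lf 13) nil)) nil)) nil))))))))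

def cert10_0_1_7_0 : Cert :=
  (cons (cons (cons (lf 14) (cons (lf 18) nil)) (cons (cons (lf 13) (cons (lf 21) nil)) nil)) (cons (cons (cons (lf 18) (cons (lf 13) nil)) (cons (cons (lf 18) (cons (lf 13) nil)) nil)) (cons (cons (cons (lf 12) (cons (lf 28) nil)) (cons (cons (lf 12) (cons (lf 28) nil)) nil)) (cons (cons (cons (lf 28) (cons (lf 9) nil)) (cons (cons (lf 13) (cons (lf 21) nil)) nil)) (cons (cons (cons (lf 18) (cons (lf 13) nil)) (cons (cons (lf 18) (cons (lf 13) nil)) nil)) (cons (cons (cons (lf 28) (cons (lf 7) nil)) (cons (cons (lf 13) (cons (lf 6) nil)) nil)) (cons (cons (cons (lf 9) (cons (lf 6) nil)) (cons (cons (lf 21) (cons (lf 8) nil)) nil)) (cons (cons (cons (lf 8) (cons (lf 18) nil)) (cons (cons (lf 8) (cons (lf 18) nil)) nil)) nil))))))))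

def cert10_0_1_7_1 : Cert :=
  (cons (cons (cons (lf 13) (cons (lf 21) nil)) (cons (cons (lf 18) (cons (lf 14) nil)) nil)) (cons (cons (cons (lf 18) (cons (lf 13) nil)) (cons (cons (lf 13) (cons (lf 18) nil)) nil)) (cons (cons (cons (lf 28) (cons (lf 21) nil)) (cons (cons (lf 9) (cons (lf 13) nil)) nil)) (cons (cons (cons (lf 12) (cons (lf 13) nil)) (cons (cons (lf 8) (cons (lf 21) nil)) nil)) (cons (cons (cons (lf 13) (cons (lf 9) nil)) (cons (cons (lf 21) (cons (lf 28) nil)) nil)) (cons (cons (cons (lf 12) (cons (lf 13) nil)) (cons (cons (lf 8) (cons (lf 21) nil)) nil)) (cons (cons (cons (lf 21) (cons (lf 13) nil)) (cons (cons (lf 14) (cons (lf 18) nil)) nil)) (cons (cons (cons (lf 13) (cons (lf 18) nil)) (cons (cons (lf 18) (cons (lf 13) nil)) nil)) nil))))))))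

def cert10_0_1_7_2 : Cert :=
  (cons (cons (cons (lf 18) (cons (lf 4) nil)) (cons (cons (lf 21) (cons (lf 28) nil)) nil)) (cons (cons (cons (lf 21) (cons (lf 13) nil)) (cons (cons (lf 12) (cons (lf 13) nil)) nil)) (cons (cons (cons (lf 21) (cons (lf 13) nil)) (cons (cons (lf 12) (cons (lf 13) nil)) nil)) (cons (cons (cons (lf 21) (cons (lf 28) nil)) (cons (cons (lf 18) (cons (lf 4) nil)) nil)) (cons (cons (cons (lf 9) (cons (lf 28) nil)) (cons (cons (lf 21) (cons (lf 8) nil)) nil)) (cons (cons (cons (lf 18) (cons (lf 13) nil)) (cons (cons (lf 18) (cons (lf 8) nil)) nil)) (cons (cons (cons (lf 8) (cons (lf 18) nil)) (cons (cons (lf 13) (cons (lf 18) nil)) nil)) (cons (cons (cons (lf 28) (cons (lf 9) nil)) (cons (cons (lf 8) (cons (lf 21) nil)) nil)) nil))))))))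

def cert10_0_1_7_3 : Cert :=
  (cons (cons (cons (lf 12) (cons (lf 28) nil)) (cons (cons (lf 13) (cons (lf 18) nil)) nil)) (cons (cons (cons (lf 21) (cons (lf 13) nil)) (cons (cons (lf 13) (cons (lf 12) nil)) nil)) (cons (cons (cons (lf 6) (cons (lf 9) nil)) (cons (cons (lf 21) (cons (lf 13) nil)) nil)) (cons (cons (cons (lf 14) (cons (lf 12) nil)) (cons (cons (lf 21) (cons (lf 28) nil)) nil)) (cons (cons (cons (lf 13) (cons (lf 21) nil)) (cons (cons (lf 12) (cons (lf 13) nil)) nil)) (cons (cons (cons (lf 13) (cons (lf 18) nil)) (cons (cons (lf 12) (cons (lf 28) nil)) nil)) (cons (cons (cons (lf 28) (cons (lf 21) nil)) (cons (cons (lf 12) (cons (lf 14) nil)) nil)) (cons (cons (cons (lf 6) (cons (lf 9) nil)) (cons (cons (lf 21) (cons (lf 13) nil)) nil)) nil))))))))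

def cert10_0_1 : Cert :=
  (cons (cons cert10_0_1_0_0 (cons cert10_0_1_0_1 (cons cert10_0_1_0_2 (cons cert10_0_1_0_3 (cons cert10_0_1_0_4 (cons cert10_0_1_0_5 (cons cert10_0_1_0_6 (cons cert10_0_1_0_7 nil)))))))) (cons (cons cert10_0_1_1_0 (cons (sh 0x200040000c80) (cons cert10_0_1_1_2 (cons (sh 0x200040010c80) (cons cert10_0_1_1_4 (cons (sh 0x200040020c80) (cons cert10_0_1_1_6 (cons (sh 0x200040030c80) nil)))))))) (cons (cons cert10_0_1_2_0 (cons cert10_0_1_2_1 (cons (sh 0x200040000e80) (cons (sh 0x200040008680) (cons cert10_0_1_2_4 (cons cert10_0_1_2_5 (cons (sh 0x200040020e80) (cons (sh 0x200040028680) nil)))))))) (cons (cons cert10_0_1_3_0 (cons cert10_0_1_3_1 (cons (sh 0x200040008f00) (cons (sh 0x200040000f00) (cons cert10_0_1_3_4 (cons cert10_0_1_3_5 (cons (sh 0x200040028700) (cons (sh 0x200040020700) nil)))))))) (cons (cons cert10_0_1_4_0 (cons cert10_0_1_4_1 (cons cert10_0_1_4_2 (cons cert10_0_1_4_3 (cons (sh 0x200040000f80) (cons (sh 0x200040008780)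 (cons (sh 0x200040010780) (cons (sh 0x200040018f80) nil)))))))) (cons (cons cert10_0_1_5_0 (cons cert10_0_1_5_1 (cons cert10_0_1_5_2 (cons cert10_0_1_5_3 (cons (sh 0x200040008d00) (cons (sh 0x200040000d00) (cons (sh 0x200040018d00) (cons (sh 0x200040010d00) nil)))))))) (cons (cons cert10_0_1_6_0 (cons cert10_0_1_6_1 (cons cert10_0_1_6_2 (cons cert10_0_1_6_3 (cons (sh 0x200040010d80) (cons (sh 0x200040018580) (cons (sh 0x200040000d80) (cons (sh 0x200040008580) nil)))))))) (cons (cons cert10_0_1_7_0 (cons cert10_0_1_7_1 (cons cert10_0_1_7_2 (cons cert10_0_1_7_3 (cons (sh 0x200040018600) (cons (sh 0x200040010600) (cons (sh 0x200040008e00) (cons (sh 0x200040000e00) nil)))))))) nil))))))))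

def cert10 : Cert :=
  (cons (cons cert10_0_0 (cons cert10_0_1 nil)) (cons (sh 0x600100000000000) (cons (sh 0xc00040000000000) (cons (sh 0x400140000000000) (cons (sh 0xa00080000000000) (cons (sh 0x200180000000000) (cons (sh 0x8000c0000000000) nil)))))))

end Cfsg.Agent.InvChar.Iso3D4
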